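import Cfsg.Agent.H24.Tensor.OmMain

/-!
The maximality of `O ⊗ O` stabilisers in Ω from the forms of the statement.
-/

set_option autoImplicit false

namespace Cfsg.Agent.H24.Tensor

open Module Matrix QuadraticMap Cfsg.Agent.H96 Cfsg.Agent.Orthogonal

variable {F : Type*} [Field F] [Fintype F]

theorem two_ne_of_odd (hodd : Odd (Fintype.card F)) : (2 : F) ≠ 0 := fun h => by
  have : CharP F 2 := CharTwo.of_one_ne_zero_of_two_eq_zero one_ne_zero h
  have h2 := FiniteField.even_card_of_char_two (F := F) ((CharP.eq F (ringChar.charP F) inferInstance))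
  rw [Nat.odd_iff] at hodd
  omega

theorem exists_sq_ne_one (hodd : Odd (Fintype.card F)) (h : Fintype.card F ≠ 3) :
    ∃ t : F, t ≠ 0 ∧ t * t ≠ 1 := by
  classical
  by_contra hc
  push Not at hc
  have hsub : (Finset.univ : Finset F) ⊆ {0, 1, -1} := fun t _ => by
    rcases eq_or_ne t 0 with rfl | ht
    · simp
    rcases mul_self_eq_one_iff.1 (hc t ht) with rfl | rfl <;> simp
  have h3 := (Finset.card_le_card hsub).trans Finset.card_le_three
  rw [Finset.card_univ] at h3
  have h1 := Fintype.one_lt_card (α := F)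
  rw [Nat.odd_iff] at hodd
  omega

variable {ι : Type} [Fintype ι] [DecidableEq ι] {a b : ℕ}

/-- The smaller factor `a ≥ 3`, the larger `b ≥ 5`; a four-dimensional smaller factor is of minus type. -/
theorem om_maximal {Q : QuadraticForm F (ι → F)} (hQ : Nondeg Q) (hodd : Odd (Fintype.card F)) (h3 : 3 ≤ a)
    (hb : 5 ≤ b) (hab : a < b) (hex : ¬ (Fintype.card F = 3 ∧ a = 3)) (e : ι ≃ Fin a × Fin b) (P : GL ι F)
    (f₁ : (Fin a → F) → (Fin a → F) → F) (f₂ : (Fin b → F) → (Fin b → F) → F)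
    (hf₁ : Cfsg.Geo.IsSymmetricForm f₁) (hf₂ : Cfsg.Geo.IsSymmetricForm f₂)
    (hT : Cfsg.Geo.IsTensorFormStructure id (polar Q) f₁ f₂ e P)
    (hm : a = 4 → ¬ Cfsg.Geo.IsPlusTypeOn (fun v : Fin a → F => f₁ v v) ⊤) :
    Cfsg.Geo.IsMaximalIn (Cfsg.Geo.omegaGL ⇑Q)
      (Cfsg.Geo.tensorProductSubgroup a b e P ⊓ Cfsg.Geo.omegaGL ⇑Q) := by
  have htwo := two_ne_of_odd hodd
  obtain ⟨S, hA, hD, ⟨c, hc, hSA⟩, -, hS⟩ := exists_sys htwo hf₁.bilinear hf₁.nondegenerate (Or.inl rfl)
    (fun x y => by rw [one_mul]; exact hf₁.symm y x) hf₂.bilinear hf₂.nondegenerate (Or.inl rfl)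
    (fun x y => by rw [one_mul]; exact hf₂.symm y x) hT
  have hd : S.Good := by
    refine ⟨by omega, fun _ => ⟨hb, hab⟩, fun h => absurd (hD ▸ h) fun h' => htwo (by linear_combination h'),
      fun _ => ⟨h3, ?_⟩⟩
    rcases Nat.lt_or_ge a 4 with h | h
    · exact Or.inr (exists_sq_ne_one hodd fun h' => hex ⟨h', by omega⟩)
    · exact Or.inl h
  refine om_of_sys hQ e P S hS hd hA hD fun ha x y hx hxx hyy hxy => ?_
  rcases Nat.lt_or_ge a 4 with h | h
  · exact S.A.no_plane (by omega) hx hxx hyy hxy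
  have ha4 : a = 4 := by omega
  by_contra hy
  have hz : ∀ u w, S.A.B u w = 0 → f₁ u w = 0 := fun u w h0 => by
    rw [hSA] at h0
    exact (mul_eq_zero.1 h0).resolve_left hc
  refine hm ha4 ⟨Submodule.span F {x, y}, le_top, fun w hw => ?_, ?_⟩
  · obtain ⟨r, t, rfl⟩ := Submodule.mem_span_pair.1 hw
    refine hz _ _ ?_
    simp [hxx, hyy, hxy, S.A.comm hxy]
  · have hli : LinearIndependent F ![x, y] := (LinearIndependent.pair_iff' hx).2 fun t ht =>
      hy (Submodule.mem_span_singleton.2 ⟨t, ht⟩)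
    have h2 := finrank_span_eq_card hli
    rw [Matrix.range_cons, Matrix.range_cons, Matrix.range_empty, Set.union_empty, Set.singleton_union,
      Fintype.card_fin] at h2
    rw [h2, finrank_top, finrank_fin_fun, ha4]

end Cfsg.Agent.H24.Tensor
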