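import Cfsg.Agent.H24.Tensor.Sys
import Cfsg.Agent.H98.TensorSymTwo.Wrap
import Cfsg.Agent.H96.TensorCoords

/-!
Passage from a tensor decomposition of a form on `F^ι` to a pair of forms.
-/

set_option autoImplicit false

namespace Cfsg.Agent.H24.Tensor

open Module Matrix Kronecker Cfsg.Agent.H98.TensorGL Cfsg.Agent.H98.ExtField Cfsg.Agent.H96

variable {F : Type*} [Field F] {ι : Type} [Fintype ι] [DecidableEq ι] {a b : ℕ}

/-- The matrices as units of the endomorphisms of the tensor product. -/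
noncomputable def toU (e : ι ≃ Fin a × Fin b) (P : GL ι F) : GL ι F ≃* (Module.End F (T F a b))ˣ :=
  Units.mapEquiv (Matrix.toLinAlgEquiv'.trans ((tensorIso e P).symm.conjAlgEquiv F)).toMulEquiv

theorem toU_apply (e : ι ≃ Fin a × Fin b) (P g : GL ι F) (m : T F a b) :
    (toU e P g : Module.End F (T F a b)) m = (tensorIso e P).symm ((g : Matrix ι ι F) *ᵥ tensorIso e P m) := rfl

theorem lt_rt_apply (A : Matrix (Fin a) (Fin a) F) (B : Matrix (Fin b) (Fin b) F) (m : T F a b) :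
    (lt A * rt B : Module.End F (T F a b)) m = fun i => ∑ k, A i k • (B *ᵥ m k) :=
  funext fun i => by simp [lt]

/-- The stabiliser consists of the tensors. -/
theorem mem_tps_iff (e : ι ≃ Fin a × Fin b) (P g : GL ι F) :
    g ∈ Cfsg.Geo.tensorProductSubgroup a b e P ↔ IsTens (toU e P g) := by
  constructor
  · intro h
    obtain ⟨A, B, h⟩ := exists_tensor_action h
    refine ⟨A, B, LinearMap.ext fun m => ?_⟩
    rw [toU_apply, h, LinearEquiv.symm_apply_apply, lt_rt_apply]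
  · rintro ⟨A, B, h⟩
    refine H98.TensorSymTwo.mem_of_action A B fun x => ?_
    have h1 := LinearMap.congr_fun h x
    rw [toU_apply, lt_rt_apply, LinearEquiv.symm_apply_eq] at h1
    exact h1

/-- The two factors may be exchanged. -/
theorem tensorIso_swap (e : ι ≃ Fin a × Fin b) (P : GL ι F) (y : Fin b → Fin a → F) :
    tensorIso (e.trans (Equiv.prodComm _ _)) P y = tensorIso e P (fun i j => y j i) := rfl

theorem tps_swap_le (e : ι ≃ Fin a × Fin b) (P : GL ι F) :
    Cfsg.Geo.tensorProductSubgroup a b e P ≤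
      Cfsg.Geo.tensorProductSubgroup b a (e.trans (Equiv.prodComm _ _)) P := by
  intro g hg
  obtain ⟨A, B, h⟩ := exists_tensor_action hg
  refine H98.TensorSymTwo.mem_of_action B A fun y => ?_
  rw [tensorIso_swap, h, tensorIso_swap]
  refine congrArg _ (funext fun i => funext fun j => ?_)
  simp only [Finset.sum_apply, Pi.smul_apply, smul_eq_mul, Matrix.mulVec, dotProduct, Finset.mul_sum]
  rw [Finset.sum_comm]
  exact Finset.sum_congr rfl fun k _ => Finset.sum_congr rfl fun l _ => by ring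

theorem tps_swap (e : ι ≃ Fin a × Fin b) (P : GL ι F) :
    Cfsg.Geo.tensorProductSubgroup a b e P =
      Cfsg.Geo.tensorProductSubgroup b a (e.trans (Equiv.prodComm _ _)) P := by
  refine le_antisymm (tps_swap_le e P) ?_
  have h := tps_swap_le (e.trans (Equiv.prodComm _ _)) P
  rwa [show (e.trans (Equiv.prodComm _ _)).trans (Equiv.prodComm _ _) = e from Equiv.ext fun i => rfl] at h

theorem structure_swap {e : ι ≃ Fin a × Fin b} {P : GL ι F} {f : (ι → F) → (ι → F) → F}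
    {f₁ : (Fin a → F) → (Fin a → F) → F} {f₂ : (Fin b → F) → (Fin b → F) → F}
    (h : Cfsg.Geo.IsTensorFormStructure id f f₁ f₂ e P) :
    Cfsg.Geo.IsTensorFormStructure id f f₂ f₁ (e.trans (Equiv.prodComm _ _)) P := by
  obtain ⟨c, hc, h⟩ := h
  refine ⟨c, hc, fun x y => (h (x ∘ Prod.swap) (y ∘ Prod.swap)).trans (congrArg (c * ·) ?_)⟩
  simp only [Cfsg.Geo.formOfGram]
  refine Fintype.sum_equiv (Equiv.prodComm _ _) _ _ fun p => Fintype.sum_equiv (Equiv.prodComm _ _) _ _ fun r => ?_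
  simp only [Function.comp_apply, Equiv.prodComm_apply, Matrix.kroneckerMap_apply, Prod.fst_swap, Prod.snd_swap]
  ring

/-- A symmetric or alternating form, times a scalar, as a `Bil`. -/
noncomputable def bilOf {n : ℕ} (f : (Fin n → F) → (Fin n → F) → F) (hf : Cfsg.Geo.IsBilinearForm f)
    (hn : Cfsg.Geo.IsNondegenerateForm f) (s : F) (hs : s = 1 ∨ s = -1) (hsym : ∀ x y, f y x = s * f x y)
    (htwo : (2 : F) ≠ 0) (c : F) (hc : c ≠ 0) : Bil F n where
  B := c • LinearMap.mk₂ F f hf.add_left hf.smul_left hf.add_right (fun c v x => hf.smul_right c v x)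
  s := s
  hs := hs
  symm x y := by
    simp only [LinearMap.smul_apply, LinearMap.mk₂_apply, smul_eq_mul, hsym x y]
    ring
  nd x h := by
    by_contra h0
    obtain ⟨y, hy⟩ := (hn x h0).2
    have := h y
    simp only [LinearMap.smul_apply, LinearMap.mk₂_apply, smul_eq_mul] at this
    exact hy ((mul_eq_zero.1 this).resolve_left hc)
  two := htwo

theorem bilOf_apply {n : ℕ} (f : (Fin n → F) → (Fin n → F) → F) (hf hn) (s : F) (hs hsym htwo) (c : F) (hc)
    (x y : Fin n → F) : (bilOf f hf hn s hs hsym htwo c hc).B x y = c * f x y := rfl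

/-- The pair of forms of a tensor decomposition. -/
theorem exists_sys {e : ι ≃ Fin a × Fin b} {P : GL ι F} {f : (ι → F) → (ι → F) → F}
    {f₁ : (Fin a → F) → (Fin a → F) → F} {f₂ : (Fin b → F) → (Fin b → F) → F} (htwo : (2 : F) ≠ 0)
    (hb₁ : Cfsg.Geo.IsBilinearForm f₁) (hn₁ : Cfsg.Geo.IsNondegenerateForm f₁) {s₁ : F}
    (hs₁ : s₁ = 1 ∨ s₁ = -1) (hy₁ : ∀ x y, f₁ y x = s₁ * f₁ x y)
    (hb₂ : Cfsg.Geo.IsBilinearForm f₂) (hn₂ : Cfsg.Geo.IsNondegenerateForm f₂) {s₂ : F}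
    (hs₂ : s₂ = 1 ∨ s₂ = -1) (hy₂ : ∀ x y, f₂ y x = s₂ * f₂ x y)
    (hT : Cfsg.Geo.IsTensorFormStructure id f f₁ f₂ e P) :
    ∃ S : Sys F a b, S.A.s = s₁ ∧ S.D.s = s₂ ∧ (∃ c : F, c ≠ 0 ∧ ∀ x y, S.A.B x y = c * f₁ x y) ∧
      (∀ x y, S.D.B x y = f₂ x y) ∧ ∀ x y, f (tensorIso e P x) (tensorIso e P y) = S.Bt x y := by
  obtain ⟨c, hc, hpol⟩ := tensor_polar hb₂ hT
  refine ⟨⟨bilOf f₁ hb₁ hn₁ s₁ hs₁ hy₁ htwo c hc, bilOf f₂ hb₂ hn₂ s₂ hs₂ hy₂ htwo 1 one_ne_zero⟩, rfl, rfl,
    ⟨c, hc, fun x y => rfl⟩, fun x y => one_mul _, fun x y => ?_⟩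
  rw [hpol, Sys.Bt_apply, Finset.mul_sum]
  refine Finset.sum_congr rfl fun i _ => ?_
  rw [Finset.mul_sum]
  refine Finset.sum_congr rfl fun k _ => ?_
  rw [bilOf_apply, bilOf_apply, Cfsg.Geo.gramMatrix]
  ring

namespace Sys

/-- A subgroup of the isometries, moved to the tensor product. -/
theorem iso_toU {S : Sys F a b} {e : ι ≃ Fin a × Fin b} {P : GL ι F} {f : (ι → F) → (ι → F) → F}
    (hS : ∀ x y, f (tensorIso e P x) (tensorIso e P y) = S.Bt x y) (g : GL ι F) :
    S.Iso (toU e P g : Module.End F (T F a b)) ↔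
      ∀ u v, f ((g : Matrix ι ι F) *ᵥ u) ((g : Matrix ι ι F) *ᵥ v) = f u v := by
  constructor
  · intro h u v
    obtain ⟨x, rfl⟩ := (tensorIso e P).surjective u
    obtain ⟨y, rfl⟩ := (tensorIso e P).surjective v
    have h1 := h x y
    rw [← hS, ← hS] at h1
    simpa only [toU_apply, LinearEquiv.apply_symm_apply] using h1
  · intro h x y
    rw [← hS, ← hS, toU_apply, toU_apply, LinearEquiv.apply_symm_apply, LinearEquiv.apply_symm_apply, h]

end Sys

end Cfsg.Agent.H24.Tensor
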