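import Mathlib

/-!
A set of vectors of an alternating space closed under lines through non-orthogonal pairs.
-/

set_option autoImplicit false

namespace Cfsg.Agent.H24.Tensor

open Module

variable {F V : Type*} [Field F] [AddCommGroup V] [Module F V] [FiniteDimensional F V]

/-- Such a set with a spanning connected part is everything. -/
theorem closure_eq_univ (h2 : (2 : F) ≠ 0) (B : V →ₗ[F] V →ₗ[F] F) (halt : ∀ x, B x x = 0)
    (hnd : ∀ x, (∀ y, B x y = 0) → x = 0) (R : Set V)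
    (hsmul : ∀ (c : F), ∀ p ∈ R, c • p ∈ R) (hline : ∀ p ∈ R, ∀ q ∈ R, B p q ≠ 0 → ∀ μ : F, p + μ • q ∈ R)
    (Sg : Set V) (hSg : Sg ⊆ R) (hspan : Submodule.span F Sg = ⊤) (hs₁ : ∃ s ∈ Sg, s ≠ (0 : V))
    (hconn : ∀ p ∈ Sg, p ≠ 0 → ∀ q ∈ Sg, q ≠ 0 → ∃ r ∈ Sg, B p r ≠ 0 ∧ B q r ≠ 0) : ∀ x, x ∈ R := by
  have hskew : ∀ x y, B y x = -B x y := fun x y => by
    have h := halt (x + y)
    simp only [map_add, LinearMap.add_apply, halt, zero_add, add_zero] at h
    exact eq_neg_of_add_eq_zero_left h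
  obtain ⟨s, hs, hs0⟩ := hs₁
  let 𝒰 : Set (Submodule F V) := {U | s ∈ U ∧ ∀ x ∈ U, x ∈ R}
  have hne : 𝒰.Nonempty := ⟨Submodule.span F {s}, Submodule.mem_span_singleton_self s, fun x hx => by
    obtain ⟨c, rfl⟩ := Submodule.mem_span_singleton.1 hx
    exact hsmul c s (hSg hs)⟩
  obtain ⟨U, ⟨hsU, hUR⟩, hmax⟩ := wellFounded_gt.has_min 𝒰 hne
  by_contra hcon
  push Not at hcon
  obtain ⟨x₀, hx₀⟩ := hcon
  -- some vector of `R` outside `U` is non-orthogonal to it
  obtain ⟨p, hp, hpU, u₀, hu₀, hpu₀⟩ : ∃ p ∈ R, p ∉ U ∧ ∃ u ∈ U, B p u ≠ 0 := by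
    obtain ⟨p, hp, hpU⟩ : ∃ p ∈ Sg, p ∉ U := by
      by_contra hc
      push Not at hc
      exact hx₀ (hUR x₀ (by
        have : Submodule.span F Sg ≤ U := Submodule.span_le.2 hc
        rw [hspan] at this
        exact this trivial))
    obtain ⟨r, hr, hpr, hsr⟩ := hconn p hp (fun h => hpU (h ▸ U.zero_mem)) s hs hs0
    by_cases hrU : r ∈ U
    · exact ⟨p, hSg hp, hpU, r, hrU, hpr⟩
    · exact ⟨r, hSg hr, hrU, s, hsU, by rw [hskew]; simpa using hsr⟩
  -- the enlarged subspace lies in `R`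
  have hgood : ∀ u' ∈ U, (∃ u ∈ U, B u (p + u') ≠ 0) → p + u' ∈ R := by
    intro u' hu' ⟨u, hu, huw⟩
    by_cases hpu' : B p u' = 0
    swap
    · simpa using hline p hp u' (hUR u' hu') hpu' 1
    obtain ⟨t, ht, ht1, ht2⟩ : ∃ t ∈ U, B p t ≠ 0 ∧ B t (p + u') ≠ 0 := by
      by_cases h1 : B p u = 0
      · by_cases h2 : B u₀ (p + u') = 0
        · refine ⟨u + u₀, U.add_mem hu hu₀, by rw [map_add, h1, zero_add]; exact hpu₀, ?_⟩
          rw [map_add B, LinearMap.add_apply, h2, add_zero]; exact huw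
        · exact ⟨u₀, hu₀, hpu₀, h2⟩
      · exact ⟨u, hu, h1, huw⟩
    have h3 : p + t ∈ R := by simpa using hline p hp t (hUR t ht) ht1 1
    have h4 := hline (p + t) h3 (u' - t) (hUR _ (U.sub_mem hu' ht)) ?_ 1
    · rwa [one_smul, add_add_sub_cancel] at h4
    rw [map_add, LinearMap.add_apply, map_sub, map_sub, hpu', halt, sub_zero, zero_sub, ← hskew p t, add_comm]
    rw [map_add] at ht2
    rwa [add_comm] at ht2
  refine hmax (U ⊔ Submodule.span F {p}) ⟨Submodule.mem_sup_left hsU, fun x hx => ?_⟩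
    (lt_of_le_not_ge le_sup_left fun h => hpU (h (Submodule.mem_sup_right (Submodule.mem_span_singleton_self p))))
  obtain ⟨u, hu, y, hy, rfl⟩ := Submodule.mem_sup.1 hx
  obtain ⟨c, rfl⟩ := Submodule.mem_span_singleton.1 hy
  rcases eq_or_ne c 0 with rfl | hc
  · simpa using hUR u hu
  have hu' : c⁻¹ • u ∈ U := U.smul_mem _ hu
  rw [show u + c • p = c • (p + c⁻¹ • u) by rw [smul_add, smul_inv_smul₀ hc, add_comm]]
  refine hsmul c _ ?_
  set w := p + c⁻¹ • u with hw
  by_cases hex : ∃ t ∈ U, B t w ≠ 0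
  · exact hgood _ hu' hex
  -- a radical vector of the enlarged subspace
  push Not at hex
  have hw0 : w ≠ 0 := fun h => hpU (by
    rw [eq_neg_of_add_eq_zero_left h]; exact U.neg_mem hu')
  obtain ⟨q, hq, hqw⟩ : ∃ q ∈ Sg, B q w ≠ 0 := by
    by_contra hc
    push Not at hc
    refine hw0 (hnd w fun y => ?_)
    have h1 : Submodule.span F Sg ≤ LinearMap.ker (B w) := Submodule.span_le.2 fun q hq => by
      show B w q = 0
      rw [hskew, hc q hq, neg_zero]
    rw [hspan] at h1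
    exact h1 (trivial : y ∈ (⊤ : Submodule F V))
  -- all translates of `u₀` by multiples of `w`
  have key : ∀ u₁ ∈ U, B p u₁ ≠ 0 → ∀ k : F, u₁ + k • w ∈ R := fun u₁ hu₁ hpu₁ k => by
    rcases eq_or_ne k 0 with rfl | hk
    · simpa using hUR u₁ hu₁
    rw [show u₁ + k • w = k • (p + (c⁻¹ • u + k⁻¹ • u₁)) by
      rw [hw, smul_add, smul_add, smul_add, smul_inv_smul₀ hk]; abel]
    refine hsmul k _ (hgood _ (U.add_mem hu' (U.smul_mem _ hu₁)) ?_)
    by_contra hno
    push Not at hno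
    -- `u₁` is then orthogonal to `U` and to `w`, hence to `p`
    have hu1U : ∀ t ∈ U, B t u₁ = 0 := fun t ht => by
      have h5 := hno t ht
      rw [show p + (c⁻¹ • u + k⁻¹ • u₁) = w + k⁻¹ • u₁ by rw [hw, add_assoc], map_add, hex t ht,
        zero_add, map_smul, smul_eq_mul, mul_eq_zero] at h5
      exact h5.resolve_left (inv_ne_zero hk)
    have h6 := hex u₁ hu₁
    rw [hw, map_add, map_smul] at h6
    have h7 : B u₁ u = 0 := by rw [hskew, hu1U u hu, neg_zero]
    rw [h7, smul_zero, add_zero, hskew, neg_eq_zero] at h6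
    exact hpu₁ h6
  -- a vector with a third value against `q`
  obtain ⟨r, hr0, hrw⟩ : ∃ r : F, r ≠ 0 ∧ r ≠ B q w := by
    rcases eq_or_ne (B q w) (-1) with h | h
    · exact ⟨1, one_ne_zero, fun h1 => h2 (by linear_combination h1 + h)⟩
    · exact ⟨-1, neg_ne_zero.2 one_ne_zero, Ne.symm h⟩
  set k := (r - B q u₀) / B q w
  set x := u₀ + k • w with hx
  have hxR : x ∈ R := key u₀ hu₀ hpu₀ k
  have hxwR : w - x ∈ R := by
    rw [hx, show w - (u₀ + k • w) = -u₀ + (1 - k) • w by rw [sub_smul, one_smul]; abel]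
    exact key (-u₀) (U.neg_mem hu₀) (by simpa using hpu₀) _
  have hqx : B q x = r := by
    rw [hx, map_add, map_smul, smul_eq_mul, div_mul_cancel₀ _ hqw, add_sub_cancel]
  have hxw : B x w = 0 := by
    rw [hx, map_add B, map_smul B, LinearMap.add_apply, LinearMap.smul_apply, hex u₀ hu₀, halt, smul_zero, add_zero]
  have hqR := hSg hq
  have h2' := hline x hxR q hqR (by rw [hskew, hqx]; simpa using hr0) 1
  have h3 := hline _ h2' (w - x) hxwR ?_ 1
  · rw [one_smul, one_smul, show x + q + (w - x) = w + q by abel] at h3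
    have h4 := hline _ h3 q hqR (by rw [map_add, LinearMap.add_apply, halt, add_zero, hskew]; simpa using hqw) (-1)
    simpa using h4
  · rw [one_smul, map_add, LinearMap.add_apply, map_sub, map_sub, halt, hxw, hqx, sub_zero, zero_add, sub_ne_zero]
    exact Ne.symm hrw

end Cfsg.Agent.H24.Tensor
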