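import Cfsg.Agent.H24.Tensor.SLTwo
import Cfsg.Agent.S0205

/-!
Two transformations of root type generate a group that acts on a pair of images through two by two matrices over a
commutative algebra; unless the linking map is nilpotent the group contains an involution acting diagonally.
-/

set_option autoImplicit false
set_option maxHeartbeats 1000000
set_option linter.style.haveILetI false

namespace Cfsg.Agent.H24.Tensor

open Matrix Module

variable {F : Type*} [Field F] [Finite F] {V U : Type*} [AddCommGroup V] [Module F V] [FiniteDimensional F V]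
  [AddCommGroup U] [Module F U] [FiniteDimensional F U]

/-- Either the linking map is nilpotent, or some involution of the generated group acts by a scalar of the algebra. -/
theorem dichotomy (h2 : (2 : F) ≠ 0) (ι : U →ₗ[F] V) (σ : V →ₗ[F] U) (hι : Function.Injective ι)
    (hσι : σ ∘ₗ ι = 0)
    (d e : (Module.End F V)ˣ) (hd : (d : Module.End F V) = 1 + ι ∘ₗ σ) (T : Module.End F U)
    (hT : σ ∘ₗ (e : Module.End F V) ∘ₗ ι = T)
    (hskew : σ ∘ₗ ((e⁻¹ : (Module.End F V)ˣ) : Module.End F V) ∘ₗ ι = -T) :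
    IsNilpotent T ∨ ∃ j ∈ Subgroup.closure ({d, e * d * e⁻¹} : Set (Module.End F V)ˣ),
      ∃ a : Module.End F U, j ≠ 1 ∧ j * j = 1 ∧ a * a = 1 ∧ T * a = a * T ∧
        (∀ x, (j : Module.End F V) (ι x) = ι (a x)) ∧
        (∀ x, (j : Module.End F V) ((e : Module.End F V) (ι x)) = (e : Module.End F V) (ι (a x))) ∧
        (∀ y, T y = 0 → a y = y) ∧
        (∀ m, σ m = 0 → σ (((e⁻¹ : (Module.End F V)ˣ) : Module.End F V) m) = 0 →
          (j : Module.End F V) m = m) ∧
        (∀ m, (j : Module.End F V) m = -m →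
          ∃ x y, a x = -x ∧ a y = -y ∧ m = ι x + (e : Module.End F V) (ι y)) := by
  classical
  refine or_iff_not_imp_left.2 fun hnil => ?_
  let A := Algebra.adjoin F ({T} : Set (Module.End F U))
  letI : CommRing A := { (inferInstance : Ring A) with
    mul_comm := fun x y => Subtype.ext (Algebra.commute_of_mem_adjoin_singleton_of_commute (R := F) y.2
      (Algebra.commute_of_mem_adjoin_singleton_of_commute (R := F) x.2 (Commute.refl T)).symm).eq }
  let R : A := ⟨T, Algebra.subset_adjoin rfl⟩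
  let ψ : A →ₐ[F] Module.End F U := A.val
  have hψ : ψ R = T := rfl
  haveI : Finite (Module.End F U) := Module.finite_of_finite F
  haveI : Finite A := Finite.of_injective (Subtype.val : A → Module.End F U) Subtype.val_injective
  have h2' : IsUnit (2 : A) := by
    have := (IsUnit.mk0 (2 : F) h2).map (algebraMap F A)
    rwa [map_ofNat] at this
  haveI : Finite V := Module.finite_of_finite F
  haveI : Finite (Module.End F V) := Finite.of_injective _ (DFunLike.coe_injective (F := Module.End F V))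
  haveI : Finite (Module.End F V)ˣ := Finite.of_injective _ Units.val_injective
  set e1 := e * d * e⁻¹ with he1
  set ei := ((e⁻¹ : (Module.End F V)ˣ) : Module.End F V)
  have hinv : ∀ x, ei ((e : Module.End F V) x) = x := fun x => by
    rw [← Module.End.mul_apply, Units.inv_mul, Module.End.one_apply]
  have hinv' : ∀ x, (e : Module.End F V) (ei x) = x := fun x => by
    rw [← Module.End.mul_apply, Units.mul_inv, Module.End.one_apply]
  have hs : ∀ x, σ (ι x) = 0 := fun x => LinearMap.congr_fun hσι x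
  have hTx : ∀ x, σ ((e : Module.End F V) (ι x)) = T x := fun x => LinearMap.congr_fun hT x
  have hTi : ∀ x, σ (ei (ι x)) = -T x := fun x => LinearMap.congr_fun hskew x
  let Φ : U → U → V := fun x y => ι x + (e : Module.End F V) (ι y)
  have hd' : ∀ m, (d : Module.End F V) m = m + ι (σ m) := fun m => by rw [hd]; rfl
  have he' : ∀ m, (e1 : Module.End F V) m = m + (e : Module.End F V) (ι (σ (ei m))) := fun m => by
    show (e : Module.End F V) ((d : Module.End F V) (ei m)) = _
    rw [hd', map_add, hinv']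
  let G := (Module.End F V)ˣ × SpecialLinearGroup (Fin 2) A
  let P : G → Prop := fun g =>
    (∀ x y, (g.1 : Module.End F V) (Φ x y) =
      Φ (ψ (g.2 0 0) x + ψ (g.2 0 1) y) (ψ (g.2 1 0) x + ψ (g.2 1 1) y)) ∧
    (∀ m, σ m = 0 → σ (ei m) = 0 → (g.1 : Module.End F V) m = m) ∧
    (∀ m, ∃ x y, (g.1 : Module.End F V) m = m + Φ x y)
  let S : Submonoid G :=
    { carrier := {g | P g}
      one_mem' := ⟨fun x y => by simp, fun m _ _ => rfl,
        fun m => ⟨0, 0, by simp [Φ]⟩⟩
      mul_mem' := fun {g h} hg hh => by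
        refine ⟨fun x y => ?_, fun m m1 m2 => ?_, fun m => ?_⟩
        · show (g.1 : Module.End F V) ((h.1 : Module.End F V) (Φ x y)) = _
          rw [hh.1, hg.1]
          have hm : ∀ i k, (g * h).2 i k = g.2 i 0 * h.2 0 k + g.2 i 1 * h.2 1 k := fun i k => by
            exact (Matrix.mul_apply (M := (g.2 : Matrix (Fin 2) (Fin 2) A))).trans (Fin.sum_univ_two _)
          simp only [hm, map_add, map_mul, LinearMap.add_apply, Module.End.mul_apply]
          congr 1 <;> abel
        · show (g.1 : Module.End F V) ((h.1 : Module.End F V) m) = m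
          rw [hh.2.1 m m1 m2, hg.2.1 m m1 m2]
        · obtain ⟨x, y, hxy⟩ := hh.2.2 m
          obtain ⟨x', y', hxy'⟩ := hg.2.2 m
          refine ⟨x' + (ψ (g.2 0 0) x + ψ (g.2 0 1) y), y' + (ψ (g.2 1 0) x + ψ (g.2 1 1) y), ?_⟩
          show (g.1 : Module.End F V) ((h.1 : Module.End F V) m) = _
          rw [hxy, map_add, hxy', hg.1]
          simp only [Φ, map_add]
          abel }
  let Md : SpecialLinearGroup (Fin 2) A := ⟨!![1, R; 0, 1], by simp [det_fin_two_of]⟩
  let Me : SpecialLinearGroup (Fin 2) A := ⟨!![1, 0; -R, 1], by simp [det_fin_two_of]⟩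
  have hdS : (d, Md) ∈ S := ⟨fun x y => by
      simp [Φ, Md, hd', hs, hTx, hψ]; abel,
    fun m h1 _ => by simp [hd', h1], fun m => ⟨σ m, 0, by simp [Φ, hd']⟩⟩
  have heS : (e1, Me) ∈ S := ⟨fun x y => by
      simp [Φ, Me, he', hs, hTi, hinv, hψ]; abel,
    fun m _ h2 => by simp [he', h2], fun m => ⟨0, σ (ei m), by simp [Φ, he']⟩⟩
  let H : Subgroup G := Subgroup.closure {(d, Md), (e1, Me)}
  have hHS : ∀ g ∈ H, P g := fun g hg => by
    rw [← Subgroup.mem_toSubmonoid, Subgroup.closure_toSubmonoid_of_finite] at hg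
    refine (Submonoid.closure_le.2 ?_ : _ ≤ S) hg
    rintro _ (rfl | rfl)
    exacts [hdS, heS]
  obtain ⟨g, hg, hg2⟩ : ∃ g ∈ H, orderOf g = 2 := by
    by_contra hno
    have hodd : Odd (Nat.card H) := by
      rw [Nat.odd_iff]
      by_contra h
      haveI : Fact (Nat.Prime 2) := ⟨Nat.prime_two⟩
      obtain ⟨x, hx⟩ := exists_prime_orderOf_dvd_card' 2 (G := H) (Nat.dvd_of_mod_eq_zero (by omega))
      exact hno ⟨x, x.2, by rw [Subgroup.orderOf_coe]; exact hx⟩
    haveI : Group.IsSolvable H := Cfsg.Agent.S0205.result hodd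
    obtain ⟨I, hI, hRI⟩ : ∃ I : Ideal A, I.IsMaximal ∧ R ∉ I := by
      by_contra hc
      push Not at hc
      have : R ∈ nilradical A := by
        rw [nilradical_eq_sInf, Submodule.mem_sInf]
        intro J (hJ : Ideal.IsPrime J)
        exact hc J hJ.isMaximal'
      exact hnil (hψ ▸ (mem_nilradical.1 this).map ψ)
    haveI := hI
    letI : Field (A ⧸ I) := Ideal.Quotient.field I
    let π := Ideal.Quotient.mk I
    let pr : G →* SpecialLinearGroup (Fin 2) (A ⧸ I) :=
      (SpecialLinearGroup.map π).comp (MonoidHom.snd _ _)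
    haveI : Group.IsSolvable (H.map pr) :=
      Group.isSolvable_of_surjective (f := pr.subgroupMap H) (pr.subgroupMap_surjective H)
    have hR0 : π R ≠ 0 := fun h => hRI (Ideal.Quotient.eq_zero_iff_mem.1 h)
    have h20 : (2 : A ⧸ I) ≠ 0 := by
      have := h2'.map π
      rw [map_ofNat] at this
      exact this.ne_zero
    have hval : ∀ (M : SpecialLinearGroup (Fin 2) A) (g : (Module.End F V)ˣ),
        ((pr (g, M) : SpecialLinearGroup (Fin 2) (A ⧸ I)) : Matrix (Fin 2) (Fin 2) _) =
          (M : Matrix (Fin 2) (Fin 2) A).map π := fun M g => rfl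
    obtain ⟨n, hn, hn1, hn2⟩ := exists_neg_one h20 (H.map pr) hR0 (neg_ne_zero.2 hR0)
      (u := pr (d, Md)) (l := pr (e1, Me))
      (Subgroup.mem_map_of_mem _ (Subgroup.subset_closure (Or.inl rfl)))
      (Subgroup.mem_map_of_mem _ (Subgroup.subset_closure (Or.inr rfl)))
      (by rw [hval]; refine Matrix.ext fun i k => ?_; fin_cases i <;> fin_cases k <;> simp [Md, π])
      (by rw [hval]; refine Matrix.ext fun i k => ?_; fin_cases i <;> fin_cases k <;> simp [Me, π])
    have ho : orderOf (⟨n, hn⟩ : H.map pr) = 2 := orderOf_eq_prime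
      (Subtype.ext (show n ^ 2 = 1 by rw [pow_two]; exact hn2)) (fun h => hn1 (congrArg Subtype.val h))
    have h1 := (orderOf_dvd_natCard (⟨n, hn⟩ : H.map pr)).trans (Subgroup.card_map_dvd H pr)
    rw [ho] at h1
    rw [Nat.odd_iff] at hodd
    omega
  obtain ⟨hΦ, hker, himg⟩ := hHS g hg
  have hgg : g * g = 1 := by
    have h := pow_orderOf_eq_one g
    rwa [hg2, pow_two] at h
  obtain ⟨a, haa, h00, h11, h01, h10⟩ := sl_two_sq h2' g.2 (congrArg Prod.snd hgg)
  have hmodR : a - 1 ∈ Ideal.span ({R} : Set A) := by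
    let π' := Ideal.Quotient.mk (Ideal.span ({R} : Set A))
    have hR : π' R = 0 := Ideal.Quotient.eq_zero_iff_mem.2 (Ideal.subset_span rfl)
    let pr' : G →* SpecialLinearGroup (Fin 2) (A ⧸ Ideal.span ({R} : Set A)) :=
      (SpecialLinearGroup.map π').comp (MonoidHom.snd _ _)
    have hval' : ∀ (x : G) (i k : Fin 2), (pr' x) i k = π' (x.2 i k) := fun x i k => rfl
    have hone : H ≤ pr'.ker := by
      rw [Subgroup.closure_le]
      rintro _ (rfl | rfl) <;> refine MonoidHom.mem_ker.2 (Subtype.ext (Matrix.ext fun i k => ?_)) <;>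
        refine (hval' _ i k).trans ?_ <;> fin_cases i <;> fin_cases k
      exacts [map_one π', hR, map_zero π', map_one π', map_one π', map_zero π',
        (map_neg π' R).trans ((congrArg Neg.neg hR).trans neg_zero), map_one π']
    have h1 := congrArg (fun M : SpecialLinearGroup (Fin 2) _ => M 0 0) (MonoidHom.mem_ker.1 (hone hg))
    have h1' : π' a = 1 := h00 ▸ ((hval' g 0 0).symm.trans h1)
    rw [← Ideal.Quotient.eq_zero_iff_mem, map_sub, map_one]
    exact sub_eq_zero.2 h1'
  have hj : ∀ x y, (g.1 : Module.End F V) (Φ x y) = Φ (ψ a x) (ψ a y) := fun x y => by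
    rw [hΦ, h00, h11, h01, h10]; simp [Φ]
  have hj1 : ∀ x, (g.1 : Module.End F V) (ι x) = ι (ψ a x) := fun x => by simpa [Φ] using hj x 0
  have hj2 : ∀ x, (g.1 : Module.End F V) ((e : Module.End F V) (ι x)) = (e : Module.End F V) (ι (ψ a x)) :=
    fun x => by simpa [Φ] using hj 0 x
  have hmem : g.1 ∈ Subgroup.closure ({d, e1} : Set (Module.End F V)ˣ) := by
    have := Subgroup.mem_map_of_mem (MonoidHom.fst (Module.End F V)ˣ _) hg
    rwa [MonoidHom.map_closure, Set.image_pair] at this
  have hinvol : g.1 * g.1 = 1 := congrArg Prod.fst hgg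
  refine ⟨g.1, hmem, ψ a, fun hj0 => ?_, hinvol, by rw [← map_mul, haa, map_one],
    by rw [← hψ, ← map_mul, ← map_mul, mul_comm], hj1, hj2, fun y hy => ?_, hker, fun m hm => ?_⟩
  · -- an involution over the identity is trivial in the first coordinate, so the second is trivial as well
    have hn : ∀ k : A, ψ k = 0 → k = 0 := fun k hk => Subtype.ext hk
    have ha1 : a = 1 := by
      refine sub_eq_zero.1 (hn _ (LinearMap.ext fun x => ?_))
      rw [map_sub, map_one, LinearMap.sub_apply, Module.End.one_apply, LinearMap.zero_apply, sub_eq_zero]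
      exact hι (by rw [← hj1, hj0, Units.val_one, Module.End.one_apply])
    have h1 : g = 1 := Prod.ext hj0 (Subtype.ext (Matrix.ext fun i k => by
      fin_cases i <;> fin_cases k <;> simp [h00, h11, h01, h10, ha1]))
    rw [h1, orderOf_one] at hg2
    omega
  · obtain ⟨s, hs'⟩ := Ideal.mem_span_singleton'.1 hmodR
    have h1 : ψ s (T y) = ψ a y - y := by
      rw [← hψ, ← Module.End.mul_apply, ← map_mul, hs', map_sub, map_one]; rfl
    rw [hy, map_zero] at h1
    exact (sub_eq_zero.1 h1.symm)
  · obtain ⟨x, y, hxy⟩ := himg m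
    have h4 : -m = m + Φ x y := by rw [← hm]; exact hxy
    have h5 : (g.1 : Module.End F V) (Φ x y) = -Φ x y := by
      rw [eq_neg_iff_add_eq_zero] at hm
      have : Φ x y = -m - m := by rw [h4]; abel
      rw [this, map_sub, map_neg, eq_neg_of_add_eq_zero_left hm]; abel
    have h6 : ∀ z, ψ a (ψ a z) = z := fun z => by
      rw [← Module.End.mul_apply, ← map_mul, haa, map_one, Module.End.one_apply]
    refine ⟨(2 : F)⁻¹ • (2 : F)⁻¹ • (ψ a x - x), (2 : F)⁻¹ • (2 : F)⁻¹ • (ψ a y - y), ?_, ?_, ?_⟩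
    · rw [map_smul, map_smul, map_sub, h6, ← smul_neg, ← smul_neg, neg_sub]
    · rw [map_smul, map_smul, map_sub, h6, ← smul_neg, ← smul_neg, neg_sub]
    · rw [hj, ← sub_eq_zero] at h5
      have h7 : Φ x y = -m - m := by rw [h4]; abel
      have h8 : Φ (ψ a x - x) (ψ a y - y) = (2 * 2 : F) • m := by
        calc Φ (ψ a x - x) (ψ a y - y) = (Φ (ψ a x) (ψ a y) - -Φ x y) - (2 : F) • Φ x y := by
              simp only [Φ, map_sub, two_smul]; abel
          _ = _ := by rw [h5, h7]; module
      rw [show ι ((2 : F)⁻¹ • (2 : F)⁻¹ • (ψ a x - x)) + (e : Module.End F V) (ι ((2 : F)⁻¹ • (2 : F)⁻¹ •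
          (ψ a y - y))) = (2 : F)⁻¹ • (2 : F)⁻¹ • Φ (ψ a x - x) (ψ a y - y) by simp only [Φ, map_smul, smul_add],
        h8, smul_smul, smul_smul, show (2 : F)⁻¹ * (2 : F)⁻¹ * (2 * 2) = 1 by field_simp, one_smul]

end Cfsg.Agent.H24.Tensor
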