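import Cfsg.Agent.H24.Tensor.Point
import Cfsg.Agent.H24.Tensor.Dichotomy

/-!
The involution produced by an element outside the stabiliser and one transvecting element of the second factor.
-/

set_option autoImplicit false
set_option linter.style.haveILetI false

namespace Cfsg.Agent.H24.Tensor

open Module Matrix Cfsg.Agent.H98.TensorGL Cfsg.Agent.H98.ExtField

variable {F : Type*} [Field F] {a b : ℕ}

theorem rt_injective (ha : 0 < a) {Q Q' : Matrix (Fin b) (Fin b) F}
    (h : (rt Q : Module.End F (T F a b)) = rt Q') : Q = Q' :=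
  Matrix.ext_iff_mulVec.2 fun y => by
    have := congrFun (LinearMap.congr_fun h (pure y (Pi.single ⟨0, ha⟩ 1))) ⟨0, ha⟩
    simpa using this

theorem lt_tau_apply (β : Bil F a) (c d : Fin a → F) (n : T F a b) :
    lt (β.tau c d) n = pure (∑ k, β.B d (Pi.single k 1) • n k) c := by
  refine funext fun i => ?_
  have hik : ∀ k, β.tau c d i k = β.B d (Pi.single k 1) * c i := fun k => by
    have := congrFun (β.tau_mulVec c d (Pi.single k 1)) i
    rwa [Matrix.mulVec_single_one, Pi.smul_apply, smul_eq_mul] at this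
  simp only [lt, LinearMap.coe_mk, AddHom.coe_mk, pure_apply, Finset.smul_sum, smul_smul, hik, mul_comm (c i)]

/-- If `(P ⊗ Q - 1)² = 0` one of the factors is scalar. -/
theorem scalar_or (β : Bil F b) {P : GL (Fin a) F} {Q : Matrix (Fin b) (Fin b) F}
    (h : ((lt (P : Matrix (Fin a) (Fin a) F) * rt Q : Module.End F (T F a b)) - 1) *
      ((lt (P : Matrix (Fin a) (Fin a) F) * rt Q : Module.End F (T F a b)) - 1) = 0) :
    (∃ c : F, (P : Matrix (Fin a) (Fin a) F) = c • 1) ∨ ∃ c : F, Q = c • 1 := by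
  by_cases hev : ∀ y, Q *ᵥ y ∈ Submodule.span F {y}
  · exact Or.inr (Bil.scalar_of_eigen' Q hev)
  obtain ⟨y, hy⟩ := not_forall.1 hev
  left
  set P₀ := (P : Matrix (Fin a) (Fin a) F)
  have hy0 : y ≠ 0 := fun h0 => hy (by simp [h0])
  have hexp : ∀ u, pure (Q *ᵥ (Q *ᵥ y)) (P₀ *ᵥ (P₀ *ᵥ u)) - pure (Q *ᵥ y) (P₀ *ᵥ u) -
      (pure (Q *ᵥ y) (P₀ *ᵥ u) - pure y u) = (0 : T F a b) := fun u => by
    have h1 := LinearMap.congr_fun h (pure y u)
    simpa only [Module.End.mul_apply, LinearMap.sub_apply, Module.End.one_apply, map_sub, rt_pure, lt_pure,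
      LinearMap.zero_apply] using h1
  have hPinj : ∀ u, P₀ *ᵥ u = 0 → u = 0 := fun u hu => by
    rw [← Matrix.one_mulVec u, ← Units.inv_mul P, ← Matrix.mulVec_mulVec, hu, Matrix.mulVec_zero]
  by_cases hQ : Q *ᵥ (Q *ᵥ y) ∈ Submodule.span F ({y, Q *ᵥ y} : Set (Fin b → F))
  swap
  · obtain ⟨φ, hφ, hle⟩ := Submodule.exists_le_ker_of_notMem hQ
    refine ⟨0, Matrix.ext_iff_mulVec.2 fun u => ?_⟩
    have h1 := congrArg (ev φ) (hexp u)
    rw [map_sub, map_sub, map_sub, ev_pure, ev_pure, ev_pure, map_zero,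
      LinearMap.mem_ker.1 (hle (Submodule.subset_span (by simp : Q *ᵥ y ∈ _))),
      LinearMap.mem_ker.1 (hle (Submodule.subset_span (by simp : y ∈ _))), zero_smul, zero_smul, sub_zero,
      sub_zero, sub_zero, smul_eq_zero] at h1
    rw [zero_smul, Matrix.zero_mulVec]
    exact hPinj _ (h1.resolve_left hφ)
  obtain ⟨α, γ, hQ⟩ := Submodule.mem_span_pair.1 hQ
  obtain ⟨φ, hφ, hle⟩ := Submodule.exists_le_ker_of_notMem hy
  have hφy : φ y = 0 := LinearMap.mem_ker.1 (hle (Submodule.mem_span_singleton_self y))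
  have key : ∀ u, (γ / 2) • (P₀ *ᵥ u) = u := fun u => by
    refine sub_eq_zero.1 (hPinj _ ?_)
    have h1 := congrArg (ev φ) (hexp u)
    rw [map_sub, map_sub, map_sub, ev_pure, ev_pure, ev_pure, map_zero, ← hQ, map_add, map_smul, map_smul, hφy,
      smul_zero, zero_add, zero_smul, sub_zero, smul_eq_mul] at h1
    have h2 : (φ (Q *ᵥ y)) • (γ • (P₀ *ᵥ (P₀ *ᵥ u)) - (2 : F) • (P₀ *ᵥ u)) = 0 := by
      rw [← h1]; module
    have h3 := sub_eq_zero.1 ((smul_eq_zero.1 h2).resolve_left hφ)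
    rw [Matrix.mulVec_sub, Matrix.mulVec_smul, sub_eq_zero, div_eq_inv_mul, mul_smul, h3,
      inv_smul_smul₀ β.two]
  rcases eq_or_ne γ 0 with rfl | hγ
  · refine ⟨0, Matrix.ext_iff_mulVec.2 fun u => ?_⟩
    have := key u
    rw [zero_div, zero_smul] at this
    simp [← this]
  refine ⟨(γ / 2)⁻¹, Matrix.ext_iff_mulVec.2 fun u => ?_⟩
  conv_rhs => rw [Matrix.smul_mulVec, Matrix.one_mulVec, ← key u, inv_smul_smul₀ (div_ne_zero hγ β.two)]

namespace Sys

variable {S : Sys F a b} {X : Subgroup (Module.End F (T F a b))ˣ}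

/-- The transvecting element of the second factor and its two maps. -/
structure Datum (S : Sys F a b) (X : Subgroup (Module.End F (T F a b))ˣ) (U : Type*) [AddCommGroup U]
    [Module F U] where
  ι : U →ₗ[F] T F a b
  σ : T F a b →ₗ[F] U
  d : (Module.End F (T F a b))ˣ
  inj : Function.Injective ι
  comp : σ ∘ₗ ι = 0
  mem : d ∈ X
  val : (d : Module.End F (T F a b)) = 1 + ι ∘ₗ σ
  orth : ∀ m, σ m = 0 ↔ ∀ x, S.Bt (ι x) m = 0
  fix : ∀ x ∈ X, (∀ u, (x : Module.End F (T F a b)) (ι u) = ι u) → IsTens x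
  line : ∀ x ∈ X, (∀ u, (x : Module.End F (T F a b)) (ι u) ∈ LinearMap.range ι) → IsTens x
  conj : ∀ g ∈ X, IsTens (g * d * g⁻¹) → IsTens g
  z₀ : Fin b → F
  φ : Dual F (Fin b → F)
  φ_z₀ : φ z₀ = 1
  φ_ι : ∀ u, ev φ (ι u) = 0
  σ_z₀ : ∀ u, σ (pure z₀ u) = 0

variable {U : Type*} [AddCommGroup U] [Module F U]

namespace Datum

variable (D : Datum S X U)

theorem σι (u : U) : D.σ (D.ι u) = 0 := LinearMap.congr_fun D.comp u

/-- The conjugate of the transvecting element. -/
def conjD (g : (Module.End F (T F a b))ˣ) : (Module.End F (T F a b))ˣ := g * D.d * g⁻¹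

theorem conjD_mem {g : (Module.End F (T F a b))ˣ} (hg : g ∈ X) : D.conjD g ∈ X :=
  X.mul_mem (X.mul_mem hg D.mem) (X.inv_mem hg)

theorem conjD_apply (g : (Module.End F (T F a b))ˣ) (m : T F a b) :
    (D.conjD g : Module.End F (T F a b)) m = m + (g : Module.End F (T F a b))
      (D.ι (D.σ (((g⁻¹ : (Module.End F (T F a b))ˣ) : Module.End F (T F a b)) m))) := by
  rw [conjD, Units.val_mul, Units.val_mul, D.val, Module.End.mul_apply, Module.End.mul_apply, LinearMap.add_apply,
    Module.End.one_apply, LinearMap.comp_apply, map_add, apply_inv_apply]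

theorem conjD_inv_apply (g : (Module.End F (T F a b))ˣ) (m : T F a b) :
    (((D.conjD g)⁻¹ : (Module.End F (T F a b))ˣ) : Module.End F (T F a b)) m = m - (g : Module.End F (T F a b))
      (D.ι (D.σ (((g⁻¹ : (Module.End F (T F a b))ˣ) : Module.End F (T F a b)) m))) := by
  refine units_injective (D.conjD g) ?_
  rw [apply_inv_apply, D.conjD_apply, map_sub, inv_apply_apply, map_sub, D.σι, sub_zero]
  abel

/-- The linking map. -/
def link (g : (Module.End F (T F a b))ˣ) : Module.End F U :=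
  D.σ ∘ₗ (D.conjD g : Module.End F (T F a b)) ∘ₗ D.ι

theorem link_inv (g : (Module.End F (T F a b))ˣ) (u : U) :
    D.σ ((((D.conjD g)⁻¹ : (Module.End F (T F a b))ˣ) : Module.End F (T F a b)) (D.ι u)) = -D.link g u := by
  rw [link, LinearMap.comp_apply, LinearMap.comp_apply, D.conjD_apply, D.conjD_inv_apply, map_sub, map_add, D.σι,
    zero_add, zero_sub]

theorem link_conjD (g : (Module.End F (T F a b))ˣ) : D.link (D.conjD g) = -(D.link g * D.link g) :=
  LinearMap.ext fun u => by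
    rw [link, LinearMap.comp_apply, LinearMap.comp_apply, D.conjD_apply, map_add, D.σι, zero_add, D.link_inv,
      map_neg, map_neg, map_neg, LinearMap.neg_apply, Module.End.mul_apply]
    rfl

theorem not_tens_conjD {g : (Module.End F (T F a b))ˣ} (hg : g ∈ X) (h : ¬ IsTens g) :
    ¬ IsTens (D.conjD g) := fun h' => h (D.conj g hg h')

theorem link_ne_nilpotent : ∀ (k : ℕ) {g : (Module.End F (T F a b))ˣ}, g ∈ X → ¬ IsTens g →
    D.link g ^ k ≠ 0 := by
  intro k
  induction k using Nat.strongRecOn with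
  | _ k ih =>
    intro g hg hK hk
    have he := D.conjD_mem hg
    have heK := D.not_tens_conjD hg hK
    rcases Nat.lt_or_ge k 2 with h2 | h2
    · have hT : D.link g = 0 := by
        rcases (by omega : k = 0 ∨ k = 1) with rfl | rfl
        · exact LinearMap.ext fun u => by
            have := LinearMap.congr_fun hk (D.link g u)
            simpa using this
        · simpa using hk
      refine D.not_tens_conjD he heK (D.fix _ (D.conjD_mem he) fun u => ?_)
      rw [D.conjD_apply, D.link_inv, hT, LinearMap.zero_apply, neg_zero, map_zero, map_zero, add_zero]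
    · refine ih ((k + 1) / 2) (by omega) he heK ?_
      rw [D.link_conjD, neg_pow, ← pow_two, ← pow_mul, pow_eq_zero_of_le (by omega) hk, mul_zero]

/-- What the dichotomy gives. -/
structure Invol (g : (Module.End F (T F a b))ˣ) where
  Q : Matrix (Fin b) (Fin b) F
  α : Module.End F U
  mem : ∃ j ∈ X, (j : Module.End F (T F a b)) = rt Q
  sq : Q * Q = 1
  ne : Q ≠ 1
  iso : ∀ y y', S.D.B (Q *ᵥ y) (Q *ᵥ y') = S.D.B y y'
  αsq : α * α = 1
  ι_eq : ∀ x, rt Q (D.ι x) = D.ι (α x)
  eι_eq : ∀ x, rt Q ((D.conjD g : Module.End F (T F a b)) (D.ι x)) =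
    (D.conjD g : Module.End F (T F a b)) (D.ι (α x))
  comm : D.link g * α = α * D.link g
  ker : ∀ y, D.link g y = 0 → α y = y
  neg : ∀ m, rt Q m = -m → ∃ x y, α x = -x ∧ α y = -y ∧
    m = D.ι x + (D.conjD g : Module.End F (T F a b)) (D.ι y)
  z₀_eq : ∀ u : Fin a → F, ev D.φ (pure (Q *ᵥ D.z₀) u) = ev D.φ (pure D.z₀ u)

theorem exists_invol [Finite F] [FiniteDimensional F U] (hX : S.Over X) (hd : S.Good) {g : (Module.End F (T F a b))ˣ} (hg : g ∈ X)
    (hK : ¬ IsTens g) : Nonempty (D.Invol g) := by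
  have h2 := S.two
  rcases dichotomy h2 D.ι D.σ D.inj D.comp D.d (D.conjD g) D.val (D.link g) rfl
    (LinearMap.ext fun u => D.link_inv g u) with hnil | ⟨j, hj, α, hj1, hjj, hαα, hcomm, hjι, hje, hker, -, hneg⟩
  · obtain ⟨k, hk⟩ := hnil
    exact absurd hk (D.link_ne_nilpotent k hg hK)
  have hjX : j ∈ X := (Subgroup.closure_le _).2 (by
    rintro x (rfl | rfl)
    · exact D.mem
    · exact X.mul_mem (X.mul_mem (D.conjD_mem hg) D.mem) (X.inv_mem (D.conjD_mem hg))) hj
  obtain ⟨P, Q₀, hPQ⟩ := D.line j hjX fun u => ⟨α u, (hjι u).symm⟩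
  have hα : ∀ x, α (α x) = x := fun x => by rw [← Module.End.mul_apply, hαα, Module.End.one_apply]
  have hinv : ∀ m, (j : Module.End F (T F a b)) ((j : Module.End F (T F a b)) m) = m := fun m => by
    rw [← Module.End.mul_apply, ← Units.val_mul, hjj, Units.val_one, Module.End.one_apply]
  set c := D.φ ((Q₀ : Matrix (Fin b) (Fin b) F) *ᵥ D.z₀) with hc
  have hscal : ∀ u, c • ((P : Matrix (Fin a) (Fin a) F) *ᵥ u) = u := fun u => by
    set m : T F a b := pure D.z₀ u
    set n := (j : Module.End F (T F a b)) m - m with hn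
    obtain ⟨x, y, -, hy, hxy⟩ := hneg n (by rw [hn, map_sub, hinv, neg_sub])
    have hσ : D.σ ((j : Module.End F (T F a b)) m) = 0 := (D.orth _).2 fun x => by
      rw [← hα x, ← hjι, hX.iso j hjX]
      exact (D.orth m).1 (D.σ_z₀ u) _
    have hTy : D.link g y = 0 := by
      have h1 := congrArg D.σ hxy
      rw [hn, map_sub, hσ, D.σ_z₀, sub_zero, map_add, D.σι, zero_add] at h1
      exact h1.symm
    have hy0 : y = 0 := by
      have h1 := hker y hTy
      rw [hy] at h1
      exact (smul_eq_zero.1 (show (2 : F) • y = 0 by rw [two_smul]; nth_rw 1 [← h1]; rw [neg_add_cancel])).resolve_left h2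
    have h1 := congrArg (ev D.φ) hxy
    rw [hy0, map_zero, map_zero, add_zero, D.φ_ι, hn, map_sub, hPQ, lt_rt_pure, ev_pure, ev_pure, D.φ_z₀,
      one_smul, sub_eq_zero, ← hc] at h1
    exact h1
  have ha := hd.a_pos
  have hc0 : c ≠ 0 := fun h0 => by
    have := hscal (Pi.single ⟨0, ha⟩ 1)
    rw [h0, zero_smul] at this
    simpa using congrFun this ⟨0, ha⟩
  set Q := c⁻¹ • (Q₀ : Matrix (Fin b) (Fin b) F) with hQdef
  have hP : (P : Matrix (Fin a) (Fin a) F) = c⁻¹ • 1 := Matrix.ext_iff_mulVec.2 fun u => by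
    conv_rhs => rw [Matrix.smul_mulVec, Matrix.one_mulVec, ← hscal u, inv_smul_smul₀ hc0]
  have hQ : (j : Module.End F (T F a b)) = rt Q := by
    rw [hPQ, hP, lt_smul, lt_one, smul_mul_assoc, one_mul, hQdef, rt_smul]
  refine ⟨⟨Q, α, ⟨j, hjX, hQ⟩, rt_injective (a := a) ha ?_, fun h => hj1 (Units.ext ?_), fun y y' => ?_, hαα,
    fun x => by rw [← hQ]; exact hjι x, fun x => by rw [← hQ]; exact hje x, hcomm, hker,
    fun m hm => hneg m (by rw [hQ]; exact hm), fun u => ?_⟩⟩
  · rw [rt_mul, ← hQ, ← Units.val_mul, hjj, Units.val_one, rt_one]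
  · rw [hQ, h, rt_one, Units.val_one]
  · let u₀ : Fin a → F := Pi.single ⟨0, ha⟩ 1
    obtain ⟨e₁, he₁⟩ := S.A.exists_one (x := u₀) (by simp [u₀])
    have h1 := hX.iso j hjX (pure y u₀) (pure y' e₁)
    rwa [hQ, rt_pure, rt_pure, Bt_pure_pure, Bt_pure_pure, he₁, mul_one, mul_one] at h1
  · rw [ev_pure, ev_pure, hQdef, Matrix.smul_mulVec, map_smul, D.φ_z₀, ← hc, smul_eq_mul, inv_mul_cancel₀ hc0]

namespace Invol

variable {D} {g : (Module.End F (T F a b))ˣ} (J : D.Invol g)

/-- The second conjugate preserves the negative eigenspace. -/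
theorem neg_mem {m : T F a b} (hm : rt J.Q m = -m) :
    rt J.Q ((D.conjD (D.conjD g) : Module.End F (T F a b)) m) = -(D.conjD (D.conjD g) : Module.End F (T F a b)) m ∧
      rt J.Q ((((D.conjD (D.conjD g))⁻¹ : (Module.End F (T F a b))ˣ) : Module.End F (T F a b)) m) =
        -(((D.conjD (D.conjD g))⁻¹ : (Module.End F (T F a b))ˣ) : Module.End F (T F a b)) m := by
  obtain ⟨x, y, hx, -, hxy⟩ := J.neg m hm
  have hσ : D.σ ((((D.conjD g)⁻¹ : (Module.End F (T F a b))ˣ) : Module.End F (T F a b)) m) = -D.link g x := by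
    rw [hxy, map_add, inv_apply_apply, map_add, D.link_inv, D.σι, add_zero]
  have hTx : J.α (D.link g x) = -D.link g x := by
    rw [← Module.End.mul_apply, ← J.comm, Module.End.mul_apply, hx, map_neg]
  rw [D.conjD_apply (D.conjD g), D.conjD_inv_apply (D.conjD g), hσ, map_neg, map_neg, map_add, map_sub, map_neg, J.eι_eq, hTx, map_neg,
    map_neg, hm]
  constructor <;> abel

theorem rt_rt (m : T F a b) : rt J.Q (rt J.Q m) = m := by
  rw [← Module.End.mul_apply, ← rt_mul, J.sq, rt_one, Module.End.one_apply]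

/-- If the algebra involution is trivial the involution is trivial. -/
theorem α_ne_one (ha : 0 < a) (h : J.α = 1) : False := by
  refine J.ne (rt_injective (a := a) ha (LinearMap.ext fun m => ?_))
  rw [rt_one, Module.End.one_apply]
  obtain ⟨x, y, hx, hy, hxy⟩ := J.neg (rt J.Q m - m) (by rw [map_sub, J.rt_rt, neg_sub])
  have h0 : ∀ x : U, J.α x = -x → x = 0 := fun x hx => by
    rw [h, Module.End.one_apply] at hx
    exact (smul_eq_zero.1 (show (2 : F) • x = 0 by rw [two_smul]; nth_rw 1 [hx]; rw [neg_add_cancel])).resolve_left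
      S.two
  rw [h0 x hx, h0 y hy, map_zero, map_zero, add_zero, sub_eq_zero] at hxy
  exact hxy

/-- When the algebra involution is `-1` the second conjugate fixes the positive eigenspace. -/
theorem pos_fix (hX : S.Over X) (hg : g ∈ X) (hneg : ∀ x, J.α x = -x) {m : T F a b} (hm : rt J.Q m = m) :
    (D.conjD (D.conjD g) : Module.End F (T F a b)) m = m := by
  rw [D.conjD_apply]
  have h0 : D.σ ((((D.conjD g)⁻¹ : (Module.End F (T F a b))ˣ) : Module.End F (T F a b)) m) = 0 :=
    (D.orth _).2 fun x => by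
      rw [← hX.iso _ (D.conjD_mem hg), apply_inv_apply]
      obtain ⟨j, hjX, hj⟩ := J.mem
      have h1 := hX.iso j hjX ((D.conjD g : Module.End F (T F a b)) (D.ι x)) m
      rw [hj, hm, J.eι_eq, hneg, map_neg, map_neg, map_neg, LinearMap.neg_apply] at h1
      exact (mul_eq_zero.1 (show (2 : F) * S.Bt ((D.conjD g : Module.End F (T F a b)) (D.ι x)) m = 0 by
        linear_combination -h1)).resolve_left S.two
  rw [h0, map_zero, map_zero, add_zero]

end Invol

end Datum

end Sys

end Cfsg.Agent.H24.Tensor
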