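import Cfsg.Agent.H24.Tensor.Core

/-!
Without a root element the group lies in the stabiliser: the case of a symmetric second form.
-/

set_option autoImplicit false
set_option maxHeartbeats 400000

namespace Cfsg.Agent.H24.Tensor

open Module Matrix Cfsg.Agent.H98.TensorGL Cfsg.Agent.H98.ExtField

variable {F : Type*} [Field F] {a b : ℕ}

namespace Sys

/-- Two orthogonal hyperbolic pairs and an anisotropic vector orthogonal to both. -/
structure Cfg (S : Sys F a b) where
  v : Fin b → F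
  v' : Fin b → F
  w : Fin b → F
  w' : Fin b → F
  z : Fin b → F
  v0 : v ≠ 0
  vv : S.D.B v v = 0
  ww : S.D.B w w = 0
  vv' : S.D.B v v' = 1
  ww' : S.D.B w w' = 1
  vw : S.D.B v w = 0
  vw' : S.D.B v w' = 0
  wv' : S.D.B w v' = 0
  vz : S.D.B v z = 0
  wz : S.D.B w z = 0
  zz : S.D.B z z ≠ 0

variable [Finite F] {S : Sys F a b} {X : Subgroup (Module.End F (T F a b))ˣ}

theorem exists_cfg (hd : S.Good) (hs : S.D.s = 1) : Nonempty S.Cfg := by
  obtain ⟨hb, -⟩ := hd.pos hs
  have hT := S.D.ndOn_top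
  obtain ⟨v, -, hv, hvv⟩ := hT.isotropic S.D hs (U := ⊤) (by rw [Bil.finrank_top_eq]; omega)
  obtain ⟨v', -, hv'v', hvv'⟩ := hT.partner S.D (x := v) trivial hv hvv
  have hU := hT.cut_pair S.D (x := v) (y := v') trivial trivial hvv hv'v' hvv'
  have hdU : b ≤ finrank F (S.D.cut ⊤ v v') + 2 := by
    have := S.D.finrank_cut ⊤ v v'
    rwa [Bil.finrank_top_eq] at this
  obtain ⟨w, hw, hw0, hww⟩ := hU.isotropic S.D hs (by omega)
  obtain ⟨w', hw', hw'w', hww'⟩ := hU.partner S.D hw hw0 hww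
  have hU1 := hU.cut_pair S.D hw hw' hww hw'w' hww'
  have hdU1 := S.D.finrank_cut (S.D.cut ⊤ v v') w w'
  obtain ⟨z, hz, hzz⟩ := hU1.aniso S.D hs (Bil.ne_bot_of_pos (by omega))
  obtain ⟨hzU, hwz, -⟩ := S.D.mem_cut.1 hz
  exact ⟨⟨v, v', w, w', z, hv, hvv, hww, hvv', hww', (S.D.mem_cut.1 hw).2.1, (S.D.mem_cut.1 hw').2.1,
    S.D.comm (S.D.mem_cut.1 hw).2.2, (S.D.mem_cut.1 hzU).2.1, hwz, hzz⟩⟩

variable (C : S.Cfg)

/-- The embedding of two copies of the first factor. -/
def Cfg.ι : (Fin a → F) × (Fin a → F) →ₗ[F] T F a b := (pure C.v).coprod (pure C.w)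

/-- The transvecting element. -/
noncomputable def Cfg.d : (Module.End F (T F a b))ˣ := rtU (S.D.sie (z := C.w) C.vv C.vw)

/-- The pairing with the line. -/
def Cfg.σ : T F a b →ₗ[F] (Fin a → F) × (Fin a → F) := (ev (S.D.B C.w)).prod (-ev (S.D.B C.v))

omit [Finite F] in
theorem Cfg.ι_apply (x : (Fin a → F) × (Fin a → F)) : C.ι x = pure C.v x.1 + pure C.w x.2 := rfl

omit [Finite F] in
theorem Cfg.σ_apply (m : T F a b) : C.σ m = (ev (S.D.B C.w) m, -ev (S.D.B C.v) m) := rfl

omit [Finite F] in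
theorem Cfg.ι_row (x : (Fin a → F) × (Fin a → F)) (i : Fin a) : C.ι x i = x.1 i • C.v + x.2 i • C.w := rfl

omit [Finite F] in
theorem Cfg.indep {r t : F} (h : r • C.v + t • C.w = 0) : r = 0 ∧ t = 0 := by
  refine ⟨?_, ?_⟩
  · have := congrArg (fun y => S.D.B y C.v') h
    simpa [map_add, map_smul, C.vv', C.wv'] using this
  · have := congrArg (fun y => S.D.B y C.w') h
    simpa [map_add, map_smul, C.vw', C.ww'] using this

omit [Finite F] in
theorem Cfg.inj : Function.Injective C.ι := (injective_iff_map_eq_zero _).2 fun x hx =>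
  Prod.ext (funext fun i => (C.indep (congrFun hx i)).1) (funext fun i => (C.indep (congrFun hx i)).2)

omit [Finite F] in
theorem Cfg.σι (x : (Fin a → F) × (Fin a → F)) : C.σ (C.ι x) = 0 := by
  simp [Cfg.σ_apply, Cfg.ι_apply, ev_pure, C.vv, C.ww, C.vw, S.D.comm C.vw]

omit [Finite F] in
theorem Cfg.val (hs : S.D.s = 1) : (C.d : Module.End F (T F a b)) = 1 + C.ι ∘ₗ C.σ :=
  ext_pure fun y u => by
    rw [Cfg.d, rtU_val, Bil.sie_val, rt_pure, S.D.sieM_mulVec C.vv C.vw, C.ww, hs]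
    simp only [mul_zero, zero_mul, zero_smul, sub_zero, one_mul, LinearMap.add_apply, Module.End.one_apply,
      LinearMap.comp_apply, Cfg.σ_apply, Cfg.ι_apply, ev_pure, map_neg, map_smul, pure_sub, pure_add, pure_smul]
    abel

omit [Finite F] in
theorem Cfg.surj (hs : S.D.s = 1) (x : (Fin a → F) × (Fin a → F)) : ∃ n, C.σ n = x := by
  refine ⟨pure C.w' x.1 - pure C.v' x.2, ?_⟩
  simp [Cfg.σ_apply, ev_pure, C.ww', C.vv', C.vw', C.wv']

/-- An element mapping two copies of the first factor onto themselves acts on the span. -/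
theorem Cfg.eigen {j : Module.End F (T F a b)} (ha : 0 < a) {P : Matrix (Fin a) (Fin a) F}
    {Q : Matrix (Fin b) (Fin b) F} (hj : j = lt P * rt Q) {y : Fin b → F} (hP : IsUnit P)
    (h : ∀ u, j (pure y u) ∈ LinearMap.range C.ι) : ∃ r t : F, Q *ᵥ y = r • C.v + t • C.w := by
  obtain ⟨Pu, rfl⟩ := hP
  obtain ⟨x, hx⟩ := h ((↑Pu⁻¹ : Matrix (Fin a) (Fin a) F) *ᵥ Pi.single ⟨0, ha⟩ 1)
  rw [hj, lt_rt_pure, Matrix.mulVec_mulVec, Units.mul_inv, Matrix.one_mulVec] at hx
  refine ⟨x.1 ⟨0, ha⟩, x.2 ⟨0, ha⟩, ?_⟩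
  rw [← C.ι_row, hx]
  simp

variable (hX : S.Over X) (hnr : S.NoRoot X) (hd : S.Good) (hs : S.D.s = 1)
include hX hnr hd hs

theorem Cfg.isTens_line {x : (Module.End F (T F a b))ˣ} (hx : x ∈ X)
    (h : ∀ u, (x : Module.End F (T F a b)) (C.ι u) ∈ LinearMap.range C.ι) : IsTens x := by
  have hsur : LinearMap.range C.ι ≤ LinearMap.range ((x : Module.End F (T F a b)) ∘ₗ C.ι) := by
    refine le_of_eq (Submodule.eq_of_le_of_finrank_eq ?_ ?_).symm
    · rintro _ ⟨u, rfl⟩; exact h u
    · rw [LinearMap.finrank_range_of_inj (f := (x : Module.End F (T F a b)) ∘ₗ C.ι)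
        ((units_injective x).comp C.inj), LinearMap.finrank_range_of_inj C.inj]
  refine hX.isTens_of_line hnr hd C.v0 C.vv C.vw C.vz C.wz C.zz C.v0 C.vv hx fun u => ?_
  obtain ⟨p, hp⟩ := hsur ⟨(u, 0), rfl⟩
  refine ⟨p.1, p.2, ?_⟩
  rw [← C.ι_apply]
  rw [LinearMap.comp_apply] at hp
  rw [hp, C.ι_apply]
  simp

/-- Conjugating the transvecting element into the stabiliser. -/
theorem Cfg.isTens_of_conj {g : (Module.End F (T F a b))ˣ} (hg : g ∈ X) (he : IsTens (g * C.d * g⁻¹)) :
    IsTens g := by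
  obtain ⟨hb5, hab⟩ := hd.pos hs
  have ha := hd.a_pos
  obtain ⟨P, Q, hPQ⟩ := he
  set e := g * C.d * g⁻¹
  have heval : ∀ m, (e : Module.End F (T F a b)) m - m = (g : Module.End F (T F a b))
      (C.ι (C.σ (((g⁻¹ : (Module.End F (T F a b))ˣ) : Module.End F (T F a b)) m))) := fun m => by
    rw [Units.val_mul, Units.val_mul, C.val hs, Module.End.mul_apply, Module.End.mul_apply, LinearMap.add_apply,
      Module.End.one_apply, LinearMap.comp_apply, map_add, apply_inv_apply, add_sub_cancel_left]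
  have hsq : ((e : Module.End F (T F a b)) - 1) * ((e : Module.End F (T F a b)) - 1) = 0 :=
    LinearMap.ext fun m => by
      rw [Module.End.mul_apply, LinearMap.sub_apply, Module.End.one_apply, LinearMap.sub_apply,
        Module.End.one_apply, heval m, heval, inv_apply_apply, C.σι, map_zero, map_zero, LinearMap.zero_apply]
  let φ : (Fin a → F) × (Fin a → F) →ₗ[F] T F a b := (g : Module.End F (T F a b)) ∘ₗ C.ι
  have hφ : Function.Injective φ := (units_injective g).comp C.inj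
  have hsurj : ∀ x, ∃ n, φ x = (e : Module.End F (T F a b)) n - n := fun x => by
    obtain ⟨n, hn⟩ := C.surj hs x
    exact ⟨(g : Module.End F (T F a b)) n, by rw [heval, inv_apply_apply, hn]; rfl⟩
  have hin : ∀ m, (e : Module.End F (T F a b)) m - m ∈ LinearMap.range φ := fun m => ⟨_, (heval m).symm⟩
  have hu₀ : ((Pi.single ⟨0, ha⟩ 1 : Fin a → F), (0 : Fin a → F)) ≠ 0 := by simp
  rw [hPQ] at hsurj hin hsq
  rcases scalar_or S.D hsq with ⟨c, hc⟩ | ⟨c, hc⟩
  · set D₁ := c • (Q : Matrix (Fin b) (Fin b) F) - 1 with hD₁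
    have hD : ∀ m, (lt (P : Matrix (Fin a) (Fin a) F) * rt (Q : Matrix (Fin b) (Fin b) F) :
        Module.End F (T F a b)) m - m = rt D₁ m := fun m => by
      rw [hc, lt_smul, lt_one, smul_mul_assoc, one_mul, hD₁, rt_sub, rt_smul, rt_one, LinearMap.sub_apply,
        Module.End.one_apply]
    simp only [hD] at hsurj hin
    obtain ⟨y₁, hy₁⟩ : ∃ y₁, D₁ *ᵥ y₁ ≠ 0 := by
      by_contra h0
      push Not at h0
      have h1 : D₁ = 0 := Matrix.ext_iff_mulVec.2 fun z => by rw [h0, Matrix.zero_mulVec]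
      obtain ⟨n, hn⟩ := hsurj (Pi.single ⟨0, ha⟩ 1, 0)
      rw [h1, rt_zero, LinearMap.zero_apply, ← map_zero φ] at hn
      exact hu₀ (hφ hn)
    have hy : ∀ u, ∃ x, φ x = pure (D₁ *ᵥ y₁) u := fun u => by
      obtain ⟨x, hx⟩ := hin (pure y₁ u)
      exact ⟨x, hx.trans (rt_pure ..)⟩
    have hiso : S.D.B (D₁ *ᵥ y₁) (D₁ *ᵥ y₁) = 0 := by
      let u₀ : Fin a → F := Pi.single ⟨0, ha⟩ 1
      obtain ⟨e₁, he₁⟩ := S.A.exists_one (x := u₀) (by simp [u₀])
      obtain ⟨x, hx⟩ := hy u₀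
      obtain ⟨x', hx'⟩ := hy e₁
      have h1 : S.Bt (φ x) (φ x') = 0 := by
        show S.Bt ((g : Module.End F (T F a b)) (C.ι x)) ((g : Module.End F (T F a b)) (C.ι x')) = 0
        rw [hX.iso g hg]
        simp [Cfg.ι_apply, Bt_pure_pure, C.vv, C.ww, C.vw, S.D.comm C.vw]
      rwa [hx, hx', Bt_pure_pure, he₁, mul_one] at h1
    refine hX.isTens_of_line hnr hd C.v0 C.vv C.vw C.vz C.wz C.zz hy₁ hiso hg fun u => ?_
    obtain ⟨x, hx⟩ := hy u
    exact ⟨x.1, x.2, hx⟩
  exfalso
  set M := c • (P : Matrix (Fin a) (Fin a) F) - 1 with hM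
  have hD : ∀ m, (lt (P : Matrix (Fin a) (Fin a) F) * rt (Q : Matrix (Fin b) (Fin b) F) :
      Module.End F (T F a b)) m - m = lt M m := fun m => by
    rw [hc, rt_smul, rt_one, mul_smul_comm, mul_one, hM, lt_sub', lt_smul, lt_one, LinearMap.sub_apply,
      Module.End.one_apply]
  simp only [hD] at hsurj hin
  obtain ⟨u₁, hu₁⟩ : ∃ u₁, M *ᵥ u₁ ≠ 0 := by
    by_contra h0
    push Not at h0
    have h1 : M = 0 := Matrix.ext_iff_mulVec.2 fun z => by rw [h0, Matrix.zero_mulVec]
    obtain ⟨n, hn⟩ := hsurj (Pi.single ⟨0, ha⟩ 1, 0)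
    rw [h1, lt_zero, LinearMap.zero_apply, ← map_zero φ] at hn
    exact hu₀ (hφ hn)
  set c₀ := M *ᵥ u₁
  have hrk : finrank F (LinearMap.range φ) = a + a := by
    rw [LinearMap.finrank_range_of_inj hφ, finrank_prod, finrank_fin_fun]
  have hone : ∀ u, M *ᵥ u ∈ Submodule.span F {c₀} := fun u => by
    by_contra hn
    let f : (Fin b → F) × (Fin b → F) →ₗ[F] T F a b :=
      { toFun := fun p => pure p.1 c₀ + pure p.2 (M *ᵥ u)
        map_add' := fun p p' => by simp only [Prod.fst_add, Prod.snd_add, pure_add]; abel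
        map_smul' := fun r p => by simp only [Prod.smul_fst, Prod.smul_snd, pure_smul, smul_add, RingHom.id_apply] }
    have hf : Function.Injective f := (injective_iff_map_eq_zero f).2 fun p hp => by
      have hj : ∀ j, p.1 j • c₀ + p.2 j • (M *ᵥ u) = 0 := fun j => funext fun i => by
        have := congrFun (congrFun hp i) j
        simpa [f, mul_comm] using this
      have h2 : ∀ j, p.2 j = 0 := fun j => by
        by_contra h0
        refine hn (Submodule.mem_span_singleton.2 ⟨-((p.2 j)⁻¹ * p.1 j), ?_⟩)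
        rw [neg_smul, mul_smul, eq_neg_of_add_eq_zero_left (hj j), smul_neg, neg_neg, inv_smul_smul₀ h0]
      refine Prod.ext (funext fun j => ?_) (funext h2)
      have := hj j
      rw [h2, zero_smul, add_zero] at this
      exact (smul_eq_zero.1 this).resolve_right hu₁
    have hle : LinearMap.range f ≤ LinearMap.range φ := by
      rintro _ ⟨p, rfl⟩
      show pure p.1 (M *ᵥ u₁) + pure p.2 (M *ᵥ u) ∈ _
      rw [← lt_pure, ← lt_pure]
      exact Submodule.add_mem _ (hin _) (hin _)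
    have h1 := Submodule.finrank_mono hle
    rw [LinearMap.finrank_range_of_inj hf, hrk, finrank_prod, finrank_fin_fun] at h1
    omega
  obtain ⟨χ, hχ, -⟩ := Submodule.exists_le_ker_of_notMem (p := (⊥ : Submodule F (Fin a → F))) (v := c₀)
    (by rw [Submodule.mem_bot]; exact hu₁)
  obtain ⟨d₀, hd₀⟩ := S.A.rep ((χ c₀)⁻¹ • χ ∘ₗ M.mulVecLin)
  have hMu : M = S.A.tau c₀ d₀ := Matrix.ext_iff_mulVec.2 fun u => by
    obtain ⟨t, ht⟩ := Submodule.mem_span_singleton.1 (hone u)
    rw [Bil.tau_mulVec, hd₀, LinearMap.smul_apply, LinearMap.comp_apply, Matrix.mulVecLin_apply, ← ht, map_smul,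
      smul_eq_mul, smul_eq_mul, mul_left_comm, inv_mul_cancel₀ hχ, mul_one]
  -- every image is a multiple of the vector found
  have hℓ : ∀ x, ∃ ℓ, φ x = pure ℓ c₀ := fun x => by
    obtain ⟨n, hn⟩ := hsurj x
    exact ⟨_, by rw [hn, hMu, lt_tau_apply]⟩
  have hback : ∀ ℓ, ∃ x, φ x = pure ℓ c₀ := fun ℓ => by
    obtain ⟨x, hx⟩ := hin (pure ℓ u₁)
    exact ⟨x, by rw [hx, lt_pure]⟩
  have ha3 : 3 ≤ a := by
    have hb2 : b ≤ a + a := by
      let f : (Fin b → F) →ₗ[F] T F a b :=
        { toFun := fun p => pure p c₀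
          map_add' := fun p p' => pure_add p p' c₀
          map_smul' := fun r p => pure_smul r p c₀ }
      have hf : Function.Injective f := (injective_iff_map_eq_zero f).2 fun p hp =>
        (pure_eq_zero hp).resolve_right hu₁
      have hle : LinearMap.range f ≤ LinearMap.range φ := by
        rintro _ ⟨p, rfl⟩
        obtain ⟨x, hx⟩ := hback p
        exact ⟨x, hx⟩
      have := Submodule.finrank_mono hle
      rwa [LinearMap.finrank_range_of_inj hf, hrk, finrank_fin_fun] at this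
    omega
  -- transport a Siegel transformation with a one dimensional square
  set q := S.D.sie C.vv C.vz
  set x := g⁻¹ * rtU q * g
  have hqX : rtU (a := a) q ∈ X := hX.rt_sie C.vv C.vz
  have hxX : x ∈ X := X.mul_mem (X.mul_mem (X.inv_mem hg) hqX) hg
  have hgx : ∀ m, (g : Module.End F (T F a b)) ((x : Module.End F (T F a b)) m) =
      rt (S.D.sieM C.v C.z) ((g : Module.End F (T F a b)) m) := fun m => by
    rw [Units.val_mul, Units.val_mul, Module.End.mul_apply, Module.End.mul_apply, apply_inv_apply, rtU_val,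
      Bil.sie_val]
  have hxL : ∀ u, (x : Module.End F (T F a b)) (C.ι u) ∈ LinearMap.range C.ι := fun u => by
    obtain ⟨ℓ, hl⟩ := hℓ u
    obtain ⟨u', hu'⟩ := hback (S.D.sieM C.v C.z *ᵥ ℓ)
    refine ⟨u', units_injective g ?_⟩
    rw [hgx, show (g : Module.End F (T F a b)) (C.ι u') = _ from hu',
      show (g : Module.End F (T F a b)) (C.ι u) = _ from hl, rt_pure]
  obtain ⟨P', Q', hx'⟩ := C.isTens_line hX hnr hd hs hxX hxL
  have hQv : ∃ r t : F, (Q' : Matrix (Fin b) (Fin b) F) *ᵥ C.v = r • C.v + t • C.w :=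
    C.eigen ha hx' P'.isUnit fun u => by
      rw [show pure C.v u = C.ι (u, 0) by simp [Cfg.ι_apply]]; exact hxL _
  have hQw : ∃ r t : F, (Q' : Matrix (Fin b) (Fin b) F) *ᵥ C.w = r • C.v + t • C.w :=
    C.eigen ha hx' P'.isUnit fun u => by
      rw [show pure C.w u = C.ι (0, u) by simp [Cfg.ι_apply]]; exact hxL _
  obtain ⟨r₁, t₁, hv1⟩ := hQv
  obtain ⟨r₂, t₂, hw1⟩ := hQw
  have hdiff : ∀ u, ∃ α γ : F, (g : Module.End F (T F a b)) ((x : Module.End F (T F a b)) (C.ι u) - C.ι u) =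
      pure (α • C.v + γ • C.z) c₀ := fun u => by
    obtain ⟨ℓ, hl⟩ := hℓ u
    refine ⟨S.D.B C.z ℓ - (2 : F)⁻¹ * S.D.s * S.D.B C.z C.z * S.D.B C.v ℓ, -(S.D.s * S.D.B C.v ℓ), ?_⟩
    rw [map_sub, hgx, show (g : Module.End F (T F a b)) (C.ι u) = _ from hl, rt_pure, ← pure_sub,
      S.D.sieM_mulVec C.vv C.vz]
    congr 2
    module
  by_cases hscal : t₁ = 0 ∧ r₂ = 0 ∧ r₁ = t₂
  swap
  · -- some vector of the line is moved
    obtain ⟨y, hyL, hyQ, hy0⟩ : ∃ y, (∃ r t : F, y = r • C.v + t • C.w) ∧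
        (Q' : Matrix (Fin b) (Fin b) F) *ᵥ y ∉ Submodule.span F {y} ∧ y ≠ 0 := by
      by_contra hc
      push Not at hc
      have h1 : ∀ r t : F, r • C.v + t • C.w ≠ 0 →
          ∃ e : F, r * r₁ + t * r₂ = e * r ∧ r * t₁ + t * t₂ = e * t := fun r t hne => by
        have hm : (Q' : Matrix (Fin b) (Fin b) F) *ᵥ (r • C.v + t • C.w) ∈
            Submodule.span F {r • C.v + t • C.w} := by
          by_contra hm
          exact hne (hc _ ⟨r, t, rfl⟩ hm)
        obtain ⟨e, he⟩ := Submodule.mem_span_singleton.1 hm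
        rw [Matrix.mulVec_add, Matrix.mulVec_smul, Matrix.mulVec_smul, hv1, hw1] at he
        obtain ⟨e1, e2⟩ := C.indep (r := e * r - (r * r₁ + t * r₂)) (t := e * t - (r * t₁ + t * t₂)) (by
          rw [← sub_eq_zero] at he
          rw [← he]
          module)
        exact ⟨e, (sub_eq_zero.1 e1).symm, (sub_eq_zero.1 e2).symm⟩
      obtain ⟨e, e1, e2⟩ := h1 1 0 (by rw [one_smul, zero_smul, add_zero]; exact C.v0)
      obtain ⟨f, f1, f2⟩ := h1 0 1 fun h => one_ne_zero (C.indep h).2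
      obtain ⟨k, k1, k2⟩ := h1 1 1 fun h => one_ne_zero (C.indep h).2
      have ht1 : t₁ = 0 := by linear_combination e2
      have hr2 : r₂ = 0 := by linear_combination f1
      exact hscal ⟨ht1, hr2, by linear_combination k1 - k2 + ht1 - hr2⟩
    obtain ⟨ρ, τ, hyeq⟩ := hyL
    obtain ⟨ψ, hψ, hψle⟩ := Submodule.exists_le_ker_of_notMem hyQ
    have hψy : ψ y = 0 := LinearMap.mem_ker.1 (hψle (Submodule.mem_span_singleton_self y))
    let f : (Fin a → F) →ₗ[F] T F a b :=
      (g : Module.End F (T F a b)) ∘ₗ (((x : Module.End F (T F a b)) - 1) ∘ₗ pure y)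
    have hf : Function.Injective f := (injective_iff_map_eq_zero f).2 fun u hu => by
      have h1 : (x : Module.End F (T F a b)) (pure y u) - pure y u = 0 :=
        units_injective g (hu.trans (map_zero _).symm)
      have h2 := congrArg (ev ψ) h1
      rw [hx', lt_rt_pure, map_sub, ev_pure, ev_pure, map_zero, hψy, zero_smul, sub_zero, smul_eq_zero] at h2
      have h3 := h2.resolve_left hψ
      rw [← Matrix.one_mulVec u, ← Units.inv_mul P', ← Matrix.mulVec_mulVec, h3, Matrix.mulVec_zero]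
    let tgt : (F × F) →ₗ[F] T F a b :=
      { toFun := fun p => pure (p.1 • C.v + p.2 • C.z) c₀
        map_add' := fun p p' => by
          rw [← pure_add]
          congr 2
          simp only [Prod.fst_add, Prod.snd_add, add_smul]
          abel
        map_smul' := fun r p => by
          rw [RingHom.id_apply, ← pure_smul]
          congr 2
          simp only [Prod.smul_fst, Prod.smul_snd, smul_add, smul_smul, smul_eq_mul] }
    have hle : LinearMap.range f ≤ LinearMap.range tgt := by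
      rintro _ ⟨u, rfl⟩
      obtain ⟨α, γ, h1⟩ := hdiff (ρ • u, τ • u)
      refine ⟨(α, γ), h1.symm.trans ?_⟩
      show _ = (g : Module.End F (T F a b)) ((x : Module.End F (T F a b)) (pure y u) - pure y u)
      rw [hyeq, pure_add, pure_smul', pure_smul', ← C.ι_apply (ρ • u, τ • u)]
    have h1 := (Submodule.finrank_mono hle).trans (LinearMap.finrank_range_le tgt)
    rw [LinearMap.finrank_range_of_inj hf, finrank_fin_fun, finrank_prod, finrank_self] at h1
    omega
  obtain ⟨rfl, rfl, rfl⟩ := hscal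
  rw [zero_smul, add_zero] at hv1
  rw [zero_smul, zero_add] at hw1
  set R := (r₁ • (P' : Matrix (Fin a) (Fin a) F) - 1) * (r₁ • (P' : Matrix (Fin a) (Fin a) F) - 1) with hR
  have hsub : ∀ u, (x : Module.End F (T F a b)) (C.ι u) - C.ι u =
      C.ι ((r₁ • (P' : Matrix (Fin a) (Fin a) F) - 1) *ᵥ u.1, (r₁ • (P' : Matrix (Fin a) (Fin a) F) - 1) *ᵥ u.2) :=
    fun u => by
      rw [hx', C.ι_apply, C.ι_apply, map_add, lt_rt_pure, lt_rt_pure, hv1, hw1, pure_smul', pure_smul',
        Matrix.sub_mulVec, Matrix.sub_mulVec, Matrix.one_mulVec, Matrix.one_mulVec, Matrix.smul_mulVec,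
        Matrix.smul_mulVec, map_sub, map_sub]
      abel
  have hk : (-(S.D.s * S.D.B C.z C.z)) ≠ 0 := neg_ne_zero.2 (mul_ne_zero S.D.s_ne C.zz)
  have hsq2 : ∀ u ℓ, φ u = pure ℓ c₀ →
      φ (R *ᵥ u.1, R *ᵥ u.2) = pure ((-(S.D.s * S.D.B C.z C.z) * S.D.B C.v ℓ) • C.v) c₀ := fun u ℓ hl => by
    have h1 : ∀ u, (g : Module.End F (T F a b)) (C.ι ((r₁ • (P' : Matrix (Fin a) (Fin a) F) - 1) *ᵥ u.1,
        (r₁ • (P' : Matrix (Fin a) (Fin a) F) - 1) *ᵥ u.2)) =
        rt (S.D.sieM C.v C.z - 1) ((g : Module.End F (T F a b)) (C.ι u)) := fun u => by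
      rw [← hsub, map_sub, hgx, rt_sub, rt_one, LinearMap.sub_apply, Module.End.one_apply]
    have h2 := h1 ((r₁ • (P' : Matrix (Fin a) (Fin a) F) - 1) *ᵥ u.1,
      (r₁ • (P' : Matrix (Fin a) (Fin a) F) - 1) *ᵥ u.2)
    rw [h1 u, ← Module.End.mul_apply (f := rt _), ← rt_mul, S.D.sieM_sub_sq C.vv C.vz, S.D.N_sq C.vv C.vz,
      show (g : Module.End F (T F a b)) (C.ι u) = _ from hl, rt_pure, Matrix.smul_mulVec, Bil.tau_mulVec,
      smul_smul] at h2
    rw [← h2]
    show (g : Module.End F (T F a b)) _ = _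
    simp only [hR, Matrix.mulVec_mulVec]
  have hR0 : ∀ u, R *ᵥ u = 0 := fun u => by
    obtain ⟨ℓ₁, hl₁⟩ := hℓ (u, 0)
    obtain ⟨ℓ₂, hl₂⟩ := hℓ (0, u)
    have h1 := hsq2 _ _ hl₁
    have h2 := hsq2 _ _ hl₂
    set e₁ := -(S.D.s * S.D.B C.z C.z) * S.D.B C.v ℓ₁
    set e₂ := -(S.D.s * S.D.B C.z C.z) * S.D.B C.v ℓ₂
    simp only [Matrix.mulVec_zero] at h1 h2
    rw [pure_smul] at h1 h2
    have h3 : φ (e₂ • (R *ᵥ u, (0 : Fin a → F)) - e₁ • ((0 : Fin a → F), R *ᵥ u)) = 0 := by
      rw [map_sub, map_smul, map_smul, h1, h2, smul_smul, smul_smul, mul_comm, sub_self]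
    have h4 := hφ (h3.trans (map_zero φ).symm)
    simp only [Prod.smul_mk, Prod.mk_sub_mk, smul_zero, sub_zero, zero_sub, Prod.mk_eq_zero, neg_eq_zero,
      smul_eq_zero] at h4
    rcases h4 with ⟨h5 | h5, -⟩
    · rw [h5, zero_smul, ← map_zero φ] at h2
      exact (Prod.ext_iff.1 (hφ h2)).2
    · exact h5
  obtain ⟨u, hu⟩ := hback C.v'
  have h1 := hsq2 u _ hu
  rw [hR0, hR0, ← Prod.zero_eq_mk, map_zero, C.vv', mul_one] at h1
  rcases pure_eq_zero h1.symm with h | h
  · exact C.v0 ((smul_eq_zero.1 h).resolve_left hk)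
  · exact hu₁ h

/-- The symmetric case. -/
theorem Over.isTens_all_pos {g : (Module.End F (T F a b))ˣ} (hg : g ∈ X) : IsTens g := by
  obtain ⟨hb5, hab⟩ := hd.pos hs
  have ha := hd.a_pos
  have htwo := S.two
  obtain ⟨C⟩ := exists_cfg hd hs
  let D : Datum S X ((Fin a → F) × (Fin a → F)) :=
    { ι := C.ι
      σ := C.σ
      d := C.d
      inj := C.inj
      comp := LinearMap.ext C.σι
      mem := hX.rt_sie C.vv C.vw
      val := C.val hs
      orth := fun m => by
        constructor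
        · intro h x
          rw [Cfg.σ_apply, Prod.mk_eq_zero, neg_eq_zero] at h
          rw [C.ι_apply, map_add, LinearMap.add_apply, Bt_pure, Bt_pure, h.1, h.2, map_zero, map_zero, add_zero]
        · intro h
          rw [Cfg.σ_apply, Prod.mk_eq_zero, neg_eq_zero]
          exact ⟨S.ev_eq_zero fun u => by simpa [C.ι_apply] using h (0, u),
            S.ev_eq_zero fun u => by simpa [C.ι_apply] using h (u, 0)⟩
      fix := fun x hx h => hX.isTens_of_point hnr hd C.v0 C.vv (v' := C.v) hx fun u => ⟨u, by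
        simpa [C.ι_apply] using (h (u, 0)).symm⟩
      line := fun x hx h => C.isTens_line hX hnr hd hs hx h
      conj := fun g hg h => C.isTens_of_conj hX hnr hd hs hg h
      z₀ := C.z
      φ := (S.D.B C.z C.z)⁻¹ • S.D.B C.z
      φ_z₀ := by rw [LinearMap.smul_apply, smul_eq_mul, inv_mul_cancel₀ C.zz]
      φ_ι := fun x => by
        simp [C.ι_apply, ev_pure, S.D.comm C.vz, S.D.comm C.wz]
      σ_z₀ := fun u => by simp [Cfg.σ_apply, ev_pure, C.vz, C.wz] }
  let i₀ : Fin a := ⟨0, ha⟩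
  let u₀ : Fin a → F := Pi.single i₀ 1
  -- the involution acts as minus one on the line
  have hcase : ∀ g ∈ X, ¬ IsTens g → ∃ J : D.Invol g, J.Q *ᵥ C.v = -C.v ∧ J.Q *ᵥ C.w = -C.w := by
    intro g hg hgK
    obtain ⟨J⟩ := D.exists_invol hX hd hg hgK
    refine ⟨J, ?_⟩
    by_contra hAB
    set e1 := D.conjD (D.conjD g)
    have he : D.conjD g ∈ X := D.conjD_mem hg
    have he1 : e1 ∈ X := D.conjD_mem he
    set L := Submodule.span F ({C.v, C.w} : Set (Fin b → F))
    set Bm := LinearMap.ker (J.Q + 1).mulVecLin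
    set Bp := LinearMap.ker (J.Q - 1).mulVecLin
    have hBm : ∀ y, y ∈ Bm ↔ J.Q *ᵥ y = -y := fun y => by
      rw [LinearMap.mem_ker, Matrix.mulVecLin_apply, Matrix.add_mulVec, Matrix.one_mulVec, add_eq_zero_iff_eq_neg]
    have hBp : ∀ y, y ∈ Bp ↔ J.Q *ᵥ y = y := fun y => by
      rw [LinearMap.mem_ker, Matrix.mulVecLin_apply, Matrix.sub_mulVec, Matrix.one_mulVec, sub_eq_zero]
    have hQL : ∀ y ∈ L, J.Q *ᵥ y ∈ L := by
      intro y hy
      obtain ⟨r, t, rfl⟩ := Submodule.mem_span_pair.1 hy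
      have h1 := congrFun (J.ι_eq (r • u₀, t • u₀)) i₀
      simp only [D, rt_apply, C.ι_row, u₀, Pi.smul_apply, Pi.single_eq_same, smul_eq_mul, mul_one] at h1
      rw [h1]
      exact Submodule.mem_span_pair.2 ⟨_, _, rfl⟩
    obtain ⟨l, hl, hQl⟩ : ∃ l ∈ L, J.Q *ᵥ l ≠ l := by
      by_contra hc
      push Not at hc
      refine J.α_ne_one ha (LinearMap.ext fun x => C.inj ?_)
      show D.ι (J.α x) = D.ι x
      rw [← J.ι_eq]
      show rt J.Q (C.ι x) = C.ι x
      refine funext fun i => ?_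
      rw [rt_apply, C.ι_row, hc _ (Submodule.mem_span_pair.2 ⟨_, _, rfl⟩)]
    set vm := l - J.Q *ᵥ l with hvm
    have hvm0 : vm ≠ 0 := sub_ne_zero.2 (Ne.symm hQl)
    have hvmL : vm ∈ L := L.sub_mem hl (hQL l hl)
    have hvmB : J.Q *ᵥ vm = -vm := by
      rw [hvm, Matrix.mulVec_sub, Matrix.mulVec_mulVec, J.sq, Matrix.one_mulVec, neg_sub]
    have hvmiso : S.D.B vm vm = 0 := by
      obtain ⟨r, t, h⟩ := Submodule.mem_span_pair.1 hvmL
      simp [← h, C.vv, C.ww, C.vw, S.D.comm C.vw]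
    have hLBm : L ⊓ Bm = Submodule.span F {vm} := by
      have h1 : finrank F (L ⊓ Bm : Submodule F (Fin b → F)) < finrank F L := by
        refine Submodule.finrank_lt_finrank_of_lt (lt_of_le_of_ne inf_le_left fun h => hAB ?_)
        have : L ≤ Bm := inf_eq_left.1 h
        exact ⟨(hBm _).1 (this (Submodule.subset_span (by simp))),
          (hBm _).1 (this (Submodule.subset_span (by simp)))⟩
      have h2 : finrank F L ≤ 2 := by
        classical
        refine (finrank_span_le_card (R := F) ({C.v, C.w} : Set (Fin b → F))).trans ?_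
        simpa using Finset.card_le_two
      refine (Submodule.eq_of_le_of_finrank_le ?_ ?_).symm
      · rw [Submodule.span_singleton_le_iff_mem]
        exact ⟨hvmL, (hBm vm).2 hvmB⟩
      · rw [finrank_span_singleton hvm0]; omega
    -- the negative eigenspace is small
    have hsmall : finrank F Bm ≤ 2 := by
      let Um := LinearMap.ker (J.α + 1)
      have hUm : finrank F Um ≤ a := by
        have hle : Um.map C.ι ≤ LinearMap.range (pure vm) := by
          rintro _ ⟨x, hx, rfl⟩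
          have hx' : J.α x = -x := by
            rw [SetLike.mem_coe, LinearMap.mem_ker, LinearMap.add_apply, Module.End.one_apply,
              add_eq_zero_iff_eq_neg] at hx
            exact hx
          have hrow : ∀ i, C.ι x i ∈ Submodule.span F {vm} := fun i => by
            rw [← hLBm]
            refine ⟨Submodule.mem_span_pair.2 ⟨_, _, (C.ι_row x i).symm⟩, (hBm _).2 ?_⟩
            have h1 := congrFun (J.ι_eq x) i
            rw [hx', map_neg] at h1
            exact h1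
          choose t ht using fun i => Submodule.mem_span_singleton.1 (hrow i)
          exact ⟨t, funext ht⟩
        have h1 := Submodule.finrank_mono hle
        rw [LinearMap.finrank_range_of_inj (pure_injective hvm0), finrank_fin_fun,
          ← (Submodule.equivMapOfInjective C.ι C.inj Um).finrank_eq] at h1
        exact h1
      let f : Um × Um →ₗ[F] T F a b := (C.ι ∘ₗ Um.subtype).coprod
        ((D.conjD g : Module.End F (T F a b)) ∘ₗ C.ι ∘ₗ Um.subtype)
      let G : (Fin a → Bm) →ₗ[F] T F a b :=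
        { toFun := fun p i => (p i : Fin b → F)
          map_add' := fun p p' => rfl
          map_smul' := fun r p => rfl }
      have hG : Function.Injective G := fun p p' h => funext fun i => Subtype.ext (congrFun h i)
      have hle : LinearMap.range G ≤ LinearMap.range f := by
        rintro _ ⟨p, rfl⟩
        obtain ⟨x, y, hx, hy, hxy⟩ := J.neg (G p) (funext fun i => (hBm _).1 (p i).2)
        refine ⟨(⟨x, ?_⟩, ⟨y, ?_⟩), hxy.symm⟩
        · rw [LinearMap.mem_ker, LinearMap.add_apply, Module.End.one_apply, hx, neg_add_cancel]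
        · rw [LinearMap.mem_ker, LinearMap.add_apply, Module.End.one_apply, hy, neg_add_cancel]
      have h1 := (Submodule.finrank_mono hle).trans (LinearMap.finrank_range_le f)
      rw [LinearMap.finrank_range_of_inj hG, finrank_prod, Module.finrank_pi_fintype, Finset.sum_const,
        Finset.card_univ, Fintype.card_fin, smul_eq_mul] at h1
      by_contra hc
      have : a * 3 ≤ a * finrank F Bm := Nat.mul_le_mul_left a (by omega)
      omega
    have hBpnd : S.D.NdOn Bp := fun y hy h => S.D.nd y fun w => by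
      have h2 : (2 : F) * S.D.B y w = S.D.B y (w + J.Q *ᵥ w) + S.D.B y (w - J.Q *ᵥ w) := by
        rw [map_add, map_sub]; ring
      have h3 : S.D.B y (w + J.Q *ᵥ w) = 0 :=
        h _ ((hBp _).2 (by rw [Matrix.mulVec_add, Matrix.mulVec_mulVec, J.sq, Matrix.one_mulVec, add_comm]))
      have h4 : S.D.B y (J.Q *ᵥ w) = S.D.B y w := by
        conv_lhs => rw [← (hBp y).1 hy]
        rw [J.iso]
      rw [h3, map_sub, h4, sub_self, add_zero] at h2
      exact (mul_eq_zero.1 h2).resolve_left htwo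
    have hBpd : 3 ≤ finrank F Bp := by
      have hle : ⊤ ≤ Bp ⊔ Bm := fun w _ => by
        rw [show w = (2 : F)⁻¹ • (w + J.Q *ᵥ w) + (2 : F)⁻¹ • (w - J.Q *ᵥ w) by
          match_scalars <;> field_simp <;> ring]
        refine Submodule.add_mem_sup (Submodule.smul_mem _ _ ((hBp _).2 ?_)) (Submodule.smul_mem _ _ ((hBm _).2 ?_))
        · rw [Matrix.mulVec_add, Matrix.mulVec_mulVec, J.sq, Matrix.one_mulVec, add_comm]
        · rw [Matrix.mulVec_sub, Matrix.mulVec_mulVec, J.sq, Matrix.one_mulVec, neg_sub]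
      have h1 := Submodule.finrank_mono hle
      rw [Bil.finrank_top_eq] at h1
      have h2 := Submodule.finrank_add_le_finrank_add_finrank Bp Bm
      omega
    obtain ⟨p, hp, hp0, hpp⟩ := hBpnd.isotropic S.D hs hBpd
    obtain ⟨p', hp', hp'p', hpp'⟩ := hBpnd.partner S.D hp hp0 hpp
    have hd2 := S.D.finrank_cut Bp p p'
    obtain ⟨z, hz, hzz⟩ := (hBpnd.cut_pair S.D hp hp' hpp hp'p' hpp').aniso S.D hs (Bil.ne_bot_of_pos (by omega))
    obtain ⟨hzB, hpz, -⟩ := S.D.mem_cut.1 hz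
    have horth : ∀ y y', J.Q *ᵥ y = y → J.Q *ᵥ y' = -y' → S.D.B y y' = 0 := fun y y' h h' => by
      have := J.iso y y'
      rw [h, h', map_neg] at this
      exact (mul_eq_zero.1 (show (2 : F) * S.D.B y y' = 0 by linear_combination -this)).resolve_left htwo
    set c := e1 * rtU (S.D.sie hpp hpz) * e1⁻¹
    have hfix : ∀ u, (c : Module.End F (T F a b)) (pure vm u) = pure vm u := fun u => by
      have hm : rt J.Q (pure (a := a) vm u) = -pure vm u := by
        rw [rt_pure, hvmB, ← neg_one_smul F vm, pure_smul, neg_one_smul]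
      have h1 := (J.neg_mem hm).2
      rw [Units.val_mul, Units.val_mul, Module.End.mul_apply, Module.End.mul_apply, rtU_val, Bil.sie_val]
      conv_rhs => rw [← apply_inv_apply e1 (pure vm u)]
      congr 1
      refine funext fun i => ?_
      rw [rt_apply]
      exact S.D.sieM_fix hpp hpz (horth _ _ ((hBp p).1 hp) (congrFun h1 i))
        (horth _ _ ((hBp z).1 hzB) (congrFun h1 i))
    obtain ⟨Q, -, hQ⟩ := hX.exists_rt_of_fix hnr hd hvm0 hvmiso
      (X.mul_mem (X.mul_mem he1 (hX.rt_sie hpp hpz)) (X.inv_mem he1)) hfix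
    exact D.not_tens_conjD he (D.not_tens_conjD hg hgK) (hX.isTens_of_siegel hnr hd hp0 hpp hpz hzz he1 hQ)
  have hαneg : ∀ {g : (Module.End F (T F a b))ˣ} (J : D.Invol g), J.Q *ᵥ C.v = -C.v → J.Q *ᵥ C.w = -C.w →
      ∀ x, J.α x = -x := fun J hv hw x => C.inj (by
    show D.ι (J.α x) = D.ι (-x)
    rw [← J.ι_eq, map_neg]
    show rt J.Q (C.ι x) = -C.ι x
    rw [C.ι_apply, map_add, rt_pure, rt_pure, hv, hw, ← neg_one_smul F C.v, ← neg_one_smul F C.w, pure_smul,
      pure_smul, neg_one_smul, neg_one_smul]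
    abel)
  have hlink : ∀ g ∈ X, ¬ IsTens g → Function.Injective (D.link g) := fun g hg hgK => by
    obtain ⟨J, hv, hw⟩ := hcase g hg hgK
    refine (injective_iff_map_eq_zero _).2 fun y hy => ?_
    have h1 := J.ker y hy
    rw [hαneg J hv hw] at h1
    exact (smul_eq_zero.1 (show (2 : F) • y = 0 by
      rw [two_smul]; nth_rw 1 [← h1]; rw [neg_add_cancel])).resolve_left htwo
  by_contra hgK
  obtain ⟨J, hv, hw⟩ := hcase g hg hgK
  have he := D.conjD_mem hg
  set e1 := D.conjD (D.conjD g)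
  have he1 : e1 ∈ X := D.conjD_mem he
  have hfix : ∀ y, J.Q *ᵥ y = y → ∀ u, (e1 : Module.End F (T F a b)) (pure y u) = pure y u := fun y hy u =>
    J.pos_fix hX hg (hαneg J hv hw) (by rw [rt_pure, hy])
  have horth : ∀ y y', J.Q *ᵥ y = y → J.Q *ᵥ y' = -y' → S.D.B y' y = 0 := fun y y' h h' => by
    have := J.iso y' y
    rw [h, h', map_neg, LinearMap.neg_apply] at this
    exact (mul_eq_zero.1 (show (2 : F) * S.D.B y' y = 0 by linear_combination -this)).resolve_left htwo
  set Bp := LinearMap.ker (J.Q - 1).mulVecLin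
  have hBp : ∀ y, y ∈ Bp ↔ J.Q *ᵥ y = y := fun y => by
    rw [LinearMap.mem_ker, Matrix.mulVecLin_apply, Matrix.sub_mulVec, Matrix.one_mulVec, sub_eq_zero]
  have hBpnd : S.D.NdOn Bp := fun y hy h => S.D.nd y fun w => by
    have h3 : S.D.B y (w + J.Q *ᵥ w) = 0 :=
      h _ ((hBp _).2 (by rw [Matrix.mulVec_add, Matrix.mulVec_mulVec, J.sq, Matrix.one_mulVec, add_comm]))
    have h4 : S.D.B y (J.Q *ᵥ w) = S.D.B y w := by
      conv_lhs => rw [← (hBp y).1 hy]
      rw [J.iso]
    rw [map_add, h4, ← two_mul] at h3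
    exact (mul_eq_zero.1 h3).resolve_left htwo
  have hy0 : C.z + J.Q *ᵥ C.z ≠ 0 := fun h0 => by
    have h1 := congrFun (J.z₀_eq u₀) i₀
    have h2 := congrArg D.φ h0
    simp only [ev_apply, pure_apply, map_smul, u₀, Pi.single_eq_same, one_smul, map_add, map_zero] at h1 h2
    rw [h1, D.φ_z₀] at h2
    exact htwo (by linear_combination h2)
  obtain ⟨z, hzB, hzz⟩ := hBpnd.aniso S.D hs fun h0 => hy0 (by
    have : C.z + J.Q *ᵥ C.z ∈ Bp :=
      (hBp _).2 (by rw [Matrix.mulVec_add, Matrix.mulVec_mulVec, J.sq, Matrix.one_mulVec, add_comm])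
    rwa [h0, Submodule.mem_bot] at this)
  have hQz := (hBp z).1 hzB
  have hvz : S.D.B C.v z = 0 := horth z C.v hQz hv
  have hwz : S.D.B C.w z = 0 := horth z C.w hQz hw
  have he1z := hfix z hQz
  have he1z' : ∀ u, ((e1⁻¹ : (Module.End F (T F a b))ˣ) : Module.End F (T F a b)) (pure z u) = pure z u :=
    fun u => by conv_lhs => rw [← he1z u, inv_apply_apply]
  set q := S.D.sie C.vv hvz
  set h := e1 * rtU q * e1⁻¹
  have hhX : h ∈ X := X.mul_mem (X.mul_mem he1 (hX.rt_sie C.vv hvz)) (X.inv_mem he1)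
  have hh : ∀ m, ∃ u u', (h : Module.End F (T F a b)) m = m + (e1 : Module.End F (T F a b)) (pure C.v u) +
      pure z u' := fun m => by
    set n := ((e1⁻¹ : (Module.End F (T F a b))ˣ) : Module.End F (T F a b)) m
    refine ⟨fun i => S.D.B z (n i) - (2 : F)⁻¹ * S.D.s * S.D.B z z * S.D.B C.v (n i),
      fun i => -(S.D.s * S.D.B C.v (n i)), ?_⟩
    rw [← he1z, Units.val_mul, Units.val_mul, Module.End.mul_apply, Module.End.mul_apply, rtU_val, Bil.sie_val,
      ← apply_inv_apply e1 m, ← map_add, ← map_add]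
    congr 1
    refine funext fun i => ?_
    rw [rt_apply, S.D.sieM_mulVec C.vv hvz]
    simp only [Pi.add_apply, pure_apply, n, inv_apply_apply]
    module
  have hhK : IsTens h := by
    by_contra hK
    let f : (Fin a → F) →ₗ[F] (Fin a → F) × (Fin a → F) :=
      C.σ ∘ₗ (e1 : Module.End F (T F a b)) ∘ₗ pure C.v
    have hrange : ∀ x, C.σ ((h : Module.End F (T F a b)) (C.ι x)) ∈ LinearMap.range f := fun x => by
      obtain ⟨u, u', hu⟩ := hh (C.ι x)
      refine ⟨u, ?_⟩
      rw [hu, map_add, map_add, C.σι, zero_add,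
        show C.σ (pure z u') = 0 by simp [Cfg.σ_apply, ev_pure, hvz, hwz], add_zero]
      rfl
    have hsurj : Function.Surjective (D.link h) := LinearMap.surjective_of_injective (hlink h hhX hK)
    have hle : LinearMap.range (D.link h) ≤ LinearMap.range f := by
      rintro _ ⟨x, rfl⟩
      show C.σ ((D.conjD h : Module.End F (T F a b)) (C.ι x)) ∈ _
      rw [D.conjD_apply, map_add, C.σι, zero_add]
      exact hrange _
    have h1 := (Submodule.finrank_mono hle).trans (LinearMap.finrank_range_le f)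
    rw [LinearMap.range_eq_top.2 hsurj, finrank_top, finrank_prod, finrank_fin_fun] at h1
    omega
  obtain ⟨P, Q₂, hPQ⟩ := hhK
  have hkey : ∀ u, pure ((Q₂ : Matrix (Fin b) (Fin b) F) *ᵥ z) ((P : Matrix (Fin a) (Fin a) F) *ᵥ u) =
      pure z u + S.D.B z z • (e1 : Module.End F (T F a b)) (pure C.v u) := fun u => by
    rw [← lt_rt_pure, ← hPQ, Units.val_mul, Units.val_mul, Module.End.mul_apply, Module.End.mul_apply, he1z',
      rtU_val, Bil.sie_val, rt_pure, S.D.sieM_mulVec C.vv hvz, hvz]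
    simp only [mul_zero, zero_smul, sub_zero, pure_add, pure_smul, map_add, map_smul, he1z]
  have hev : ∀ u, ev (S.D.B z) ((e1 : Module.End F (T F a b)) (pure C.v u)) = 0 := fun u =>
    S.ev_eq_zero fun u' => by
      rw [← he1z u', hX.iso e1 he1, Bt_pure_pure, S.D.comm hvz, zero_mul]
  have hP : ∀ u, S.D.B z ((Q₂ : Matrix (Fin b) (Fin b) F) *ᵥ z) • ((P : Matrix (Fin a) (Fin a) F) *ᵥ u) =
      S.D.B z z • u := fun u => by
    have h1 := congrArg (ev (S.D.B z)) (hkey u)
    rwa [map_add, map_smul, hev, smul_zero, add_zero, ev_pure, ev_pure] at h1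
  set k := S.D.B z ((Q₂ : Matrix (Fin b) (Fin b) F) *ᵥ z)
  have hk : k ≠ 0 := fun h0 => by
    have h1 := hP u₀
    rw [h0, zero_smul, eq_comm, smul_eq_zero] at h1
    exact h1.elim hzz (by simp [u₀])
  refine D.not_tens_conjD he (D.not_tens_conjD hg hgK) (hX.isTens_of_point hnr hd C.v0 C.vv
    (v' := k⁻¹ • ((Q₂ : Matrix (Fin b) (Fin b) F) *ᵥ z) - (S.D.B z z)⁻¹ • z) he1 fun u => ⟨u, ?_⟩)
  have h1 := hkey u
  rw [show (P : Matrix (Fin a) (Fin a) F) *ᵥ u = k⁻¹ • (S.D.B z z • u) by rw [← hP, inv_smul_smul₀ hk], map_smul,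
    map_smul, ← sub_eq_iff_eq_add'] at h1
  refine smul_right_injective (T F a b) hzz (?_ : S.D.B z z • pure _ u = S.D.B z z • _)
  rw [← h1, pure_sub, pure_smul, pure_smul, smul_sub, smul_inv_smul₀ hzz, smul_comm]

end Sys

end Cfsg.Agent.H24.Tensor
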