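import Cfsg.Agent.H24.Tensor.EngineNeg
import Cfsg.Agent.H24.Tensor.EnginePos

/-!
A group strictly above the tensor stabiliser has a root element outside it.
-/

set_option autoImplicit false

namespace Cfsg.Agent.H24.Tensor

open Module Matrix Cfsg.Agent.H98.TensorGL Cfsg.Agent.H98.ExtField

variable {F : Type*} [Field F] [Finite F] {a b : ℕ}

namespace Sys

/-- A root element exists outside the stabiliser. -/
theorem Over.exists_root {S : Sys F a b} {X : Subgroup (Module.End F (T F a b))ˣ} (hX : S.Over X) (hd : S.Good)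
    {g : (Module.End F (T F a b))ˣ} (hg : g ∈ X) (hgK : ¬ IsTens g) :
    ∃ (v : Fin b → F) (N : Matrix (Fin a) (Fin a) F),
      v ≠ 0 ∧ S.D.B v v = 0 ∧ S.InS X v N ∧ ∀ c : F, N ≠ c • 1 := by
  by_contra hc
  have hnr : S.NoRoot X := fun v N hv hvv hN => by
    by_contra h
    push Not at h
    exact hc ⟨v, N, hv, hvv, hN, h⟩
  rcases S.D.hs with hs | hs
  · exact hgK (hX.isTens_all_pos hnr hd hs hg)
  · exact hgK (hX.isTens_all_neg hnr hd hs hg)

end Sys

end Cfsg.Agent.H24.Tensor
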