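import Cfsg.Agent.H24.Tensor.Core

/-!
Without a root element the group lies in the stabiliser: the case of an alternating second form.
-/

set_option autoImplicit false

namespace Cfsg.Agent.H24.Tensor

open Module Matrix Cfsg.Agent.H98.TensorGL Cfsg.Agent.H98.ExtField

variable {F : Type*} [Field F] [Finite F] {a b : ℕ}

namespace Sys

variable {S : Sys F a b} {X : Subgroup (Module.End F (T F a b))ˣ} (hX : S.Over X) (hnr : S.NoRoot X)
  (hd : S.Good) (hs : S.D.s = -1)
include hX hnr hd hs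

/-- Conjugating a transvection into the stabiliser. -/
theorem Over.isTens_of_conj_neg {v : Fin b → F} (hv : v ≠ 0) {d : (Module.End F (T F a b))ˣ}
    (hd' : (d : Module.End F (T F a b)) = 1 + pure v ∘ₗ ev (S.D.B v)) {g : (Module.End F (T F a b))ˣ}
    (hg : g ∈ X) (hdX : d ∈ X) (he : IsTens (g * d * g⁻¹)) : IsTens g := by
  obtain ⟨hA, hab, hb4⟩ := hd.neg hs
  have htwo := S.two
  have ha := hd.a_pos
  have hvv := S.D.self_eq_zero hs v
  obtain ⟨y, hy⟩ := S.D.exists_one hv
  obtain ⟨P, Q, hPQ⟩ := he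
  set e := g * d * g⁻¹
  have heval : ∀ m, (e : Module.End F (T F a b)) m - m = (g : Module.End F (T F a b))
      (pure v (ev (S.D.B v) (((g⁻¹ : (Module.End F (T F a b))ˣ) : Module.End F (T F a b)) m))) := fun m => by
    rw [Units.val_mul, Units.val_mul, hd', Module.End.mul_apply, Module.End.mul_apply, LinearMap.add_apply,
      Module.End.one_apply, LinearMap.comp_apply, map_add, apply_inv_apply, add_sub_cancel_left]
  have hsq : ((e : Module.End F (T F a b)) - 1) * ((e : Module.End F (T F a b)) - 1) = 0 :=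
    LinearMap.ext fun m => by
      rw [Module.End.mul_apply, LinearMap.sub_apply, Module.End.one_apply, LinearMap.sub_apply,
        Module.End.one_apply, heval m, heval, inv_apply_apply, ev_pure, hvv, zero_smul, map_zero, map_zero,
        LinearMap.zero_apply]
  let φ : (Fin a → F) →ₗ[F] T F a b := (g : Module.End F (T F a b)) ∘ₗ pure v
  have hφ : Function.Injective φ := (units_injective g).comp (pure_injective hv)
  have hsurj : ∀ u, φ u = (e : Module.End F (T F a b)) ((g : Module.End F (T F a b)) (pure y u)) -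
      (g : Module.End F (T F a b)) (pure y u) := fun u => by
    rw [heval, inv_apply_apply, ev_pure, hy, one_smul]
    rfl
  have hin : ∀ m, (e : Module.End F (T F a b)) m - m ∈ LinearMap.range φ := fun m => ⟨_, (heval m).symm⟩
  rw [hPQ] at hsurj hin hsq
  rcases scalar_or S.D hsq with ⟨c, hc⟩ | ⟨c, hc⟩
  · -- the first factor is scalar
    set D₁ := c • (Q : Matrix (Fin b) (Fin b) F) - 1 with hD₁
    have hD : ∀ m, (lt (P : Matrix (Fin a) (Fin a) F) * rt (Q : Matrix (Fin b) (Fin b) F) :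
        Module.End F (T F a b)) m - m = rt D₁ m := fun m => by
      rw [hc, lt_smul, lt_one, smul_mul_assoc, one_mul, hD₁, rt_sub, rt_smul, rt_one, LinearMap.sub_apply,
        Module.End.one_apply]
    simp only [hD] at hsurj hin
    obtain ⟨y₁, hy₁⟩ : ∃ y₁, D₁ *ᵥ y₁ ≠ 0 := by
      by_contra h0
      push Not at h0
      have h1 : D₁ = 0 := Matrix.ext_iff_mulVec.2 fun z => by rw [h0, Matrix.zero_mulVec]
      have h2 := hsurj (Pi.single ⟨0, ha⟩ 1)
      rw [h1, rt_zero, LinearMap.zero_apply, ← map_zero φ] at h2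
      simpa using congrFun (hφ h2) ⟨0, ha⟩
    have hle : LinearMap.range (pure (a := a) (D₁ *ᵥ y₁)) ≤ LinearMap.range φ := by
      rintro _ ⟨u, rfl⟩
      rw [← rt_pure]
      exact hin _
    have heq := Submodule.eq_of_le_of_finrank_eq hle (by
      rw [LinearMap.finrank_range_of_inj hφ, LinearMap.finrank_range_of_inj (pure_injective hy₁)])
    exact hX.isTens_of_point hnr hd hv hvv (v' := D₁ *ᵥ y₁) hg fun u => heq.ge ⟨u, rfl⟩
  -- the second factor is scalar
  exfalso
  set M := c • (P : Matrix (Fin a) (Fin a) F) - 1 with hM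
  have hD : ∀ m, (lt (P : Matrix (Fin a) (Fin a) F) * rt (Q : Matrix (Fin b) (Fin b) F) :
      Module.End F (T F a b)) m - m = lt M m := fun m => by
    rw [hc, rt_smul, rt_one, mul_smul_comm, mul_one, hM, lt_sub', lt_smul, lt_one, LinearMap.sub_apply,
      Module.End.one_apply]
  simp only [hD] at hsurj hin
  obtain ⟨u₁, hu₁⟩ : ∃ u₁, M *ᵥ u₁ ≠ 0 := by
    by_contra h0
    push Not at h0
    have h1 : M = 0 := Matrix.ext_iff_mulVec.2 fun z => by rw [h0, Matrix.zero_mulVec]
    have h2 := hsurj (Pi.single ⟨0, ha⟩ 1)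
    rw [h1, lt_zero, LinearMap.zero_apply, ← map_zero φ] at h2
    simpa using congrFun (hφ h2) ⟨0, ha⟩
  set c₀ := M *ᵥ u₁
  have hone : ∀ u, M *ᵥ u ∈ Submodule.span F {c₀} := fun u => by
    by_contra hn
    let f : (Fin b → F) × (Fin b → F) →ₗ[F] T F a b :=
      { toFun := fun p => pure p.1 c₀ + pure p.2 (M *ᵥ u)
        map_add' := fun p p' => by simp only [Prod.fst_add, Prod.snd_add, pure_add]; abel
        map_smul' := fun r p => by simp only [Prod.smul_fst, Prod.smul_snd, pure_smul, smul_add, RingHom.id_apply] }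
    have hf : Function.Injective f := (injective_iff_map_eq_zero f).2 fun p hp => by
      have hj : ∀ j, p.1 j • c₀ + p.2 j • (M *ᵥ u) = 0 := fun j => funext fun i => by
        have := congrFun (congrFun hp i) j
        simpa [f, mul_comm] using this
      have h2 : ∀ j, p.2 j = 0 := fun j => by
        by_contra h0
        refine hn (Submodule.mem_span_singleton.2 ⟨-((p.2 j)⁻¹ * p.1 j), ?_⟩)
        rw [neg_smul, mul_smul, eq_neg_of_add_eq_zero_left (hj j), smul_neg, neg_neg, inv_smul_smul₀ h0]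
      refine Prod.ext (funext fun j => ?_) (funext h2)
      have := hj j
      rw [h2, zero_smul, add_zero] at this
      exact (smul_eq_zero.1 this).resolve_right hu₁
    have hle : LinearMap.range f ≤ LinearMap.range φ := by
      rintro _ ⟨p, rfl⟩
      show pure p.1 (M *ᵥ u₁) + pure p.2 (M *ᵥ u) ∈ _
      rw [← lt_pure, ← lt_pure]
      exact Submodule.add_mem _ (hin _) (hin _)
    have h1 := Submodule.finrank_mono hle
    rw [LinearMap.finrank_range_of_inj hf, LinearMap.finrank_range_of_inj hφ, finrank_prod, finrank_fin_fun,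
      finrank_fin_fun] at h1
    omega
  obtain ⟨χ, hχ, -⟩ := Submodule.exists_le_ker_of_notMem (p := (⊥ : Submodule F (Fin a → F))) (v := c₀)
    (by rw [Submodule.mem_bot]; exact hu₁)
  obtain ⟨d₀, hd₀⟩ := S.A.rep ((χ c₀)⁻¹ • χ ∘ₗ M.mulVecLin)
  have hMu : ∀ u, M *ᵥ u = S.A.B d₀ u • c₀ := fun u => by
    obtain ⟨t, ht⟩ := Submodule.mem_span_singleton.1 (hone u)
    rw [hd₀, LinearMap.smul_apply, LinearMap.comp_apply, Matrix.mulVecLin_apply, ← ht, map_smul, smul_eq_mul,
      smul_eq_mul, mul_left_comm, inv_mul_cancel₀ hχ, mul_one]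
  have hsA := S.A.symm' hA
  have hiso : ∀ x, 2 * (S.A.B d₀ x * S.A.B c₀ x) + S.A.B d₀ x * S.A.B d₀ x * S.A.B c₀ c₀ = 0 := fun x => by
    obtain ⟨y', hy'⟩ : ∃ y', S.D.B y y' = 1 := S.D.exists_one fun h => by simp [h] at hy
    have h1 := hX.iso e (X.mul_mem (X.mul_mem hg hdX) (X.inv_mem hg)) (pure y x) (pure y' x)
    rw [hPQ, eq_add_of_sub_eq (hD (pure y x)), eq_add_of_sub_eq (hD (pure y' x)), lt_pure, lt_pure] at h1
    simp only [map_add, LinearMap.add_apply, Bt_pure_pure, hy', one_mul, hMu, map_smul, LinearMap.smul_apply,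
      smul_eq_mul, hsA c₀ x] at h1
    linear_combination h1
  have hd0 : d₀ ≠ 0 := fun h => hu₁ (by
    show M *ᵥ u₁ = 0
    rw [hMu, h, map_zero, LinearMap.zero_apply, zero_smul])
  obtain ⟨x, hx⟩ := S.A.exists_one hd0
  have hsqM : M * M = 0 := by
    refine Matrix.ext_iff_mulVec.2 fun u => pure_injective (v := y) (fun h => by simp [h] at hy) ?_
    have h1 := LinearMap.congr_fun hsq (pure y u)
    rw [Module.End.mul_apply, LinearMap.sub_apply, Module.End.one_apply, hD, LinearMap.sub_apply,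
      Module.End.one_apply, hD, lt_pure, lt_pure, LinearMap.zero_apply] at h1
    rw [← Matrix.mulVec_mulVec, Matrix.zero_mulVec, map_zero, h1]
  have hdc : S.A.B d₀ c₀ = 0 := by
    have h1 := congrArg (· *ᵥ u₁) hsqM
    simp only [← Matrix.mulVec_mulVec, Matrix.zero_mulVec] at h1
    rw [hMu (M *ᵥ u₁)] at h1
    exact (smul_eq_zero.1 h1).resolve_right hu₁
  have hlin : ∀ k, S.A.B d₀ k = 0 → S.A.B c₀ k = 0 := fun k hk => by
    have e1 := hiso x
    have e2 := hiso (x + k)
    simp only [map_add, hx, hk, add_zero] at e2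
    rw [hx] at e1
    exact (mul_eq_zero.1 (show (2 : F) * S.A.B c₀ k = 0 by linear_combination e2 - e1)).resolve_left htwo
  have hcc := hlin c₀ hdc
  have hcx : S.A.B c₀ x = 0 := by
    have e1 := hiso x
    rw [hx, hcc] at e1
    exact (mul_eq_zero.1 (show (2 : F) * S.A.B c₀ x = 0 by linear_combination e1)).resolve_left htwo
  refine hu₁ (S.A.nd c₀ fun z => ?_)
  have := hlin (z - S.A.B d₀ z • x) (by rw [map_sub, map_smul, hx, smul_eq_mul, mul_one, sub_self])
  rwa [map_sub, map_smul, hcx, smul_zero, sub_zero] at this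

/-- The alternating case. -/
theorem Over.isTens_all_neg {g : (Module.End F (T F a b))ˣ} (hg : g ∈ X) : IsTens g := by
  obtain ⟨hA, hab, hb4⟩ := hd.neg hs
  have ha := hd.a_pos
  have htwo := S.two
  let v : Fin b → F := Pi.single ⟨0, by omega⟩ 1
  have hv : v ≠ 0 := by simp [v]
  have hvv := S.D.self_eq_zero hs v
  have hvh : S.D.B v ((2 : F)⁻¹ • v) = 0 := by rw [map_smul, hvv, smul_zero]
  obtain ⟨v', -, hv'v', hvv'⟩ := (S.D.ndOn_top).partner S.D (x := v) trivial hv hvv
  have hdU : b ≤ finrank F (S.D.cut ⊤ v v') + 2 := by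
    have := S.D.finrank_cut ⊤ v v'
    rwa [Bil.finrank_top_eq] at this
  obtain ⟨z₀, hz₀, hz₀0⟩ := Submodule.exists_mem_ne_zero_of_ne_bot (Bil.ne_bot_of_pos
    (U := S.D.cut ⊤ v v') (by omega))
  obtain ⟨-, hvz, hv'z⟩ := S.D.mem_cut.1 hz₀
  obtain ⟨φ₀, hφ₀, hφv⟩ : ∃ φ₀ : Dual F (Fin b → F), φ₀ z₀ ≠ 0 ∧ φ₀ v = 0 := by
    obtain ⟨w, hw, hzw⟩ := ((S.D.ndOn_top).cut_pair S.D trivial trivial hvv hv'v' hvv').exists_one S.D hz₀ hz₀0
    exact ⟨S.D.B w, S.D.comm_ne (by rw [hzw]; exact one_ne_zero), S.D.comm (S.D.mem_cut.1 hw).2.1⟩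
  have hdX : rtU (a := a) (S.D.sie hvv hvh) ∈ X := hX.rt_sie hvv hvh
  have hdval : ((rtU (S.D.sie hvv hvh) : (Module.End F (T F a b))ˣ) : Module.End F (T F a b)) =
      1 + pure v ∘ₗ ev (S.D.B v) := by
    refine ext_pure fun w u => ?_
    rw [rtU_val, Bil.sie_val, rt_pure, S.D.sieM_mulVec hvv hvh, LinearMap.add_apply, Module.End.one_apply,
      LinearMap.comp_apply, ev_pure, ← pure_smul', ← pure_add]
    congr 2
    simp only [hs, map_smul, LinearMap.smul_apply, smul_eq_mul, hvv, smul_smul]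
    match_scalars <;> field_simp <;> ring
  obtain ⟨v'', hvv''⟩ := S.D.exists_one hv
  let D : Datum S X (Fin a → F) :=
    { ι := pure v
      σ := ev (S.D.B v)
      d := rtU (S.D.sie hvv hvh)
      inj := pure_injective hv
      comp := LinearMap.ext fun u => by rw [LinearMap.comp_apply, ev_pure, hvv, zero_smul, LinearMap.zero_apply]
      mem := hdX
      val := hdval
      orth := fun m => ⟨fun h x => by rw [Bt_pure, h, map_zero], fun h => S.ev_eq_zero h⟩
      fix := fun x hx h => hX.isTens_of_point hnr hd hv hvv (v' := v) hx fun u => ⟨u, (h u).symm⟩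
      line := fun x hx h => hX.isTens_of_point hnr hd hv hvv (v' := v) hx h
      conj := fun g hg h => hX.isTens_of_conj_neg hnr hd hs hv hdval hg hdX h
      z₀ := z₀
      φ := (φ₀ z₀)⁻¹ • φ₀
      φ_z₀ := by rw [LinearMap.smul_apply, smul_eq_mul, inv_mul_cancel₀ hφ₀]
      φ_ι := fun u => by rw [ev_pure, LinearMap.smul_apply, hφv, smul_zero, zero_smul]
      σ_z₀ := fun u => by rw [ev_pure, hvz, zero_smul] }
  by_contra hgK
  obtain ⟨J⟩ := D.exists_invol hX hd hg hgK
  let i₀ : Fin a := ⟨0, ha⟩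
  let u₀ : Fin a → F := Pi.single i₀ 1
  have hQv : J.Q *ᵥ v = J.α u₀ i₀ • v := by
    have := congrFun (J.ι_eq u₀) i₀
    simpa [D, u₀] using this
  set c := J.α u₀ i₀
  have hα : ∀ x, J.α x = c • x := fun x => by
    have h1 := J.ι_eq x
    show J.α x = c • x
    apply pure_injective hv
    show D.ι (J.α x) = pure v (c • x)
    rw [← h1]
    show rt J.Q (pure v x) = _
    rw [rt_pure, hQv, pure_smul']
  have hc : c * c = 1 := by
    have h1 := LinearMap.congr_fun J.αsq u₀
    rw [Module.End.mul_apply, hα, hα, smul_smul, Module.End.one_apply] at h1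
    simpa [u₀] using congrFun h1 i₀
  rcases mul_self_eq_one_iff.1 hc with h | h
  · exact J.α_ne_one ha (LinearMap.ext fun x => by rw [hα, h, one_smul, Module.End.one_apply])
  have hneg : ∀ x, J.α x = -x := fun x => by rw [hα, h, neg_one_smul]
  set y := z₀ + J.Q *ᵥ z₀ with hy
  have hQy : J.Q *ᵥ y = y := by rw [hy, Matrix.mulVec_add, Matrix.mulVec_mulVec, J.sq, Matrix.one_mulVec, add_comm]
  have hy0 : y ≠ 0 := fun h0 => by
    have h1 := congrFun (J.z₀_eq u₀) i₀
    have h2 := congrArg D.φ h0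
    simp [D, u₀, hy] at h1 h2
    rw [h1.resolve_right hφ₀] at h2
    simp [← two_mul, htwo, hφ₀] at h2
  have he := D.conjD_mem hg
  refine D.not_tens_conjD he (D.not_tens_conjD hg hgK) (hX.isTens_of_point hnr hd hy0 (S.D.self_eq_zero hs y)
    (v' := y) (D.conjD_mem he) fun u => ⟨u, ?_⟩)
  rw [J.pos_fix hX hg hneg]
  rw [rt_pure, hQy]

end Sys

end Cfsg.Agent.H24.Tensor
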