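import Cfsg.Agent.H24.Tensor.Space

/-!
Isotropic and anisotropic vectors, partners and transitivity of the Siegel group of a single form.
-/

set_option autoImplicit false

namespace Cfsg.Agent.H24.Tensor

open Module Matrix

namespace Bil

variable {F : Type*} [Field F] {n : ℕ} (β : Bil F n)

/-- `U` is non-degenerate. -/
def NdOn (U : Submodule F (Fin n → F)) : Prop := ∀ x ∈ U, (∀ y ∈ U, β.B x y = 0) → x = 0

theorem ndOn_top : β.NdOn ⊤ := fun x _ h => β.nd x fun y => h y trivial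

/-- The vectors of `U` orthogonal to `x` and `y`. -/
def cut (U : Submodule F (Fin n → F)) (x y : Fin n → F) : Submodule F (Fin n → F) :=
  U ⊓ (LinearMap.ker (β.B x) ⊓ LinearMap.ker (β.B y))

theorem mem_cut {U : Submodule F (Fin n → F)} {x y z : Fin n → F} :
    z ∈ β.cut U x y ↔ z ∈ U ∧ β.B x z = 0 ∧ β.B y z = 0 := by simp [cut]

theorem finrank_inf_ker_add_one (U : Submodule F (Fin n → F)) (φ : Dual F (Fin n → F)) :
    finrank F U ≤ finrank F (U ⊓ LinearMap.ker φ : Submodule F (Fin n → F)) + 1 := by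
  have h1 := Submodule.finrank_sup_add_finrank_inf_eq U (LinearMap.ker φ)
  have h2 := Submodule.finrank_le (U ⊔ LinearMap.ker φ)
  have h3 := LinearMap.finrank_range_add_finrank_ker φ
  have h4 := (Submodule.finrank_le (LinearMap.range φ)).trans (finrank_self F).le
  omega

theorem finrank_cut (U : Submodule F (Fin n → F)) (x y : Fin n → F) :
    finrank F U ≤ finrank F (β.cut U x y) + 2 := by
  have h1 := finrank_inf_ker_add_one U (β.B x)
  have h2 := finrank_inf_ker_add_one (U ⊓ LinearMap.ker (β.B x)) (β.B y)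
  rw [inf_assoc] at h2
  unfold cut
  omega

theorem finrank_top_eq : finrank F (⊤ : Submodule F (Fin n → F)) = n := by rw [finrank_top, finrank_fin_fun]

theorem ne_bot_of_pos {U : Submodule F (Fin n → F)} (h : 1 ≤ finrank F U) : U ≠ ⊥ := fun h0 => by
  rw [h0, finrank_bot] at h
  omega

/-- A non-zero vector of non-degenerate `U` pairs to one inside `U`. -/
theorem NdOn.exists_one {U : Submodule F (Fin n → F)} (hU : β.NdOn U) {x : Fin n → F} (hx : x ∈ U)
    (h0 : x ≠ 0) : ∃ y ∈ U, β.B x y = 1 := by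
  obtain ⟨y, hy, hxy⟩ : ∃ y ∈ U, β.B x y ≠ 0 := by
    by_contra hc
    push Not at hc
    exact h0 (hU x hx hc)
  exact ⟨(β.B x y)⁻¹ • y, U.smul_mem _ hy, by rw [map_smul, smul_eq_mul, inv_mul_cancel₀ hxy]⟩

/-- A partner of an isotropic vector. -/
theorem NdOn.partner {U : Submodule F (Fin n → F)} (hU : β.NdOn U) {x : Fin n → F} (hx : x ∈ U) (h0 : x ≠ 0)
    (hxx : β.B x x = 0) : ∃ y ∈ U, β.B y y = 0 ∧ β.B x y = 1 := by
  obtain ⟨w, hw, hxw⟩ := hU.exists_one β hx h0
  refine ⟨w - (β.B w w / 2) • x, U.sub_mem hw (U.smul_mem _ hx), ?_, ?_⟩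
  · simp only [map_sub, map_smul, LinearMap.sub_apply, LinearMap.smul_apply, smul_eq_mul, hxx, hxw, β.symm x w,
      mul_one, mul_zero, sub_zero]
    rcases β.hs with h | h
    · rw [h]; have := β.two; field_simp; ring
    · rw [β.self_eq_zero h]; ring
  · rw [map_sub, map_smul, hxw, hxx, smul_zero, sub_zero]

/-- The component orthogonal to a hyperbolic pair. -/
theorem proj_mem {U : Submodule F (Fin n → F)} {x y z : Fin n → F} (hx : x ∈ U) (hy : y ∈ U) (hz : z ∈ U)
    (hxx : β.B x x = 0) (hyy : β.B y y = 0) (hxy : β.B x y = 1) :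
    z - β.B x z • y - (β.s * β.B y z) • x ∈ β.cut U x y := by
  refine β.mem_cut.2 ⟨U.sub_mem (U.sub_mem hz (U.smul_mem _ hy)) (U.smul_mem _ hx), ?_, ?_⟩
  · simp only [map_sub, map_smul, smul_eq_mul, hxx, hxy]; ring
  · simp only [map_sub, map_smul, smul_eq_mul, hyy, β.symm x y, hxy]
    linear_combination (-(β.B y z)) * β.s_mul_s

theorem NdOn.cut_pair {U : Submodule F (Fin n → F)} (hU : β.NdOn U) {x y : Fin n → F} (hx : x ∈ U) (hy : y ∈ U)
    (hxx : β.B x x = 0) (hyy : β.B y y = 0) (hxy : β.B x y = 1) : β.NdOn (β.cut U x y) := by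
  intro z hz h
  obtain ⟨hzU, hxz, hyz⟩ := β.mem_cut.1 hz
  refine hU z hzU fun w hw => ?_
  have := h _ (β.proj_mem hx hy hw hxx hyy hxy)
  simpa only [map_sub, map_smul, smul_eq_mul, β.comm hxz, β.comm hyz, mul_zero, sub_zero] using this

section Symmetric

variable (hs : β.s = 1)
include hs

theorem symm' (x y : Fin n → F) : β.B y x = β.B x y := by rw [β.symm, hs, one_mul]

theorem NdOn.aniso {U : Submodule F (Fin n → F)} (hU : β.NdOn U) (h0 : U ≠ ⊥) : ∃ z ∈ U, β.B z z ≠ 0 := by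
  by_contra hc
  push Not at hc
  obtain ⟨x, hx, hx0⟩ := Submodule.exists_mem_ne_zero_of_ne_bot h0
  refine hx0 (hU x hx fun y hy => ?_)
  have h := hc _ (U.add_mem hx hy)
  simp only [map_add, LinearMap.add_apply, hc x hx, hc y hy, β.symm' hs x y, zero_add, add_zero] at h
  exact (mul_eq_zero.1 (show (2 : F) * β.B x y = 0 by linear_combination h)).resolve_left β.two

theorem NdOn.cut_aniso {U : Submodule F (Fin n → F)} (hU : β.NdOn U) {z : Fin n → F} (hz : z ∈ U)
    (hzz : β.B z z ≠ 0) : β.NdOn (U ⊓ LinearMap.ker (β.B z)) := by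
  intro x hx h
  obtain ⟨hxU, hxz⟩ := Submodule.mem_inf.1 hx
  refine hU x hxU fun w hw => ?_
  have := h (w - (β.B z w / β.B z z) • z) (Submodule.mem_inf.2 ⟨U.sub_mem hw (U.smul_mem _ hz),
    LinearMap.mem_ker.2 (by rw [map_sub, map_smul, smul_eq_mul, div_mul_cancel₀ _ hzz, sub_self])⟩)
  simpa only [map_sub, map_smul, smul_eq_mul, β.comm (LinearMap.mem_ker.1 hxz), mul_zero, sub_zero] using this

/-- Two orthogonal anisotropic vectors, with a third one when the dimension allows. -/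
theorem NdOn.aniso_two {U : Submodule F (Fin n → F)} (hU : β.NdOn U) (hd : 2 ≤ finrank F U) :
    ∃ z ∈ U, ∃ z' ∈ U, β.B z z ≠ 0 ∧ β.B z' z' ≠ 0 ∧ β.B z z' = 0 ∧
      (3 ≤ finrank F U → ∃ z'' ∈ U, β.B z'' z'' ≠ 0 ∧ β.B z z'' = 0 ∧ β.B z' z'' = 0) := by
  obtain ⟨z, hz, hzz⟩ := hU.aniso β hs (ne_bot_of_pos (by omega))
  have h1 := finrank_inf_ker_add_one U (β.B z)
  have hU1 := hU.cut_aniso β hs hz hzz
  obtain ⟨z', hz', hzz'⟩ := hU1.aniso β hs (ne_bot_of_pos (by omega))
  refine ⟨z, hz, z', hz'.1, hzz, hzz', LinearMap.mem_ker.1 hz'.2, fun h3 => ?_⟩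
  have h2 := finrank_inf_ker_add_one (U ⊓ LinearMap.ker (β.B z)) (β.B z')
  obtain ⟨z'', hz'', h⟩ := (hU1.cut_aniso β hs hz' hzz').aniso β hs (ne_bot_of_pos (by omega))
  exact ⟨z'', hz''.1.1, h, LinearMap.mem_ker.1 hz''.1.2, LinearMap.mem_ker.1 hz''.2⟩

variable [Finite F]

/-- A binary form takes every value. -/
theorem NdOn.value {U : Submodule F (Fin n → F)} (hU : β.NdOn U) (hd : 2 ≤ finrank F U) (c : F) :
    ∃ z ∈ U, β.B z z = c := by
  obtain ⟨z, hz, z', hz', hzz, hzz', hzz'', -⟩ := hU.aniso_two β hs hd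
  haveI := Fintype.ofFinite F
  have hcard : Fintype.card F % 2 = 1 := FiniteField.odd_card_of_char_ne_two fun h => β.two (by
    haveI : CharP F 2 := ringChar.eq_iff.1 h
    exact CharP.cast_eq_zero F 2)
  obtain ⟨r, t, h⟩ := FiniteField.exists_root_sum_quadratic
    (f := Polynomial.C (β.B z z) * Polynomial.X ^ 2)
    (g := Polynomial.C (β.B z' z') * Polynomial.X ^ 2 - Polynomial.C c)
    (Polynomial.degree_C_mul_X_pow 2 hzz)
    (by rw [Polynomial.degree_sub_C (by rw [Polynomial.degree_C_mul_X_pow 2 hzz']; decide),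
      Polynomial.degree_C_mul_X_pow 2 hzz']; rfl)
    hcard
  refine ⟨r • z + t • z', U.add_mem (U.smul_mem _ hz) (U.smul_mem _ hz'), ?_⟩
  simp only [Polynomial.eval_sub, Polynomial.eval_mul, Polynomial.eval_C, Polynomial.eval_pow,
    Polynomial.eval_X] at h
  simp only [map_add, map_smul, LinearMap.add_apply, LinearMap.smul_apply, smul_eq_mul, hzz'',
    β.comm hzz'']
  linear_combination h

/-- Isotropic vectors exist in dimension three. -/
theorem NdOn.isotropic {U : Submodule F (Fin n → F)} (hU : β.NdOn U) (hd : 3 ≤ finrank F U) :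
    ∃ x ∈ U, x ≠ 0 ∧ β.B x x = 0 := by
  obtain ⟨z, hz, hzz⟩ := hU.aniso β hs (ne_bot_of_pos (by omega))
  have h1 := finrank_inf_ker_add_one U (β.B z)
  obtain ⟨y, hy, hyy⟩ := (hU.cut_aniso β hs hz hzz).value β hs (by omega) (-β.B z z)
  have hzy : β.B z y = 0 := LinearMap.mem_ker.1 hy.2
  refine ⟨z + y, U.add_mem hz hy.1, fun h => hzz ?_, ?_⟩
  · have := congrArg (β.B z) h
    rwa [map_add, hzy, add_zero, map_zero] at this
  · simp only [map_add, LinearMap.add_apply, hzy, β.comm hzy, hyy]; ring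

/-- Isotropic vectors span in dimension three. -/
theorem NdOn.le_of_isotropic {U : Submodule F (Fin n → F)} (hU : β.NdOn U) (hd : 3 ≤ finrank F U)
    (W : Submodule F (Fin n → F)) (h : ∀ x ∈ U, β.B x x = 0 → x ∈ W) : U ≤ W := by
  obtain ⟨x, hx, hx0, hxx⟩ := hU.isotropic β hs hd
  obtain ⟨y, hy, hyy, hxy⟩ := hU.partner β hx hx0 hxx
  intro z hz
  set z' := z - β.B x z • y - (β.s * β.B y z) • x with hz'
  obtain ⟨hz'U, hxz', hyz'⟩ := β.mem_cut.1 (β.proj_mem hx hy hz hxx hyy hxy)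
  rw [← hz'] at hxz' hyz' hz'U
  have h1 : z' + x - (β.B z' z' / 2) • y ∈ W := by
    refine h _ (U.sub_mem (U.add_mem hz'U hx) (U.smul_mem _ hy)) ?_
    simp only [map_sub, map_add, map_smul, LinearMap.sub_apply, LinearMap.add_apply, LinearMap.smul_apply,
      smul_eq_mul, hxx, hyy, hxy, hxz', hyz', β.comm hxz', β.comm hyz', β.symm' hs x y]
    have := β.two
    field_simp
    ring
  have h2 : z = (z' + x - (β.B z' z' / 2) • y) + (β.B x z + β.B z' z' / 2) • y + (β.s * β.B y z - 1) • x := by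
    rw [hz']; module
  rw [h2]
  exact W.add_mem (W.add_mem h1 (W.smul_mem _ (h y hy hyy))) (W.smul_mem _ (h x hx hxx))

end Symmetric

/-- A common partner of two isotropic vectors. -/
theorem exists_common [Finite F] (hn : β.s = 1 → 3 ≤ n) {v u : Fin n → F} (hv : v ≠ 0) (hu : u ≠ 0)
    (hvv : β.B v v = 0) (huu : β.B u u = 0) :
    ∃ y, β.B y y = 0 ∧ β.B y v ≠ 0 ∧ β.B y u ≠ 0 := by
  by_cases hp : u ∈ Submodule.span F {v}
  · obtain ⟨t, rfl⟩ := Submodule.mem_span_singleton.1 hp
    obtain ⟨y, -, hyy, hvy⟩ := (β.ndOn_top).partner β (x := v) trivial hv hvv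
    have h1 : β.B y v ≠ 0 := β.comm_ne (by rw [hvy]; exact one_ne_zero)
    refine ⟨y, hyy, h1, ?_⟩
    rw [map_smul, smul_eq_mul]
    exact mul_ne_zero (fun h => hu (by rw [h, zero_smul])) h1
  obtain ⟨w, hw1, hw2⟩ := β.exists_two hv hp 1 1
  by_cases hvu : β.B v u = 0
  · refine ⟨w - (β.B w w / 2) • v, ?_, β.comm_ne ?_, β.comm_ne ?_⟩
    · simp only [map_sub, map_smul, LinearMap.sub_apply, LinearMap.smul_apply, smul_eq_mul, hvv, hw1,
        β.symm v w]
      rcases β.hs with h | h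
      · rw [h]; have := β.two; field_simp; ring
      · rw [β.self_eq_zero h]; ring
    · rw [map_sub, map_smul, hw1, hvv, smul_zero, sub_zero]; exact one_ne_zero
    · rw [map_sub, map_smul, hw2, β.comm hvu, smul_zero, sub_zero]; exact one_ne_zero
  rcases β.hs with hs | hs
  swap
  · exact ⟨w, β.self_eq_zero hs w, β.comm_ne (by rw [hw1]; exact one_ne_zero),
      β.comm_ne (by rw [hw2]; exact one_ne_zero)⟩
  set u' := (β.B v u)⁻¹ • u with hu'
  have h1 : β.B v u' = 1 := by rw [hu', map_smul, smul_eq_mul, inv_mul_cancel₀ hvu]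
  have h2 : β.B u' u' = 0 := by simp [hu', huu]
  have hU := (β.ndOn_top).cut_pair β (x := v) (y := u') trivial trivial hvv h2 h1
  have hd := β.finrank_cut ⊤ v u'
  rw [finrank_top_eq] at hd
  obtain ⟨z, hz, hzz⟩ := hU.aniso β hs (ne_bot_of_pos (by have := hn hs; omega))
  obtain ⟨-, hvz, huz⟩ := β.mem_cut.1 hz
  refine ⟨v - (β.B z z / 2) • u' + z, ?_, ?_, ?_⟩
  · simp only [map_sub, map_add, map_smul, LinearMap.sub_apply, LinearMap.add_apply, LinearMap.smul_apply,
      smul_eq_mul, hvv, h2, h1, hvz, huz, β.comm hvz, β.comm huz, β.symm' hs v u']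
    have := β.two
    field_simp
    ring
  · rw [map_add, map_sub, map_smul, LinearMap.add_apply, LinearMap.sub_apply, LinearMap.smul_apply, hvv,
      β.comm hvz, β.symm v u', h1, hs]
    simpa using div_ne_zero hzz β.two
  · rw [hu', map_smul, smul_eq_mul] at h1
    rw [map_add, map_sub, map_smul, LinearMap.add_apply, LinearMap.sub_apply, LinearMap.smul_apply,
      show β.B u' u = 0 by simp [hu', huu], smul_zero, sub_zero, show β.B z u = 0 by
        have := β.comm huz
        rw [hu', map_smul, smul_eq_mul] at this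
        exact (mul_eq_zero.1 this).resolve_left (inv_ne_zero hvu), add_zero]
    exact hvu

/-- A Siegel transformation centred at a common partner. -/
theorem exists_sie {v u y : Fin n → F} (hvv : β.B v v = 0) (huu : β.B u u = 0) (hyy : β.B y y = 0)
    (hc : β.B y v = β.B y u) (h0 : β.B y v ≠ 0) :
    ∃ g ∈ β.sieGrp, (g : Matrix (Fin n) (Fin n) F) *ᵥ v = u := by
  set c := β.B y v with hcdef
  rcases β.hs with hs | hs
  · have hz : β.B y (c⁻¹ • (v - u)) = 0 := by rw [map_smul, map_sub, ← hcdef, ← hc, sub_self, smul_zero]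
    refine ⟨_, β.sie_mem hyy hz, ?_⟩
    rw [Bil.sie_val, β.sieM_mulVec hyy hz, ← hcdef, hs]
    simp only [map_smul, map_sub, LinearMap.smul_apply, LinearMap.sub_apply, smul_eq_mul, hvv, huu,
      β.symm' hs u v]
    have := β.two
    match_scalars <;> field_simp <;> ring
  · set α := -(β.B u v) / (2 * (c * c)) with hα
    have hz : β.B y ((-c)⁻¹ • (v - u) + α • y) = 0 := by
      rw [map_add, map_smul, map_smul, map_sub, ← hcdef, ← hc, sub_self, hyy, smul_zero, smul_zero, add_zero]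
    refine ⟨_, β.sie_mem hyy hz, ?_⟩
    rw [Bil.sie_val, β.sieM_mulVec hyy hz, ← hcdef, hs, β.self_eq_zero hs]
    simp only [map_smul, map_sub, map_add, LinearMap.smul_apply, LinearMap.sub_apply, LinearMap.add_apply,
      smul_eq_mul, hvv, ← hcdef, hα]
    have := β.two
    match_scalars <;> field_simp <;> ring

/-- Siegel transformations move an isotropic vector onto every isotropic line. -/
theorem moves_line [Finite F] (hn : β.s = 1 → 3 ≤ n) {v u : Fin n → F} (hv : v ≠ 0) (hu : u ≠ 0)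
    (hvv : β.B v v = 0) (huu : β.B u u = 0) :
    ∃ g ∈ β.sieGrp, ∃ c : F, c ≠ 0 ∧ (g : Matrix (Fin n) (Fin n) F) *ᵥ v = c • u := by
  obtain ⟨y, hyy, hyv, hyu⟩ := β.exists_common hn hv hu hvv huu
  obtain ⟨g, hg, h⟩ := β.exists_sie (u := (β.B y v / β.B y u) • u) hvv (by simp [huu]) hyy
    (by rw [map_smul, smul_eq_mul, div_mul_cancel₀ _ hyu]) hyv
  exact ⟨g, hg, _, div_ne_zero hyv hyu, h⟩

/-- Siegel transformations are transitive on non-zero isotropic vectors. -/
theorem moves [Finite F] (hn : β.s = 1 → 4 ≤ n) {v u : Fin n → F} (hv : v ≠ 0) (hu : u ≠ 0)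
    (hvv : β.B v v = 0) (huu : β.B u u = 0) :
    ∃ g ∈ β.sieGrp, (g : Matrix (Fin n) (Fin n) F) *ᵥ v = u := by
  have key : ∀ v w, β.B v v = 0 → β.B w w = 0 → β.B v w ≠ 0 →
      ∃ g ∈ β.sieGrp, (g : Matrix (Fin n) (Fin n) F) *ᵥ v = w := by
    intro v w hvv hww hvw
    rcases β.hs with hs | hs
    · set w' := (β.B v w)⁻¹ • w with hw'
      have h1 : β.B v w' = 1 := by rw [hw', map_smul, smul_eq_mul, inv_mul_cancel₀ hvw]
      have h2 : β.B w' w' = 0 := by simp [hw', hww]
      have hU := (β.ndOn_top).cut_pair β (x := v) (y := w') trivial trivial hvv h2 h1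
      have hd := β.finrank_cut ⊤ v w'
      rw [finrank_top_eq] at hd
      obtain ⟨z, hz, hzz⟩ := hU.value β hs (by have := hn hs; omega) (-(2 * β.B v w))
      obtain ⟨-, hvz, hwz⟩ := β.mem_cut.1 hz
      have h3 : w = β.B v w • w' := by rw [hw', smul_inv_smul₀ hvw]
      have e1 : β.B w' v = 1 := by rw [β.symm' hs v w', h1]
      set y := v + β.B v w • w' + z with hy
      have hyv : β.B y v = β.B v w := by
        rw [hy]
        simp only [map_add, map_smul, LinearMap.add_apply, LinearMap.smul_apply, smul_eq_mul, hvv, e1,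
          β.comm hvz]
        ring
      refine β.exists_sie hvv hww (y := y) ?_ ?_ (by rw [hyv]; exact hvw)
      · rw [hy]
        simp only [map_add, map_smul, LinearMap.add_apply, LinearMap.smul_apply, smul_eq_mul, hvv, h1, h2, e1,
          hvz, hwz, β.comm hvz, β.comm hwz, hzz]
        ring
      · rw [hyv]
        conv_rhs => rw [h3]
        rw [hy]
        simp only [map_add, map_smul, LinearMap.add_apply, LinearMap.smul_apply, smul_eq_mul, h2, h1,
          β.comm hwz]
        ring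
    · refine β.exists_sie hvv hww (y := v - w) (β.self_eq_zero hs _) ?_ ?_
      · simp only [map_sub, LinearMap.sub_apply, hvv, hww, β.symm v w, hs]; ring
      · simp only [map_sub, LinearMap.sub_apply, hvv, β.symm v w, hs]
        simpa using hvw
  obtain ⟨y, hyy, hyv, hyu⟩ := β.exists_common (fun h => by have := hn h; omega) hv hu hvv huu
  obtain ⟨g, hg, h⟩ := key v y hvv hyy (β.comm_ne hyv)
  obtain ⟨g', hg', h'⟩ := key y u hyy huu hyu
  exact ⟨g' * g, β.sieGrp.mul_mem hg' hg, by rw [Units.val_mul, ← Matrix.mulVec_mulVec, h, h']⟩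

end Bil

end Cfsg.Agent.H24.Tensor
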