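import Cfsg.Agent.H24.Tensor.RootSpace

/-!
The Siegel transformations of the product of two symmetric forms that lie in a group.
-/

set_option autoImplicit false

namespace Cfsg.Agent.H24.Tensor

open Module Matrix Cfsg.Agent.H98.TensorGL Cfsg.Agent.H98.ExtField

variable {F : Type*} [Field F] {a b : ℕ}

namespace Sys

variable (S : Sys F a b)

/-- The Siegel transformation with centre `p` and axis `m`. -/
noncomputable def sieT (p m : T F a b) : Module.End F (T F a b) :=
  1 + (S.Bt m).smulRight p - (S.Bt p).smulRight m - ((2 : F)⁻¹ * S.Bt m m) • (S.Bt p).smulRight p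

theorem sieT_apply (p m z : T F a b) :
    S.sieT p m z = z + S.Bt m z • p - S.Bt p z • m - ((2 : F)⁻¹ * S.Bt m m * S.Bt p z) • p := by
  simp [sieT, smul_smul]

theorem sieT_zero (p : T F a b) : S.sieT p 0 = 1 := LinearMap.ext fun z => by simp [sieT_apply]

/-- `X` contains the Siegel transformations along the line of `m`. -/
def Ef (X : Subgroup (Module.End F (T F a b))ˣ) (p m : T F a b) : Prop :=
  S.Bt p p = 0 ∧ S.Bt p m = 0 ∧ ∀ c : F, ∃ g ∈ X, (g : Module.End F (T F a b)) = S.sieT p (c • m)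

variable {S}
variable {X : Subgroup (Module.End F (T F a b))ˣ}

theorem bt_comm (hs : S.A.s * S.D.s = 1) (x y : T F a b) : S.Bt y x = S.Bt x y := by
  rw [S.Bt_symm, hs, one_mul]

theorem sieT_mul (hs : S.A.s * S.D.s = 1) {p m m' : T F a b} (hp : S.Bt p p = 0) (hm : S.Bt p m = 0)
    (hm' : S.Bt p m' = 0) : S.sieT p m * S.sieT p m' = S.sieT p (m + m') := by
  refine LinearMap.ext fun z => ?_
  simp only [Module.End.mul_apply, sieT_apply, map_add, map_sub, map_smul, LinearMap.add_apply, hp,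
    hm, hm', bt_comm hs p m, bt_comm hs m m']
  have := S.two
  match_scalars <;> field_simp <;> ring

theorem Ef.zero {p : T F a b} (hp : S.Bt p p = 0) : S.Ef X p 0 :=
  ⟨hp, map_zero _, fun c => ⟨1, X.one_mem, by rw [smul_zero, sieT_zero, Units.val_one]⟩⟩

theorem Ef.self {p : T F a b} (hp : S.Bt p p = 0) : S.Ef X p p :=
  ⟨hp, hp, fun c => ⟨1, X.one_mem, LinearMap.ext fun z => by
    simp only [sieT_apply, map_smul, LinearMap.smul_apply, smul_eq_mul, hp, Units.val_one, Module.End.one_apply]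
    match_scalars <;> ring⟩⟩

theorem Ef.add (hs : S.A.s * S.D.s = 1) {p m m' : T F a b} (h : S.Ef X p m) (h' : S.Ef X p m') :
    S.Ef X p (m + m') := by
  refine ⟨h.1, by rw [map_add, h.2.1, h'.2.1, add_zero], fun c => ?_⟩
  obtain ⟨g, hg, e⟩ := h.2.2 c
  obtain ⟨g', hg', e'⟩ := h'.2.2 c
  refine ⟨g * g', X.mul_mem hg hg', ?_⟩
  rw [Units.val_mul, e, e', sieT_mul hs h.1 (by rw [map_smul, h.2.1, smul_zero])
    (by rw [map_smul, h'.2.1, smul_zero]), smul_add]

theorem Ef.smul {p m : T F a b} (h : S.Ef X p m) (c : F) : S.Ef X p (c • m) :=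
  ⟨h.1, by rw [map_smul, h.2.1, smul_zero], fun d => by rw [smul_smul]; exact h.2.2 (d * c)⟩

theorem Ef.sub (hs : S.A.s * S.D.s = 1) {p m m' : T F a b} (h : S.Ef X p m) (h' : S.Ef X p m') :
    S.Ef X p (m - m') := by
  rw [sub_eq_add_neg, ← neg_one_smul F m']
  exact h.add hs (h'.smul _)

/-- The space of axes. -/
noncomputable def axes (hs : S.A.s * S.D.s = 1) (X : Subgroup (Module.End F (T F a b))ˣ) {p : T F a b}
    (hp : S.Bt p p = 0) : Submodule F (T F a b) where
  carrier := {m | S.Ef X p m}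
  zero_mem' := Ef.zero hp
  add_mem' h h' := h.add hs h'
  smul_mem' c _ h := h.smul c

theorem Ef.map (hX : S.Over X) {g : (Module.End F (T F a b))ˣ} (hg : g ∈ X) {p m : T F a b} (h : S.Ef X p m) :
    S.Ef X ((g : Module.End F (T F a b)) p) ((g : Module.End F (T F a b)) m) := by
  refine ⟨by rw [hX.iso g hg, h.1], by rw [hX.iso g hg, h.2.1], fun c => ?_⟩
  obtain ⟨r, hr, e⟩ := h.2.2 c
  refine ⟨g * r * g⁻¹, X.mul_mem (X.mul_mem hg hr) (X.inv_mem hg), LinearMap.ext fun z => ?_⟩
  obtain ⟨y, rfl⟩ : ∃ y, (g : Module.End F (T F a b)) y = z :=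
    ⟨((g⁻¹ : (Module.End F (T F a b))ˣ) : Module.End F (T F a b)) z, by
      rw [← Module.End.mul_apply, Units.mul_inv, Module.End.one_apply]⟩
  rw [Units.val_mul, Units.val_mul, Module.End.mul_apply, Module.End.mul_apply,
    ← Module.End.mul_apply ((g⁻¹ : (Module.End F (T F a b))ˣ) : Module.End F (T F a b)), Units.inv_mul,
    Module.End.one_apply, e, ← map_smul, sieT_apply, sieT_apply, hX.iso g hg, hX.iso g hg, hX.iso g hg]
  simp only [map_add, map_sub, map_smul]

/-- A member fixing the centre moves an axis to an axis. -/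
theorem Ef.move (hX : S.Over X) {g : (Module.End F (T F a b))ˣ} (hg : g ∈ X) {p m : T F a b} (h : S.Ef X p m)
    (hfix : (g : Module.End F (T F a b)) p = p) : S.Ef X p ((g : Module.End F (T F a b)) m) := by
  have := h.map hX hg
  rwa [hfix] at this

end Sys

end Cfsg.Agent.H24.Tensor
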