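import Cfsg.Agent.H24.Tensor.Engine
import Cfsg.Agent.H24.Tensor.Siegel

/-!
For two symmetric forms, a group strictly above the tensor stabiliser contains two full root groups.
-/

set_option autoImplicit false

namespace Cfsg.Agent.H24.Tensor

open Module Matrix Cfsg.Agent.H98.TensorGL Cfsg.Agent.H98.ExtField

variable {F : Type*} [Field F] {a b : ℕ}

/-- An isometry conjugates a skew map to the one of the images. -/
theorem Bil.conj_N {n : ℕ} (β : Bil F n) {g : GL (Fin n) F} (hg : g ∈ β.sieGrp) (x y : Fin n → F) :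
    (g : Matrix (Fin n) (Fin n) F) * β.N x y * (↑g⁻¹ : Matrix (Fin n) (Fin n) F) =
      β.N ((g : Matrix (Fin n) (Fin n) F) *ᵥ x) ((g : Matrix (Fin n) (Fin n) F) *ᵥ y) := by
  have h : β.adj (↑g⁻¹ : Matrix (Fin n) (Fin n) F) = (g : Matrix (Fin n) (Fin n) F) := β.adj_eq fun p q => by
    conv_lhs => rw [← β.sieGrp_iso hg, Matrix.mulVec_mulVec, Units.mul_inv, Matrix.one_mulVec]
  simp only [Bil.N, mul_sub, sub_mul, mul_smul_comm, smul_mul_assoc, β.mul_tau, β.tau_mul, h]

namespace Sys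

variable [Finite F] {S : Sys F a b} {X : Subgroup (Module.End F (T F a b))ˣ} (hX : S.Over X) (hd : S.Good)
  (hA : S.A.s = 1) (hD : S.D.s = 1)
include hX hd hA hD

omit [Finite F] hX hd hD in
/-- A matrix of the root space gives an axis. -/
theorem ef_base {v : Fin b → F} (hvv : S.D.B v v = 0) {x y : Fin a → F} (h : ∀ c : F, S.InS X v (c • S.A.N x y)) : S.Ef X (pure v x) (pure v y) := by
  refine ⟨by rw [S.Bt_pure_pure, hvv, zero_mul], by rw [S.Bt_pure_pure, hvv, zero_mul], fun c => ?_⟩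
  obtain ⟨g, hg, e⟩ := (h c).2
  refine ⟨g, hg, e.trans (LinearMap.ext fun z => ?_)⟩
  simp only [LinearMap.add_apply, Module.End.one_apply, te_apply, S.sieT_apply, map_smul, LinearMap.smul_apply,
    S.Bt_pure, Matrix.smul_mulVec, Bil.N_mulVec, map_sub, hA, ev_pure, hvv, smul_eq_mul, zero_smul, map_zero]
  module

/-- Every singular vector of the first factor has an anisotropic partner in the root space. -/
theorem Over.exists_axis (hA4 : a ≤ 4 → ∀ x y, x ≠ 0 → S.A.B x x = 0 → S.A.B y y = 0 → S.A.B x y = 0 →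
      y ∈ Submodule.span F ({x} : Set (Fin a → F)))
    {g : (Module.End F (T F a b))ˣ} (hg : g ∈ X) (hgK : ¬ IsTens g) {x x'' : Fin a → F} (hx : x ≠ 0)
    (hxx : S.A.B x x = 0) (hx''x'' : S.A.B x'' x'' = 0) (hxx'' : S.A.B x x'' = 1) :
    ∃ z ∈ S.A.cut ⊤ x x'', S.A.B z z ≠ 0 ∧
      ∀ v, v ≠ 0 → S.D.B v v = 0 → S.Ef X (pure v x) (pure v z) := by
  obtain ⟨h3, -⟩ := hd.orth hA
  obtain ⟨v₁, N, hv₁, hvv₁, hN, hns⟩ := hX.exists_root hd hg hgK
  have hinv := hX.rootSpace_inv hd hv₁ hvv₁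
  obtain ⟨x₀, y₀, hx₀, hxx₀, hxy₀, hy₀, hW⟩ := hinv.skew_mem S.A hA h3 (S := N) hN
    (by rw [hN.1, hD, one_smul]) (fun h => hns 0 (by rw [h, zero_smul]))
  obtain ⟨k, hk, t, ht, hkt⟩ := S.A.moves_line (fun h => (hd.orth h).1) hx₀ hx hxx₀ hxx
  set y := t • ((k : Matrix (Fin a) (Fin a) F) *ᵥ y₀) with hy
  have hxy : S.A.B x y = 0 := by
    have h1 := S.A.sieGrp_iso hk x₀ y₀
    rw [hkt, hxy₀, map_smul, LinearMap.smul_apply, smul_eq_mul] at h1
    rw [hy, map_smul, smul_eq_mul]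
    exact h1
  have hyW : S.InS X v₁ (S.A.N x y) := by
    have h1 := hX.inS_lt hk hW
    rw [S.A.conj_N hk, hkt] at h1
    refine (congrArg (S.InS X v₁) (Matrix.ext_iff_mulVec.2 fun w => ?_)).mp h1
    rw [hy, Bil.N_mulVec, Bil.N_mulVec]
    simp only [map_smul, LinearMap.smul_apply, smul_eq_mul]
    module
  clear_value y
  -- move into the orthogonal complement of the pair
  set y₁ := y - S.A.B x'' y • x with hy₁
  have hy₁C : y₁ ∈ S.A.cut ⊤ x x'' := by
    refine S.A.mem_cut.2 ⟨trivial, ?_, ?_⟩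
    · rw [hy₁, map_sub, map_smul, hxy, hxx, smul_zero, sub_zero]
    · rw [hy₁, map_sub, map_smul, S.A.symm' hA x x'', hxx'', smul_eq_mul, mul_one, sub_self]
  have hy₁W : S.InS X v₁ (S.A.N x y₁) := by
    refine (congrArg (S.InS X v₁) (Matrix.ext_iff_mulVec.2 fun w => ?_)).mp hyW
    rw [hy₁, Bil.N_mulVec, Bil.N_mulVec, hA]
    simp only [map_sub, map_smul, LinearMap.sub_apply, LinearMap.smul_apply, smul_eq_mul]
    module
  have hy₁0 : y₁ ≠ 0 := fun h => hy₀ (by
    have h1 : t • ((k : Matrix (Fin a) (Fin a) F) *ᵥ y₀) =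
        (S.A.B x'' y * t⁻¹) • ((k : Matrix (Fin a) (Fin a) F) *ᵥ x₀) := by
      rw [← hy, hkt, smul_smul, mul_assoc, inv_mul_cancel₀ ht, mul_one]
      exact sub_eq_zero.1 h
    rw [← Matrix.mulVec_smul, ← Matrix.mulVec_smul] at h1
    have h2 := congrArg ((↑k⁻¹ : Matrix (Fin a) (Fin a) F) *ᵥ ·) h1
    simp only [Matrix.mulVec_mulVec, Units.inv_mul, Matrix.one_mulVec] at h2
    exact (Submodule.smul_mem_iff _ ht).1 (h2 ▸ Submodule.smul_mem _ _ (Submodule.mem_span_singleton_self x₀)))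
  obtain ⟨z, hzC, hzz, hzW⟩ : ∃ z ∈ S.A.cut ⊤ x x'', S.A.B z z ≠ 0 ∧ S.InS X v₁ (S.A.N x z) := by
    obtain ⟨-, hxy₁, hxy₁'⟩ := S.A.mem_cut.1 hy₁C
    rcases ne_or_eq (S.A.B y₁ y₁) 0 with hne | heq
    · exact ⟨y₁, hy₁C, hne, hy₁W⟩
    have ha5 : 5 ≤ a := by
      by_contra ha
      obtain ⟨c, hc⟩ := Submodule.mem_span_singleton.1 (hA4 (by omega) x y₁ hx hxx heq hxy₁)
      have h1 := hxy₁'
      rw [← hc, map_smul, S.A.symm' hA x x'', hxx'', smul_eq_mul, mul_one] at h1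
      exact hy₁0 (by rw [← hc, h1, zero_smul])
    have hC := (S.A.ndOn_top).cut_pair S.A (x := x) (y := x'') trivial trivial hxx hx''x'' hxx''
    obtain ⟨y'', hy''C, hy''', hyy''⟩ := hC.partner S.A hy₁C hy₁0 heq
    have hC' := hC.cut_pair S.A hy₁C hy''C heq hy''' hyy''
    have d1 := S.A.finrank_cut ⊤ x x''
    have d2 := S.A.finrank_cut (S.A.cut ⊤ x x'') y₁ y''
    rw [Bil.finrank_top_eq] at d1
    obtain ⟨z, hz, hzz⟩ := hC'.aniso S.A hA (Bil.ne_bot_of_pos (by omega))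
    obtain ⟨hzC, hy₁z, hy''z⟩ := S.A.mem_cut.1 hz
    obtain ⟨-, hxy'', -⟩ := S.A.mem_cut.1 hy''C
    obtain ⟨-, hxz, -⟩ := S.A.mem_cut.1 hzC
    have hfix : S.A.sieM y'' z *ᵥ x = x := S.A.sieM_fix hy''' hy''z (S.A.comm hxy'') (S.A.comm hxz)
    have h1 := hX.inS_lt (S.A.sie_mem hy''' hy''z) hy₁W
    rw [S.A.conj_N (S.A.sie_mem hy''' hy''z), Bil.sie_val, hfix, S.A.sieM_mulVec hy''' hy''z, hA,
      S.A.symm' hA y₁ y'', hyy'', S.A.symm' hA y₁ z, hy₁z] at h1
    have h2 := hX.inS_add hvv₁ h1 (hX.inS_neg hvv₁ hy₁W)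
    refine ⟨z + ((2 : F)⁻¹ * S.A.B z z) • y'', (S.A.cut ⊤ x x'').add_mem hzC ((S.A.cut ⊤ x x'').smul_mem _ hy''C),
      ?_, ?_⟩
    · simp only [map_add, map_smul, LinearMap.add_apply, LinearMap.smul_apply, smul_eq_mul, hy''z,
        S.A.comm hy''z, hy''', mul_zero, add_zero]
      exact hzz
    · have h3 := hX.inS_neg hvv₁ h2
      refine (congrArg (S.InS X v₁) (Matrix.ext_iff_mulVec.2 fun w => ?_)).mp h3
      simp only [Matrix.neg_mulVec, Matrix.add_mulVec, Bil.N_mulVec, hA, map_add, map_sub, map_smul,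
        LinearMap.add_apply, LinearMap.sub_apply, LinearMap.smul_apply, smul_eq_mul]
      module
  refine ⟨z, hzC, hzz, fun v hv hvv => ef_base hA hvv fun c => ?_⟩
  exact hX.inS_smul hd hv hvv c (hX.inS_move hd hv₁ hvv₁ hv hvv hzW)

/-- The axes at a pure singular vector. -/
theorem Over.ef_all (hA4 : a ≤ 4 → ∀ x y, x ≠ 0 → S.A.B x x = 0 → S.A.B y y = 0 → S.A.B x y = 0 →
      y ∈ Submodule.span F ({x} : Set (Fin a → F)))
    {g : (Module.End F (T F a b))ˣ} (hg : g ∈ X) (hgK : ¬ IsTens g) {v : Fin b → F} (hv : v ≠ 0)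
    (hvv : S.D.B v v = 0) {x : Fin a → F} (hx : x ≠ 0) (hxx : S.A.B x x = 0) (m : T F a b)
    (hm : S.Bt (pure v x) m = 0) : S.Ef X (pure v x) m := by
  have hs : S.A.s * S.D.s = 1 := by rw [hA, hD, one_mul]
  obtain ⟨hb, -⟩ := hd.pos hD
  have hsa := S.A.symm' hA
  have hsd := S.D.symm' hD
  -- the part along `x`
  have step1 : ∀ (v : Fin b → F), v ≠ 0 → S.D.B v v = 0 → ∀ (x : Fin a → F), x ≠ 0 → S.A.B x x = 0 →
      ∀ t, S.Ef X (pure v x) (pure t x) := by
    intro v hv hvv x hx hxx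
    obtain ⟨x'', -, hx''x'', hxx''⟩ := (S.A.ndOn_top).partner S.A (x := x) trivial hx hxx
    obtain ⟨z, hzC, hzz, hz⟩ := hX.exists_axis hd hA hD hA4 hg hgK hx hxx hx''x'' hxx''
    have hxz : S.A.B x z = 0 := (S.A.mem_cut.1 hzC).2.1
    have hp : S.Bt (pure v x) (pure v x) = 0 := by rw [S.Bt_pure_pure, hvv, zero_mul]
    have key : ∀ w, S.D.B w w = 0 → S.D.B v w ≠ 0 → S.Ef X (pure v x) (pure w x) := by
      intro w hww hvw
      have hw : w ≠ 0 := fun h => hvw (by rw [h, map_zero])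
      obtain ⟨r, hr, er⟩ := (hz w hw hww).2.2 1
      have hfix : (r : Module.End F (T F a b)) (pure v x) = pure v x := by
        rw [er, S.sieT_apply, one_smul, S.Bt_pure_pure, S.Bt_pure_pure, S.A.comm hxz, hxx]
        simp
      have h1 := ((hz v hv hvv).move hX hr hfix).sub hs (hz v hv hvv)
      rw [er, S.sieT_apply, one_smul, S.Bt_pure_pure w v z z, S.Bt_pure_pure w v x z, hxz, mul_zero, mul_zero,
        zero_smul, sub_zero, zero_smul, sub_zero, add_sub_cancel_left] at h1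
      have h2 := h1.smul (S.D.B w v * S.A.B z z)⁻¹
      rwa [inv_smul_smul₀ (mul_ne_zero (S.D.comm_ne hvw) hzz)] at h2
    intro t
    refine S.D.ndOn_top.le_of_isotropic S.D hD (by rw [Bil.finrank_top_eq]; omega)
      ((axes hs X hp).comap ({ toFun := fun w => pure w x
                               map_add' := fun w w' => pure_add w w' x
                               map_smul' := fun c w => pure_smul c w x } : (Fin b → F) →ₗ[F] T F a b))
      (fun w _ hww => ?_) (Submodule.mem_top (x := t))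
    show S.Ef X (pure v x) (pure w x)
    rcases eq_or_ne (S.D.B v w) 0 with hvw | hvw
    swap
    · exact key w hww hvw
    rcases eq_or_ne w 0 with rfl | hw
    · rw [pure_zero]; exact Ef.zero hp
    obtain ⟨y, hyy, hyv, hyw⟩ := S.D.exists_common (fun _ => by omega) hv hw hvv hww
    set l := -(S.D.B y w / S.D.B y v) with hl
    have e : w = (w + y + l • v) - y - l • v := by abel
    rw [e, pure_sub, pure_sub, pure_smul l v x]
    refine ((key _ ?_ ?_).sub hs (key y hyy (S.D.comm_ne hyv))).sub hs ((Ef.self hp).smul l)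
    · simp only [map_add, map_smul, LinearMap.add_apply, LinearMap.smul_apply, smul_eq_mul, hww, hyy, hvv, hvw,
        S.D.comm hvw, hsd y w, hsd y v, hl]
      field_simp
      ring
    · rw [map_add, map_add, map_smul, hvw, hvv, smul_zero, add_zero, zero_add, hsd y v]
      exact hyv
  -- the part along the partner
  have step2 : ∀ (v : Fin b → F), v ≠ 0 → S.D.B v v = 0 → ∀ (x x'' : Fin a → F), x ≠ 0 → S.A.B x x = 0 →
      S.A.B x'' x'' = 0 → S.A.B x x'' = 1 → ∀ y, S.D.B v y = 0 → S.Ef X (pure v x) (pure y x'') := by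
    intro v hv hvv x x'' hx hxx hx''x'' hxx''
    have hx'' : x'' ≠ 0 := fun h => by rw [h, map_zero] at hxx''; exact zero_ne_one hxx''
    have key : ∀ y t, S.D.B v y = 0 →
        S.Ef X (pure v x) (S.D.B y t • pure v x'' - S.D.B v t • pure y x'') := by
      intro y t hvy
      obtain ⟨r, hr, er⟩ := (step1 v hv hvv x'' hx'' hx''x'' y).2.2 1
      have hfix : (r : Module.End F (T F a b)) (pure v x) = pure v x := by
        rw [er, S.sieT_apply, one_smul, S.Bt_pure_pure, S.Bt_pure_pure, S.D.comm hvy, hvv]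
        simp
      have h1 := ((step1 v hv hvv x hx hxx t).move hX hr hfix).sub hs (step1 v hv hvv x hx hxx t)
      rw [er, S.sieT_apply, one_smul, S.Bt_pure_pure y t x'' x, S.Bt_pure_pure v t x'' x,
        S.Bt_pure_pure y y x'' x'', hx''x'', hsa x x'', hxx''] at h1
      simpa [add_sub_assoc] using h1
    obtain ⟨v', -, hv'v', hvv'⟩ := (S.D.ndOn_top).partner S.D (x := v) trivial hv hvv
    have hC := (S.D.ndOn_top).cut_pair S.D (x := v) (y := v') trivial trivial hvv hv'v' hvv'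
    have d1 := S.D.finrank_cut ⊤ v v'
    rw [Bil.finrank_top_eq] at d1
    obtain ⟨n, hn, hnn⟩ := hC.aniso S.D hD (Bil.ne_bot_of_pos (by omega))
    have hvn : S.D.B v n = 0 := (S.D.mem_cut.1 hn).2.1
    have h0 := (key n n hvn).smul (S.D.B n n)⁻¹
    rw [hvn, zero_smul, sub_zero, inv_smul_smul₀ hnn] at h0
    intro y hy
    have h1 := (h0.smul (S.D.B y v')).sub hs (key y v' hy)
    rwa [hvv', one_smul, sub_sub_cancel] at h1
  -- the middle part
  have step3 : ∀ (v : Fin b → F), v ≠ 0 → S.D.B v v = 0 → ∀ (x x'' : Fin a → F), x ≠ 0 → S.A.B x x = 0 →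
      S.A.B x'' x'' = 0 → S.A.B x x'' = 1 → ∀ u, S.A.B x u = 0 → S.A.B x'' u = 0 →
      ∀ y, S.D.B v y = 0 → S.Ef X (pure v x) (pure y u) := by
    intro v hv hvv x x'' hx hxx hx''x'' hxx'' u hxu hx''u y hy
    have hfix : ((ltU (S.A.sie hxx hxu) : (Module.End F (T F a b))ˣ) : Module.End F (T F a b)) (pure v x) =
        pure v x := by rw [ltU_val, lt_pure, Bil.sie_val, S.A.sieM_self hxx hxu]
    have h1 := (((step2 v hv hvv x x'' hx hxx hx''x'' hxx'' y hy).sub hs
      ((step2 v hv hvv x x'' hx hxx hx''x'' hxx'' y hy).move hX (hX.lt_sie hxx hxu) hfix)).sub hs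
      ((step1 v hv hvv x hx hxx y).smul ((2 : F)⁻¹ * S.A.B u u)))
    rw [ltU_val, lt_pure, Bil.sie_val, S.A.sieM_mulVec hxx hxu, S.A.comm hx''u, hxx'', hA, ← map_sub,
      ← map_smul, ← map_sub] at h1
    refine (congrArg (fun u => S.Ef X (pure v x) (pure y u)) ?_).mp h1
    module
  obtain ⟨x'', -, hx''x'', hxx''⟩ := (S.A.ndOn_top).partner S.A (x := x) trivial hx hxx
  -- the last direction
  have step4 : ∀ u, S.A.B x u = 0 → S.A.B x'' u = 0 → ∀ t, S.Ef X (pure v x) (pure t u) := by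
    intro u hxu hx''u t
    obtain ⟨v', -, hv'v', hvv'⟩ := (S.D.ndOn_top).partner S.D (x := v) trivial hv hvv
    have hC := (S.D.ndOn_top).cut_pair S.D (x := v) (y := v') trivial trivial hvv hv'v' hvv'
    have d1 := S.D.finrank_cut ⊤ v v'
    rw [Bil.finrank_top_eq] at d1
    obtain ⟨w, hwC, hw, hww⟩ := hC.isotropic S.D hD (by omega)
    obtain ⟨w'', hw''C, -, hww''⟩ := hC.partner S.D hwC hw hww
    obtain ⟨-, hvw, hv'w⟩ := S.D.mem_cut.1 hwC
    obtain ⟨-, hvw'', hv'w''⟩ := S.D.mem_cut.1 hw''C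
    obtain ⟨r, hr, er⟩ := (step3 w hw hww x x'' hx hxx hx''x'' hxx'' u hxu hx''u v' (S.D.comm hv'w)).2.2 1
    have hfix : (r : Module.End F (T F a b)) (pure v x) = pure v x := by
      rw [er, S.sieT_apply, one_smul, S.Bt_pure_pure, S.Bt_pure_pure, S.A.comm hxu, hxx]
      simp
    have h0 := (step2 v hv hvv x x'' hx hxx hx''x'' hxx'' w'' hvw'')
    have h1 := h0.sub hs (h0.move hX hr hfix)
    rw [er, S.sieT_apply, one_smul, S.Bt_pure_pure v' w'' u x'', S.Bt_pure_pure w w'' x x'',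
      S.Bt_pure_pure v' v' u u, hv'v', S.A.comm hx''u, hww'', hxx''] at h1
    have h2 : S.Ef X (pure v x) (pure v' u) := by simpa [sub_sub_eq_add_sub] using h1
    have h3 : S.Ef X (pure v x) (pure (t - S.D.B v t • v') u) :=
      step3 v hv hvv x x'' hx hxx hx''x'' hxx'' u hxu hx''u _
        (by rw [map_sub, map_smul, hvv', smul_eq_mul, mul_one, sub_self])
    rw [show t = (t - S.D.B v t • v') + S.D.B v t • v' by abel, pure_add, pure_smul]
    exact h3.add hs (h2.smul _)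
  -- decompose
  have hp : S.Bt (pure v x) (pure v x) = 0 := by rw [S.Bt_pure_pure, hvv, zero_mul]
  set W := axes hs X hp
  set t₂ := ∑ j, S.A.B x (fun i => m i j) • (Pi.single j 1 : Fin b → F) with ht₂
  have hsplit : m - pure t₂ x'' ∈ W := by
    rw [eq_sum_pure m, ht₂, show pure (∑ j, S.A.B x (fun i => m i j) • (Pi.single j 1 : Fin b → F)) x'' =
      ∑ j, S.A.B x (fun i => m i j) • pure (Pi.single j 1 : Fin b → F) x'' from funext fun i => by
        simp [Finset.sum_apply, Finset.smul_sum, smul_comm (x'' i)], ← Finset.sum_sub_distrib]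
    refine W.sum_mem fun j _ => ?_
    generalize (Pi.single j 1 : Fin b → F) = e
    generalize (fun i => m i j) = u
    have hdec := S.A.proj_mem (U := ⊤) (z := u) (x := x) (y := x'') trivial trivial trivial hxx hx''x'' hxx''
    obtain ⟨-, h1, h2⟩ := S.A.mem_cut.1 hdec
    have hsum : pure e u - S.A.B x u • pure e x'' =
        pure e (u - S.A.B x u • x'' - (S.A.s * S.A.B x'' u) • x) + (S.A.s * S.A.B x'' u) • pure e x := by
      rw [map_sub, map_sub, map_smul, map_smul]; abel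
    rw [hsum]
    exact (step4 _ h1 h2 e).add hs ((step1 v hv hvv x hx hxx e).smul _)
  have ht : S.D.B v t₂ = 0 := by
    have h0 : m - pure t₂ x'' ∈ W := hsplit
    have h1 := h0.2.1
    rw [map_sub, hm, S.Bt_pure_pure, hxx'', mul_one, zero_sub, neg_eq_zero] at h1
    exact h1
  have := W.add_mem hsplit (step2 v hv hvv x x'' hx hxx hx''x'' hxx'' t₂ ht)
  rwa [sub_add_cancel] at this

end Sys

end Cfsg.Agent.H24.Tensor
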