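import Cfsg.Agent.H24.Tensor.OmFinish
import Cfsg.Agent.H24.Tensor.Bridge
import Cfsg.Agent.H98.OrthMax.Roots

/-!
The stabiliser of a decomposition `O ⊗ O` is maximal in Ω, odd characteristic.
-/

set_option autoImplicit false

namespace Cfsg.Agent.H24.Tensor

open Module Matrix QuadraticMap Cfsg.Agent.H98.TensorGL Cfsg.Agent.H98.ExtField Cfsg.Agent.H96
  Cfsg.Agent.Orthogonal

variable {F : Type*} [Field F] {a b : ℕ}

/-- Powers of a unipotent element of class three. -/
theorem pow_of_cube {R : Type*} [Ring R] [Algebra F R] (htwo : (2 : F) ≠ 0) {n : R} (h : n ^ 3 = 0) (k : ℕ) :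
    (1 + n) ^ k = 1 + (k : F) • n + ((k : F) * ((k : F) - 1) / 2) • (n * n) := by
  have h' : n * n * n = 0 := by rw [← h, pow_succ, pow_two]
  induction k with
  | zero => simp
  | succ k ih =>
    rw [pow_succ, ih]
    simp only [mul_add, add_mul, one_mul, mul_one, smul_mul_assoc, h', smul_zero, add_zero]
    push_cast
    match_scalars <;> field_simp <;> ring

/-- A Siegel transformation at a pure centre along a pure anisotropic axis is no tensor. -/
theorem Sys.not_isTens_sieT (S : Sys F a b) (hA : S.A.s = 1) (ha : 0 < a) {v : Fin b → F} (hv : v ≠ 0)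
    (hvv : S.D.B v v = 0) {x z : Fin a → F} (hx : x ≠ 0) (hxz : S.A.B x z = 0)
    (hzz : S.A.B z z ≠ 0) {g : (Module.End F (T F a b))ˣ}
    (hg : (g : Module.End F (T F a b)) = S.sieT (pure v x) (pure v z)) : ¬ IsTens g := by
  intro h
  obtain ⟨Q, -, hQ⟩ := h.exists_rt ha hv fun u => by
    rw [hg, S.sieT_apply, S.Bt_pure_pure, S.Bt_pure_pure, hvv]
    simp
  obtain ⟨w, hvw⟩ := S.D.exists_one hv
  have h1 := LinearMap.congr_fun (hQ.symm.trans hg) (pure w z)
  rw [S.sieT_apply, S.Bt_pure_pure v w z z, S.Bt_pure_pure v w x z, hvw, hxz, one_mul, mul_zero, zero_smul,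
    sub_zero, mul_zero, zero_smul, sub_zero, rt_pure] at h1
  have h2 : pure (Q *ᵥ w - w) z = pure v (S.A.B z z • x) := by rw [pure_sub, h1, map_smul, add_sub_cancel_left]
  have h3 := congrArg (ev (S.D.B w)) h2
  rw [ev_pure, ev_pure, S.D.symm v w, hvw, mul_one, smul_smul] at h3
  have h4 := congrArg (S.A.B z) h3
  rw [map_smul, map_smul, S.A.symm' hA x z, hxz, smul_zero, smul_eq_mul, mul_eq_zero] at h4
  rw [h4.resolve_right hzz, zero_smul, eq_comm, smul_eq_zero, mul_eq_zero] at h3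
  rcases h3 with (h3 | h3) | h3
  exacts [S.D.s_ne h3, hzz h3, hx h3]

variable [Finite F] {ι : Type} [Fintype ι] [DecidableEq ι]

/-- Maximality in Ω in the coordinates of a pair of forms. -/
theorem om_of_sys {Q : QuadraticForm F (ι → F)} (hQ : Nondeg Q) (e : ι ≃ Fin a × Fin b) (P : GL ι F)
    (S : Sys F a b) (hS : ∀ x y, polar Q (tensorIso e P x) (tensorIso e P y) = S.Bt x y) (hd : S.Good)
    (hA : S.A.s = 1) (hD : S.D.s = 1)
    (hA4 : a ≤ 4 → ∀ x y, x ≠ 0 → S.A.B x x = 0 → S.A.B y y = 0 → S.A.B x y = 0 →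
      y ∈ Submodule.span F ({x} : Set (Fin a → F))) :
    Cfsg.Geo.IsMaximalIn (Cfsg.Geo.omegaGL ⇑Q)
      (Cfsg.Geo.tensorProductSubgroup a b e P ⊓ Cfsg.Geo.omegaGL ⇑Q) := by
  have htwo := S.two
  have hab : 15 ≤ finrank F (ι → F) := by
    rw [Module.finrank_fintype_fun_eq_card, Fintype.card_congr e, Fintype.card_prod, Fintype.card_fin,
      Fintype.card_fin]
    exact Nat.mul_le_mul (hd.orth hA).1 (hd.pos hD).1
  have h4 : finrank F (ι → F) ≠ 4 := by omega
  have hn : 5 ≤ finrank F (ι → F) := by omega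
  set τ := tensorIso e P
  set ψ : O Q →* (Module.End F (T F a b))ˣ := (toU e P).toMonoidHom.comp (H96.om Q)
  have hψ : ∀ (g : O Q) z, (ψ g : Module.End F (T F a b)) z = τ.symm ((g : (ι → F) ≃ₗ[F] (ι → F)) (τ z)) :=
    fun g z => by rw [← H96.om_mulVec]; rfl
  have hQτ : ∀ z, Q (τ z) = (2 : F)⁻¹ * S.Bt z z := fun z => by
    rw [← hS, Cfsg.Agent.Orthogonal.polar_self', ← mul_assoc, inv_mul_cancel₀ htwo, one_mul]
  have hsie : ∀ (p m : T F a b) (hp : Q (τ p) = 0) (hm : polar Q (τ p) (τ m) = 0),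
      (ψ (Cfsg.Agent.Orthogonal.sie (τ p) (τ m) hp hm) : Module.End F (T F a b)) = S.sieT p m := fun p m hp hm =>
    LinearMap.ext fun z => by
      rw [hψ, sie_app, map_sub, map_add, map_smul, map_smul, τ.symm_apply_apply, τ.symm_apply_apply,
        τ.symm_apply_apply, S.sieT_apply, hS, hS, hQτ, sub_smul]
      abel
  have hsq : ∀ g : O Q, g ^ 2 ∈ commutator (O Q) := fun g => by
    have htop := reflGroup_eq_top hQ (Or.inr h4)
    rw [← Abelianization.ker_of, MonoidHom.mem_ker, map_pow]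
    have hg : g ∈ reflGroup Q := by rw [htop]; trivial
    induction hg using Subgroup.closure_induction with
    | mem x hx => obtain ⟨v, rfl⟩ := hx; rw [← map_pow, pow_two, rO_mul_self, map_one]
    | one => simp
    | mul a b _ _ ha hb => rw [map_mul, mul_pow, ha, hb, one_mul]
    | inv a _ ha => rw [map_inv, inv_pow, ha, inv_one]
  have hψinj : Function.Injective ψ := (toU e P).injective.comp (H96.om_injective Q)
  -- unipotent isometries lie in the commutator subgroup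
  have hlift : ∀ r : (Module.End F (T F a b))ˣ, S.Iso (r : Module.End F (T F a b)) → ∃ g : O Q, ψ g = r := by
    intro r hr
    obtain ⟨g, rfl⟩ := (toU e P).surjective r
    have h1 := (Sys.iso_toU (f := polar Q) hS g).1 hr
    have hg : g ∈ Cfsg.isometryGroup F ⇑Q := fun u _ => by
      have h2 := h1 u u
      rw [Cfsg.Agent.Orthogonal.polar_self', Cfsg.Agent.Orthogonal.polar_self'] at h2
      exact mul_left_cancel₀ htwo h2
    exact ⟨toO Q ⟨g, hg⟩, by simp [ψ, H96.om]⟩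
  have huni : ∀ g : O Q, ((ψ g : Module.End F (T F a b)) - 1) ^ 3 = 0 → g ∈ commutator (O Q) := by
    intro g hg
    have hp := ringChar.charP F
    have hpp : (ringChar F).Prime := CharP.char_is_prime F _
    have hp2 : ringChar F ≠ 2 := fun h => htwo (by rw [← Nat.cast_ofNat, ← h, ringChar.Nat.cast_ringChar])
    obtain ⟨k, hk⟩ := hpp.odd_of_ne_two hp2
    have h1 : g ^ ringChar F = 1 := hψinj (by
      rw [map_pow, map_one]
      refine Units.ext ?_
      rw [Units.val_pow_eq_pow_val, Units.val_one, ← add_sub_cancel (1 : Module.End F (T F a b)) (ψ g :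
        Module.End F (T F a b)), pow_of_cube htwo hg, ringChar.Nat.cast_ringChar]
      simp)
    have h2 : g = (g ^ (k + 1)) ^ 2 := by
      rw [← pow_mul, show (k + 1) * 2 = ringChar F + 1 by omega, pow_succ, h1, one_mul]
    rw [h2]
    exact hsq _
  obtain ⟨v, -, hv, hvv⟩ := S.D.ndOn_top.isotropic S.D hD (U := ⊤)
    (by rw [Bil.finrank_top_eq]; have := hd.pos hD; omega)
  obtain ⟨x, -, hx, hxx⟩ := S.A.ndOn_top.isotropic S.A hA (U := ⊤)
    (by rw [Bil.finrank_top_eq]; exact (hd.orth hA).1)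
  refine ⟨lt_of_le_not_ge inf_le_right fun h => ?_, fun M hM hMG => ?_⟩
  · obtain ⟨x'', -, hx''x'', hxx''⟩ := (S.A.ndOn_top).partner S.A (x := x) trivial hx hxx
    have hC := (S.A.ndOn_top).cut_pair S.A (x := x) (y := x'') trivial trivial hxx hx''x'' hxx''
    have d1 := S.A.finrank_cut ⊤ x x''
    rw [Bil.finrank_top_eq] at d1
    obtain ⟨z, hz, hzz⟩ := hC.aniso S.A hA (Bil.ne_bot_of_pos (by have := (hd.orth hA).1; omega))
    have hxz : S.A.B x z = 0 := (S.A.mem_cut.1 hz).2.1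
    have hp : Q (τ (pure v x)) = 0 := by rw [hQτ, S.Bt_pure_pure, hvv, zero_mul, mul_zero]
    have hm : polar Q (τ (pure v x)) (τ (pure v z)) = 0 := by rw [hS, S.Bt_pure_pure, hvv, zero_mul]
    have h' := (h ((H96.mem_omegaGL_iff Q _).2 ⟨_, H98.OrthMax.sie_mem_commutator hQ hn hp hm, rfl⟩)).1
    exact S.not_isTens_sieT hA hd.a_pos hv hvv hx hxz hzz (hsie _ _ hp hm) ((mem_tps_iff e P _).1 h')
  by_cases hMS : M ≤ Cfsg.Geo.tensorProductSubgroup a b e P
  · exact Or.inl (le_antisymm (le_inf hMS hMG) hM)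
  refine Or.inr (le_antisymm hMG ?_)
  set X₀ : Subgroup (O Q) := M.comap (H96.om Q)
  have hX₀ : ∀ g ∈ X₀, g ∈ commutator (O Q) := fun g hg => by
    obtain ⟨y, hy, hyg⟩ := (H96.mem_omegaGL_iff Q _).1 (hMG hg)
    rwa [← H96.om_injective Q hyg]
  set X := X₀.map ψ
  have hX : S.Over X := by
    refine ⟨?_, ?_, fun h => absurd (hD ▸ h) fun h' => htwo (by linear_combination h')⟩
    · rintro _ ⟨g, -, rfl⟩
      refine (Sys.iso_toU (f := polar Q) hS _).2 fun u w => ?_
      rw [H96.om_mulVec, H96.om_mulVec, O.polar_app]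
    · rintro _ ⟨g, hg, rfl⟩ r hr h3 ht
      obtain ⟨y, rfl⟩ := hlift r hr
      rw [← map_mul] at ht ⊢
      exact Subgroup.mem_map_of_mem ψ (hM ⟨(mem_tps_iff e P _).2 ht,
        (H96.mem_omegaGL_iff Q _).2 ⟨_, mul_mem (hX₀ g hg) (huni y h3), rfl⟩⟩)
  obtain ⟨g₀, hg₀, hg₀N⟩ := SetLike.not_le_iff_exists.1 hMS
  obtain ⟨g, -, rfl⟩ := (H96.mem_omegaGL_iff Q g₀).1 (hMG hg₀)
  have hgX : ψ g ∈ X := Subgroup.mem_map_of_mem ψ (show g ∈ X₀ from hg₀)
  have hgK : ¬ IsTens (ψ g) := fun h => hg₀N ((mem_tps_iff e P _).2 h)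
  have hfull : ∀ v x, v ≠ 0 → S.D.B v v = 0 → x ≠ 0 → S.A.B x x = 0 →
      H98.OrthMax.Full X₀ (τ (pure v x)) := by
    intro v x hv hvv hx hxx w hu hw
    obtain ⟨m, rfl⟩ := τ.surjective w
    obtain ⟨_, ⟨y, hy, rfl⟩, e'⟩ :=
      (hX.ef_all hd hA hD hA4 hgX hgK hv hvv hx hxx m (by rw [← hS]; exact hw)).2.2 1
    rw [one_smul] at e'
    rwa [hψinj (Units.ext (e'.trans (hsie _ _ hu hw).symm))] at hy
  obtain ⟨v', -, hv'v', hvv'⟩ := (S.D.ndOn_top).partner S.D (x := v) trivial hv hvv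
  obtain ⟨x'', -, hx''x'', hxx''⟩ := (S.A.ndOn_top).partner S.A (x := x) trivial hx hxx
  have hle : sieGroup Q ≤ X₀ := H98.OrthMax.sieGroup_le_of_pair hQ (by omega) (hfull v x hv hvv hx hxx)
    (hfull v' x'' (fun h => by simp [h] at hvv') hv'v' (fun h => by simp [h] at hxx'') hx''x'')
    (by rw [hQτ, S.Bt_pure_pure, hvv, zero_mul, mul_zero]) (by rw [hQτ, S.Bt_pure_pure, hv'v', zero_mul, mul_zero])
    (by rw [hS, S.Bt_pure_pure, hvv', hxx'', one_mul]; exact one_ne_zero)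
  intro g hg
  obtain ⟨y, hy, rfl⟩ := (H96.mem_omegaGL_iff Q g).1 hg
  rw [← sieGroup_eq_commutator hQ hn] at hy
  exact hle hy

omit [Finite F] in
/-- The form of a factor has no totally singular plane in dimension three. -/
theorem Bil.no_plane {n : ℕ} (β : Bil F n) (hn : n ≤ 3) {x y : Fin n → F} (hx : x ≠ 0) (hxx : β.B x x = 0)
    (hyy : β.B y y = 0) (hxy : β.B x y = 0) : y ∈ Submodule.span F ({x} : Set (Fin n → F)) := by
  by_contra hy
  set L : (Fin n → F) →ₗ[F] F × F := (β.B x).prod (β.B y)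
  have hL : Function.Surjective L := fun ⟨r, t⟩ => by
    obtain ⟨z, h1, h2⟩ := β.exists_two hx hy r t
    exact ⟨z, Prod.ext h1 h2⟩
  have h1 := LinearMap.finrank_range_add_finrank_ker L
  rw [LinearMap.range_eq_top.2 hL, finrank_top, finrank_prod, finrank_self, finrank_fin_fun] at h1
  have hxk : x ∈ LinearMap.ker L := LinearMap.mem_ker.2 (Prod.ext hxx (β.comm hxy))
  have hyk : y ∈ LinearMap.ker L := LinearMap.mem_ker.2 (Prod.ext hxy hyy)
  have h2 : Submodule.span F ({x} : Set (Fin n → F)) < LinearMap.ker L :=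
    lt_of_le_of_ne ((Submodule.span_singleton_le_iff_mem x _).2 hxk) fun h => hy (h ▸ hyk)
  have h3 := Submodule.finrank_lt_finrank_of_lt h2
  rw [finrank_span_singleton hx] at h3
  omega

end Cfsg.Agent.H24.Tensor
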