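import Cfsg.Agent.H24.Tensor.Root

/-!
Elements of the group mapping some `A ⊗ v` onto another one are tensors.
-/

set_option autoImplicit false

namespace Cfsg.Agent.H24.Tensor

open Module Matrix Cfsg.Agent.H98.TensorGL Cfsg.Agent.H98.ExtField

variable {F : Type*} [Field F] {a b : ℕ}

/-- The range of a map on `F^a` has no room for two copies of `A ⊗ y`. -/
theorem not_two (ha : 0 < a) {y y' : Fin b → F} (hy : y ≠ 0) (hy' : y' ∉ Submodule.span F {y})
    (f : (Fin a → F) →ₗ[F] T F a b) (h : ∀ u, pure y u ∈ LinearMap.range f)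
    (h' : ∀ u, pure y' u ∈ LinearMap.range f) : False := by
  let g : (Fin a → F) × (Fin a → F) →ₗ[F] T F a b := (pure y).coprod (pure y')
  have hg : Function.Injective g := (injective_iff_map_eq_zero g).2 fun p hp => by
    have hi : ∀ i, p.1 i • y + p.2 i • y' = 0 := fun i => congrFun hp i
    have h2 : ∀ i, p.2 i = 0 := fun i => by
      by_contra h0
      refine hy' (Submodule.mem_span_singleton.2 ⟨-((p.2 i)⁻¹ * p.1 i), ?_⟩)
      rw [neg_smul, mul_smul, eq_neg_of_add_eq_zero_left (hi i), smul_neg, neg_neg, inv_smul_smul₀ h0]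
    refine Prod.ext (funext fun i => ?_) (funext h2)
    have := hi i
    rw [h2, zero_smul, add_zero] at this
    exact (smul_eq_zero.1 this).resolve_right hy
  have hle : LinearMap.range g ≤ LinearMap.range f := by
    rintro _ ⟨p, rfl⟩
    exact Submodule.add_mem _ (h p.1) (h' p.2)
  have h1 := Submodule.finrank_mono hle
  have h2 := LinearMap.finrank_range_le f
  rw [LinearMap.finrank_range_of_inj hg, finrank_prod, finrank_fin_fun] at h1
  rw [finrank_fin_fun] at h2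
  omega

/-- A tensor fixing `A ⊗ v` pointwise acts on the second factor alone. -/
theorem IsTens.exists_rt (ha : 0 < a) {g : (Module.End F (T F a b))ˣ} (hg : IsTens g) {v : Fin b → F}
    (hv : v ≠ 0) (h : ∀ u, (g : Module.End F (T F a b)) (pure v u) = pure v u) :
    ∃ Q : Matrix (Fin b) (Fin b) F, Q *ᵥ v = v ∧ (g : Module.End F (T F a b)) = rt Q := by
  obtain ⟨P, Q, e⟩ := hg
  obtain ⟨ψ, hψ, -⟩ := Submodule.exists_le_ker_of_notMem (p := (⊥ : Submodule F (Fin b → F))) (v := v)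
    (by rw [Submodule.mem_bot]; exact hv)
  set c := ψ ((Q : Matrix (Fin b) (Fin b) F) *ᵥ v) / ψ v with hc
  have hu : ∀ u, c • ((P : Matrix (Fin a) (Fin a) F) *ᵥ u) = u := fun u => by
    have h1 := congrArg (ev ψ) (h u)
    rw [e, lt_rt_pure, ev_pure, ev_pure] at h1
    rw [hc, div_eq_inv_mul, mul_smul, h1, inv_smul_smul₀ hψ]
  have hc0 : c ≠ 0 := fun h0 => by
    have := hu (Pi.single ⟨0, ha⟩ 1)
    rw [h0, zero_smul] at this
    simpa using congrFun this ⟨0, ha⟩
  have hP : (P : Matrix (Fin a) (Fin a) F) = c⁻¹ • 1 := Matrix.ext_iff_mulVec.2 fun u => by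
    conv_rhs => rw [Matrix.smul_mulVec, Matrix.one_mulVec, ← hu u, inv_smul_smul₀ hc0]
  have hval : (g : Module.End F (T F a b)) = rt (c⁻¹ • (Q : Matrix (Fin b) (Fin b) F)) := by
    rw [e, hP, lt_smul, lt_one, rt_smul, smul_mul_assoc, one_mul]
  refine ⟨_, ?_, hval⟩
  have := h (Pi.single ⟨0, ha⟩ 1)
  rw [hval, rt_pure] at this
  simpa using congrFun this ⟨0, ha⟩

namespace Sys

variable {S : Sys F a b} {v : Fin b → F}

theorem Rad.sub_mem {r : (Module.End F (T F a b))ˣ} (h : S.Rad v r) {n : T F a b} (hn : ev (S.D.B v) n = 0) :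
    (r : Module.End F (T F a b)) n - n ∈ LinearMap.range (pure v) := by
  have hi : ∀ i, S.D.B v (n i) = 0 := fun i => congrFun hn i
  rw [eq_sum_pure' n, map_sum, ← Finset.sum_sub_distrib]
  refine Submodule.sum_mem _ fun i _ => ?_
  obtain ⟨z, hz⟩ := h.move (n i) (Pi.single i 1) (hi i)
  exact ⟨z, by rw [hz, add_sub_cancel_left]⟩

theorem Rad.sub_cube {r : (Module.End F (T F a b))ˣ} (h : S.Rad v r) :
    ((r : Module.End F (T F a b)) - 1) ^ 3 = 0 := by
  refine LinearMap.ext fun m => ?_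
  have h1 : ev (S.D.B v) ((r : Module.End F (T F a b)) m - m) = 0 := S.ev_eq_zero fun u => by
    rw [map_sub, sub_eq_zero]
    conv_lhs => rw [← h.fix u]
    exact h.iso _ _
  obtain ⟨z, hz⟩ := h.sub_mem h1
  rw [pow_succ, pow_two, LinearMap.zero_apply, Module.End.mul_apply, Module.End.mul_apply]
  simp only [LinearMap.sub_apply, Module.End.one_apply, ← hz, h.fix, sub_self]

variable {X : Subgroup (Module.End F (T F a b))ˣ} (hX : S.Over X) (hnr : S.NoRoot X) (hd : S.Good)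
include hX hnr hd

/-- The conjugate of a Siegel transformation by an element preserving `A ⊗ v`, evaluated. -/
theorem Over.exists_pull [Finite F] (hv : v ≠ 0) (hvv : S.D.B v v = 0) {x : (Module.End F (T F a b))ˣ}
    (hx : x ∈ X) {P P' : Matrix (Fin a) (Fin a) F} (hPP' : P * P' = 1)
    (hP : ∀ u, (x : Module.End F (T F a b)) (pure v u) = pure v (P *ᵥ u)) {z : Fin b → F}
    (hz : S.D.B v z = 0) :
    ∃ z', S.D.B v z' = 0 ∧ ∀ n, ev (S.D.B v) n = 0 →
      ev (S.D.B z') ((x : Module.End F (T F a b)) n) = P *ᵥ ev (S.D.B z) n := by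
  have hPinv : ∀ u, ((x⁻¹ : (Module.End F (T F a b))ˣ) : Module.End F (T F a b)) (pure v u) =
      pure v (P' *ᵥ u) := fun u => units_injective x (by
    rw [apply_inv_apply, hP, Matrix.mulVec_mulVec, hPP', Matrix.one_mulVec])
  have hperp : ∀ g : (Module.End F (T F a b))ˣ, S.Iso (g : Module.End F (T F a b)) →
      (∀ u, ∃ u', (g : Module.End F (T F a b)) (pure v u') = pure v u) → ∀ n, ev (S.D.B v) n = 0 →
      ev (S.D.B v) ((g : Module.End F (T F a b)) n) = 0 := fun g hg hs n hn => S.ev_eq_zero fun u => by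
    obtain ⟨u', hu'⟩ := hs u
    rw [← hu', hg, Bt_pure, hn, map_zero]
  have hperp' : ∀ n, ev (S.D.B v) n = 0 →
      ev (S.D.B v) (((x⁻¹ : (Module.End F (T F a b))ˣ) : Module.End F (T F a b)) n) = 0 :=
    hperp x⁻¹ (hX.iso _ (X.inv_mem hx)) fun u => ⟨P *ᵥ u, by
      rw [← hP, inv_apply_apply]⟩
  obtain ⟨hq, hqM⟩ := sie_move (S := S) (a := a) hvv hz
  set q := rtU (a := a) (S.D.sie hvv hz)
  set q' := x * q * x⁻¹
  have hq'X : q' ∈ X := X.mul_mem (X.mul_mem hx (hX.rt_sie hvv hz)) (X.inv_mem hx)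
  have hfix : ∀ u, (q' : Module.End F (T F a b)) (pure v u) = pure v u := fun u => by
    rw [Units.val_mul, Units.val_mul, Module.End.mul_apply, Module.End.mul_apply, hPinv, hq.fix, ← hPinv,
      apply_inv_apply]
  have hmv : ∀ n, ev (S.D.B v) n = 0 → (q' : Module.End F (T F a b)) n =
      n + pure v (P *ᵥ ev (S.D.B z) (((x⁻¹ : (Module.End F (T F a b))ˣ) : Module.End F (T F a b)) n)) :=
    fun n hn => by
      rw [Units.val_mul, Units.val_mul, Module.End.mul_apply, Module.End.mul_apply,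
        move_apply hqM (hperp' n hn), Matrix.one_mulVec, map_add, apply_inv_apply, hP]
  have hrad : S.Rad v q' := ⟨hX.iso _ hq'X, hfix, fun w u hw =>
    ⟨_, hmv _ (by rw [ev_pure, hw, zero_smul])⟩⟩
  obtain ⟨Q, hQv, hQ⟩ := IsTens.exists_rt hd.a_pos (hX.isTens_of_rad hnr hd hv hvv hq'X hrad) hv hfix
  obtain ⟨y, hy⟩ := S.D.exists_one hv
  set ψ : Dual F (Fin b → F) := S.D.B.flip y
  have hψv : ψ v = 1 := hy
  let φ : Dual F (Fin b → F) := ψ ∘ₗ (Q - 1).mulVecLin
  obtain ⟨z', hz'⟩ := S.D.rep φ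
  have hvz' : S.D.B v z' = 0 := S.D.comm (by
    rw [hz']
    show ψ ((Q - 1) *ᵥ v) = 0
    rw [Matrix.sub_mulVec, Matrix.one_mulVec, hQv, sub_self, map_zero])
  refine ⟨z', hvz', fun n hn => ?_⟩
  have hxn : ev (S.D.B v) ((x : Module.End F (T F a b)) n) = 0 :=
    hperp x (hX.iso x hx) (fun u => ⟨P' *ᵥ u, by rw [hP, Matrix.mulVec_mulVec, hPP', Matrix.one_mulVec]⟩) n hn
  have hM' : S.Move v q' (fun w => S.D.B z' w • (1 : Matrix (Fin a) (Fin a) F)) := fun w u hw => by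
    obtain ⟨t, ht⟩ := hrad.move w u hw
    rw [ht]
    congr 2
    have h1 := congrArg (ev ψ) ht
    rw [hQ, rt_pure, map_add, ev_pure, ev_pure, ev_pure, hψv, one_smul] at h1
    rw [Matrix.smul_mulVec, Matrix.one_mulVec, hz']
    show t = ψ ((Q - 1) *ᵥ w) • u
    rw [Matrix.sub_mulVec, Matrix.one_mulVec, map_sub, sub_smul, h1, add_sub_cancel_left]
  have h1 := hmv _ hxn
  rw [move_apply hM' hxn, Matrix.one_mulVec, add_right_inj, inv_apply_apply] at h1
  exact pure_injective hv h1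

/-- An element mapping `A ⊗ v` onto itself is a tensor. -/
theorem Over.isTens_of_stab [Finite F] (hv : v ≠ 0) (hvv : S.D.B v v = 0) {x : (Module.End F (T F a b))ˣ}
    (hx : x ∈ X) (h : ∀ u, (x : Module.End F (T F a b)) (pure v u) ∈ LinearMap.range (pure v)) : IsTens x := by
  have ha := hd.a_pos
  obtain ⟨v1, -, hv11, hvv1⟩ := (S.D.ndOn_top).partner S.D (x := v) trivial hv hvv
  have hv1v : S.D.B v1 v = S.D.s := by rw [S.D.symm, hvv1, mul_one]
  set ψ : Dual F (Fin b → F) := S.D.B.flip v1 with hψ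
  have hψv : ψ v = 1 := hvv1
  set P := LinearMap.toMatrix' (ev ψ ∘ₗ (x : Module.End F (T F a b)) ∘ₗ pure v)
  have hP : ∀ u, (x : Module.End F (T F a b)) (pure v u) = pure v (P *ᵥ u) := fun u => by
    obtain ⟨z, hz⟩ := h u
    rw [LinearMap.toMatrix'_mulVec, LinearMap.comp_apply, LinearMap.comp_apply, ← hz, ev_pure, hψv, one_smul]
  have hPu : IsUnit P := Matrix.mulVec_injective_iff_isUnit.1 fun u u' huu => pure_injective hv
    (units_injective x (by rw [hP, hP]; exact congrArg _ huu))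
  obtain ⟨Pu, hPval⟩ := hPu
  have hPP : P * (↑Pu⁻¹ : Matrix (Fin a) (Fin a) F) = 1 := by rw [← hPval, Units.mul_inv]
  have hPP' : (↑Pu⁻¹ : Matrix (Fin a) (Fin a) F) * P = 1 := by rw [← hPval, Units.inv_mul]
  have hPinv : ∀ u, ((x⁻¹ : (Module.End F (T F a b))ˣ) : Module.End F (T F a b)) (pure v u) =
      pure v ((↑Pu⁻¹ : Matrix (Fin a) (Fin a) F) *ᵥ u) := fun u => units_injective x (by
    rw [apply_inv_apply, hP, Matrix.mulVec_mulVec, hPP, Matrix.one_mulVec])
  have hperp : ∀ n, ev (S.D.B v) n = 0 → ev (S.D.B v) ((x : Module.End F (T F a b)) n) = 0 := fun n hn =>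
    S.ev_eq_zero fun u => by
      have h1 := hX.iso x hx (pure v ((↑Pu⁻¹ : Matrix (Fin a) (Fin a) F) *ᵥ u)) n
      rw [hP, Matrix.mulVec_mulVec, hPP, Matrix.one_mulVec, Bt_pure S v _ n, hn, map_zero] at h1
      exact h1
  -- the map on the second factor
  let u₀ : Fin a → F := Pi.single ⟨0, ha⟩ 1
  have hu₀ : P *ᵥ u₀ ≠ 0 := fun h0 => by
    have : u₀ = 0 := by rw [← Matrix.one_mulVec u₀, ← hPP', ← Matrix.mulVec_mulVec, h0, Matrix.mulVec_zero]
    simpa [u₀] using congrFun this ⟨0, ha⟩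
  obtain ⟨i₀, hi₀⟩ := Function.ne_iff.1 hu₀
  let θ : (Fin b → F) →ₗ[F] (Fin b → F) :=
    { toFun := fun w => ((P *ᵥ u₀) i₀)⁻¹ • ((x : Module.End F (T F a b)) (pure w u₀)) i₀
      map_add' := fun w w' => by rw [pure_add, map_add, Pi.add_apply, smul_add]
      map_smul' := fun c w => by rw [pure_smul, map_smul, Pi.smul_apply, smul_comm, RingHom.id_apply] }
  have hθv : θ v = v := by
    show ((P *ᵥ u₀) i₀)⁻¹ • ((x : Module.End F (T F a b)) (pure v u₀)) i₀ = v
    rw [hP, pure_apply, inv_smul_smul₀ hi₀]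
  have hθperp : ∀ w, S.D.B v w = 0 → S.D.B v (θ w) = 0 := fun w hw => by
    have := congrFun (hperp (pure w u₀) (by rw [ev_pure, hw, zero_smul])) i₀
    rw [ev_apply, Pi.zero_apply] at this
    show S.D.B v (((P *ᵥ u₀) i₀)⁻¹ • ((x : Module.End F (T F a b)) (pure w u₀)) i₀) = 0
    rw [map_smul, this, smul_zero]
  have hmod : ∀ w u, S.D.B v w = 0 →
      (x : Module.End F (T F a b)) (pure w u) - pure (θ w) (P *ᵥ u) ∈ LinearMap.range (pure v) := by
    intro w u hw
    refine mem_range_of_orth (S := S) fun y u' hy => ?_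
    obtain ⟨z, hz, hzy⟩ := hX.exists_pull hnr hd hv hvv (X.inv_mem hx) hPP' hPinv hy
    have key : ∀ u, ev (S.D.B y) ((x : Module.End F (T F a b)) (pure w u)) = S.D.B z w • (P *ᵥ u) := fun u => by
      have h1 := hzy _ (hperp (pure w u) (by rw [ev_pure, hw, zero_smul]))
      rw [inv_apply_apply, ev_pure] at h1
      rw [← Matrix.mulVec_smul, h1, Matrix.mulVec_mulVec, hPP, Matrix.one_mulVec]
    have hyθ : S.D.B y (θ w) = S.D.B z w := by
      show S.D.B y (((P *ᵥ u₀) i₀)⁻¹ • ((x : Module.End F (T F a b)) (pure w u₀)) i₀) = _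
      have := congrFun (key u₀) i₀
      rw [ev_apply, Pi.smul_apply, smul_eq_mul] at this
      rw [map_smul, this, smul_eq_mul, mul_comm (S.D.B z w), inv_mul_cancel_left₀ hi₀]
    rw [Bt_pure, map_sub, key, ev_pure, hyθ, sub_self, map_zero]
  have hiso : ∀ w w' u u', S.D.B v w = 0 → S.D.B v w' = 0 →
      S.D.B (θ w) (θ w') * S.A.B (P *ᵥ u) (P *ᵥ u') = S.D.B w w' * S.A.B u u' := by
    intro w w' u u' hw hw'
    obtain ⟨z, hz⟩ := hmod w u hw
    obtain ⟨z', hz'⟩ := hmod w' u' hw'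
    have h1 := hX.iso x hx (pure w u) (pure w' u')
    rw [eq_add_of_sub_eq' hz.symm, eq_add_of_sub_eq' hz'.symm] at h1
    simpa only [map_add, LinearMap.add_apply, Bt_pure_pure, hθperp w hw, hθperp w' hw', S.D.comm (hθperp w hw),
      hvv, zero_mul, add_zero] using h1
  set U := S.D.cut ⊤ v v1
  have hU : S.D.NdOn U := (S.D.ndOn_top).cut_pair S.D trivial trivial hvv hv11 hvv1
  have hdU : b ≤ finrank F U + 2 := by
    have := S.D.finrank_cut ⊤ v v1
    rwa [Bil.finrank_top_eq] at this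
  obtain ⟨w₁, hw₁, hw₁0⟩ := Submodule.exists_mem_ne_zero_of_ne_bot (Bil.ne_bot_of_pos
    (U := U) (by have := hd.four; omega))
  obtain ⟨w₂, hw₂, hw12⟩ := hU.exists_one S.D hw₁ hw₁0
  obtain ⟨e₁, he₁⟩ := S.A.exists_one (x := u₀) (by simp [u₀])
  set κ := S.A.B (P *ᵥ u₀) (P *ᵥ e₁)
  have hκ0 := hiso w₁ w₂ u₀ e₁ (S.D.mem_cut.1 hw₁).2.1 (S.D.mem_cut.1 hw₂).2.1
  rw [hw12, he₁, one_mul] at hκ0
  have hκ : κ ≠ 0 := right_ne_zero_of_mul_eq_one hκ0
  have hθs : ∀ w w', S.D.B v w = 0 → S.D.B v w' = 0 → S.D.B (θ w) (θ w') = κ⁻¹ * S.D.B w w' := fun w w' hw hw' => by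
    have := hiso w w' u₀ e₁ hw hw'
    rw [he₁, mul_one] at this
    rw [← this, mul_comm (S.D.B (θ w) (θ w')), inv_mul_cancel_left₀ hκ]
  have hPs : ∀ u u', S.A.B (P *ᵥ u) (P *ᵥ u') = κ * S.A.B u u' := fun u u' => by
    have h1 := hiso w₁ w₂ u u' (S.D.mem_cut.1 hw₁).2.1 (S.D.mem_cut.1 hw₂).2.1
    rw [hw12, one_mul] at h1
    rw [← h1, ← mul_assoc, mul_comm κ, hκ0, one_mul]
  let cL : (Fin b → F) →ₗ[F] (Fin b → F) :=
    LinearMap.id - (S.D.B v).smulRight v1 - (S.D.s • S.D.B v1).smulRight v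
  let θ' : (Fin b → F) →ₗ[F] (Fin b → F) := θ - (S.D.s • (S.D.B v1 ∘ₗ θ)).smulRight v
  let Qh : (Fin b → F) →ₗ[F] (Fin b → F) :=
    (S.D.s • S.D.B v1).smulRight v + (κ⁻¹ • S.D.B v).smulRight v1 + θ' ∘ₗ cL
  have hcL : ∀ y, cL y ∈ U := fun y => by
    have := S.D.proj_mem (U := ⊤) (z := y) (x := v) (y := v1) trivial trivial trivial hvv hv11 hvv1
    exact this
  have hθ' : ∀ c ∈ U, S.D.B v (θ' c) = 0 ∧ S.D.B v1 (θ' c) = 0 ∧
      ∀ c' ∈ U, S.D.B (θ' c) (θ' c') = κ⁻¹ * S.D.B c c' := fun c hc => by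
    have h1 := hθperp c (S.D.mem_cut.1 hc).2.1
    refine ⟨?_, ?_, fun c' hc' => ?_⟩
    · simp [θ', h1, hvv]
    · simp [θ', hv1v]
      linear_combination (-(S.D.B v1 (θ c))) * S.D.s_mul_s
    · have h2 := hθperp c' (S.D.mem_cut.1 hc').2.1
      simp [θ', h1, h2, S.D.comm h1, hvv, hθs c c' (S.D.mem_cut.1 hc).2.1 (S.D.mem_cut.1 hc').2.1]
  have hQs : ∀ y y', S.D.B (Qh y) (Qh y') = κ⁻¹ * S.D.B y y' := fun y y' => by
    obtain ⟨-, ey1, ey2⟩ := S.D.mem_cut.1 (hcL y)
    obtain ⟨-, ey1', ey2'⟩ := S.D.mem_cut.1 (hcL y')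
    obtain ⟨f1, f2, f3⟩ := hθ' _ (hcL y)
    obtain ⟨f1', f2', -⟩ := hθ' _ (hcL y')
    have hy : y = (S.D.s * S.D.B v1 y) • v + S.D.B v y • v1 + cL y := by simp [cL]; abel
    have hy' : y' = (S.D.s * S.D.B v1 y') • v + S.D.B v y' • v1 + cL y' := by simp [cL]; abel
    conv_rhs => rw [hy, hy']
    simp only [Qh, LinearMap.add_apply, LinearMap.smulRight_apply, LinearMap.comp_apply, LinearMap.smul_apply,
      smul_eq_mul, map_add, map_smul, hvv, hv11, hvv1, hv1v, f1, f2, f1', f2', S.D.comm f1, S.D.comm f2,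
      ey1', ey2', S.D.comm ey1, S.D.comm ey2, f3 _ (hcL y')]
    ring
  have hQu : IsUnit (LinearMap.toMatrix' Qh) := Matrix.mulVec_injective_iff_isUnit.1
    ((injective_iff_map_eq_zero (Matrix.mulVecLin (LinearMap.toMatrix' Qh))).2 fun y hy => S.D.nd y fun y' => by
      rw [Matrix.mulVecLin_apply, LinearMap.toMatrix'_mulVec] at hy
      have := hQs y y'
      rw [hy, map_zero, LinearMap.zero_apply, eq_comm, mul_eq_zero] at this
      exact this.resolve_left (inv_ne_zero hκ))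
  obtain ⟨Qu, hQval⟩ := hQu
  obtain ⟨k, hk⟩ : ∃ k : (Module.End F (T F a b))ˣ, k = ltU Pu * rtU Qu := ⟨_, rfl⟩
  have hkt : IsTens k := hk ▸ (isTens_ltU Pu).mul (isTens_rtU Qu)
  have hkval : ∀ w u, (k : Module.End F (T F a b)) (pure w u) = pure (Qh w) (P *ᵥ u) := fun w u => by
    rw [hk, Units.val_mul, ltU_val, rtU_val, lt_rt_pure, hQval, LinearMap.toMatrix'_mulVec, hPval]
  have hki : S.Iso (k : Module.End F (T F a b)) := by
    have : S.Bt.compl₁₂ (k : Module.End F (T F a b)) (k : Module.End F (T F a b)) = S.Bt :=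
      ext_pure fun w u => ext_pure fun w' u' => by
        rw [LinearMap.compl₁₂_apply, hkval, hkval, Bt_pure_pure, Bt_pure_pure, hQs, hPs]
        field_simp
    exact fun m n => by rw [← LinearMap.compl₁₂_apply (g := (k : Module.End F (T F a b))), this]
  have hQhv : Qh v = v := by
    have hc : cL v = 0 := by simp [cL, hvv, hv1v, S.D.s_mul_s]
    simp [Qh, hc, hvv, hv1v, S.D.s_mul_s]
  have hkv : ∀ u, (k : Module.End F (T F a b)) (pure v u) = pure v (P *ᵥ u) := fun u => by rw [hkval, hQhv]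
  set r := k⁻¹ * x with hr
  have hrr : S.Rad v r := by
    refine ⟨by rw [hr, Units.val_mul]; exact hki.inv.mul (hX.iso x hx), fun u => units_injective k ?_,
      fun w u hw => ?_⟩
    · rw [hr, Units.val_mul, Module.End.mul_apply, apply_inv_apply, hP, hkv]
    obtain ⟨z, hz⟩ := hmod w u hw
    have hθw : Qh w = θ w - (S.D.s * S.D.B v1 (θ (cL w))) • v := by
      have hc : cL w = w - (S.D.s * S.D.B v1 w) • v := by simp [cL, hw]
      simp only [Qh, θ', LinearMap.add_apply, LinearMap.smulRight_apply, LinearMap.comp_apply, LinearMap.smul_apply,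
        LinearMap.sub_apply, smul_eq_mul, hw]
      conv_lhs => rw [hc]
      conv_rhs => rw [hc]
      rw [map_sub, map_smul, hθv]
      module
    refine ⟨(↑Pu⁻¹ : Matrix (Fin a) (Fin a) F) *ᵥ (z + (S.D.s * S.D.B v1 (θ (cL w))) • (P *ᵥ u)),
      units_injective k ?_⟩
    rw [hr, Units.val_mul, Module.End.mul_apply, apply_inv_apply, map_add, hkv, Matrix.mulVec_mulVec, hPP,
      Matrix.one_mulVec, hkval, hθw, map_add, pure_sub, pure_smul', hz]
    abel
  have hkX : k ∈ X := by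
    have hkx : k = x * r⁻¹ := by rw [hr]; group
    rw [hkx]
    exact hX.tens x hx r⁻¹ hrr.inv.iso hrr.inv.sub_cube (hkx ▸ hkt)
  rw [show x = k * r by rw [hr]; group]
  exact hkt.mul
    (hX.isTens_of_rad hnr hd hv hvv (X.mul_mem (X.inv_mem hkX) hx) hrr)

/-- An element mapping some `A ⊗ v` onto another one is a tensor. -/
theorem Over.isTens_of_point [Finite F] (hv : v ≠ 0) (hvv : S.D.B v v = 0) {v' : Fin b → F}
    {x : (Module.End F (T F a b))ˣ} (hx : x ∈ X)
    (h : ∀ u, (x : Module.End F (T F a b)) (pure v u) ∈ LinearMap.range (pure v')) : IsTens x := by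
  have ha := hd.a_pos
  let u₀ : Fin a → F := Pi.single ⟨0, ha⟩ 1
  have hu₀ : u₀ ≠ 0 := by simp [u₀]
  have hv' : v' ≠ 0 := fun h0 => by
    obtain ⟨z, hz⟩ := h u₀
    rw [h0, pure_zero, ← map_zero (x : Module.End F (T F a b))] at hz
    exact hu₀ ((pure_eq_zero (units_injective x hz).symm).resolve_left hv)
  let φ : (Fin a → F) →ₗ[F] T F a b := (x : Module.End F (T F a b)) ∘ₗ pure v
  have hrange : LinearMap.range φ = LinearMap.range (pure v') := by
    refine Submodule.eq_of_le_of_finrank_eq (by rintro _ ⟨u, rfl⟩; exact h u) ?_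
    have hφ : Function.Injective φ := (units_injective x).comp (pure_injective hv)
    rw [LinearMap.finrank_range_of_inj hφ, LinearMap.finrank_range_of_inj (pure_injective hv')]
  have hvv' : S.D.B v' v' = 0 := by
    obtain ⟨e₁, he₁⟩ := S.A.exists_one hu₀
    obtain ⟨p, hp⟩ := hrange.ge ⟨u₀, rfl⟩
    obtain ⟨p', hp'⟩ := hrange.ge ⟨e₁, rfl⟩
    have h1 := hX.iso x hx (pure v p) (pure v p')
    rw [show (x : Module.End F (T F a b)) (pure v p) = _ from hp, show (x : Module.End F (T F a b)) (pure v p') = _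
      from hp', Bt_pure_pure, Bt_pure_pure, he₁, hvv, zero_mul, mul_one] at h1
    exact h1
  obtain ⟨θ, hθ, hθv⟩ := S.D.moves (fun _ => hd.four) hv' hv hvv' hvv
  have h1 : IsTens (rtU θ * x) := hX.isTens_of_stab hnr hd hv hvv (X.mul_mem (hX.rt_grp hθ) hx) fun u => by
    obtain ⟨z, hz⟩ := h u
    exact ⟨z, by rw [Units.val_mul, Module.End.mul_apply, ← hz, rtU_val, rt_pure, hθv]⟩
  rw [show x = (rtU θ)⁻¹ * (rtU θ * x) by group]
  exact (isTens_rtU θ).inv.mul h1

/-- An element fixing `A ⊗ v` pointwise acts on the second factor alone. -/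
theorem Over.exists_rt_of_fix [Finite F] (hv : v ≠ 0) (hvv : S.D.B v v = 0) {x : (Module.End F (T F a b))ˣ}
    (hx : x ∈ X) (h : ∀ u, (x : Module.End F (T F a b)) (pure v u) = pure v u) :
    ∃ Q : Matrix (Fin b) (Fin b) F, Q *ᵥ v = v ∧ (x : Module.End F (T F a b)) = rt Q :=
  IsTens.exists_rt hd.a_pos (hX.isTens_of_point hnr hd hv hvv (v' := v) hx fun u => ⟨u, (h u).symm⟩) hv h

/-- An element conjugating a Siegel transformation into the second factor is a tensor. -/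
theorem Over.isTens_of_siegel [Finite F] (hv : v ≠ 0) (hvv : S.D.B v v = 0) {z : Fin b → F}
    (hvz : S.D.B v z = 0) (hzz : S.D.B z z ≠ 0) {x : (Module.End F (T F a b))ˣ} (hx : x ∈ X)
    {Q : Matrix (Fin b) (Fin b) F}
    (h : ((x * rtU (S.D.sie hvv hvz) * x⁻¹ : (Module.End F (T F a b))ˣ) : Module.End F (T F a b)) = rt Q) :
    IsTens x := by
  have ha := hd.a_pos
  set D₀ := (Q - 1) * (Q - 1)
  set k := -(S.D.s * S.D.B z z)
  have hk : k ≠ 0 := neg_ne_zero.2 (mul_ne_zero S.D.s_ne hzz)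
  have h1 : rt Q * (x : Module.End F (T F a b)) = (x : Module.End F (T F a b)) * rt (S.D.sieM v z) := by
    rw [← h, ← Units.val_mul]
    simp only [Units.val_mul, mul_assoc, Units.inv_mul, mul_one, rtU_val, Bil.sie_val]
  have h2 : rt (Q - 1) * (x : Module.End F (T F a b)) = (x : Module.End F (T F a b)) * rt (S.D.sieM v z - 1) := by
    rw [rt_sub, rt_sub, rt_one, sub_mul, mul_sub, h1, one_mul, mul_one]
  have h3 : rt D₀ * (x : Module.End F (T F a b)) = (x : Module.End F (T F a b)) * rt (k • S.D.tau v v) := by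
    rw [← S.D.N_sq hvv hvz, ← S.D.sieM_sub_sq hvv hvz, rt_mul, rt_mul, mul_assoc, h2, ← mul_assoc, h2,
      mul_assoc]
  obtain ⟨y, hy⟩ := S.D.exists_one hv
  have hkey : ∀ m, rt D₀ ((x : Module.End F (T F a b)) m) =
      (x : Module.End F (T F a b)) (pure v (k • ev (S.D.B v) m)) := fun m => by
    rw [← Module.End.mul_apply, h3, Module.End.mul_apply, rt_smul, ← te_one_eq_rt, LinearMap.smul_apply, te_apply,
      Matrix.one_mulVec, ← map_smul]
  have hsurj : ∀ u, (x : Module.End F (T F a b)) (pure v u) =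
      rt D₀ ((x : Module.End F (T F a b)) (pure y (k⁻¹ • u))) := fun u => by
    rw [hkey, ev_pure, hy, one_smul, smul_inv_smul₀ hk]
  let φ : (Fin a → F) →ₗ[F] T F a b := (x : Module.End F (T F a b)) ∘ₗ pure v
  have hin : ∀ c u, pure (D₀ *ᵥ c) u ∈ LinearMap.range φ := fun c u => by
    refine ⟨k • ev (S.D.B v) (((x⁻¹ : (Module.End F (T F a b))ˣ) : Module.End F (T F a b)) (pure c u)), ?_⟩
    rw [← rt_pure]
    conv_rhs => rw [← apply_inv_apply x (pure c u), hkey]
    rfl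
  obtain ⟨c, hc⟩ : ∃ c, D₀ *ᵥ c ≠ 0 := by
    by_contra hc
    push Not at hc
    have h0 : D₀ = 0 := Matrix.ext_iff_mulVec.2 fun c => by rw [hc, Matrix.zero_mulVec]
    have := hsurj (Pi.single ⟨0, ha⟩ 1)
    rw [h0, rt_zero, LinearMap.zero_apply, ← map_zero (x : Module.End F (T F a b))] at this
    exact (pure_eq_zero (units_injective x this)).elim hv (by simp)
  refine hX.isTens_of_point hnr hd hv hvv (v' := D₀ *ᵥ c) hx fun u => ?_
  rw [hsurj]
  refine mem_range_pure fun ψ hψ => funext fun i => ?_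
  have hmem : D₀ *ᵥ (((x : Module.End F (T F a b)) (pure y (k⁻¹ • u))) i) ∈
      Submodule.span F {D₀ *ᵥ c} := by
    by_contra hn
    exact not_two ha hc hn φ (hin c) (hin _)
  obtain ⟨t, ht⟩ := Submodule.mem_span_singleton.1 hmem
  rw [ev_apply, rt_apply, ← ht, map_smul, hψ, smul_zero, Pi.zero_apply]

/-- An element whose image of `A ⊗ ⟨v, w⟩` contains some `A ⊗ v'` is a tensor. -/
theorem Over.isTens_of_line [Finite F] (hv : v ≠ 0) (hvv : S.D.B v v = 0) {w z : Fin b → F}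
    (hvw : S.D.B v w = 0) (hvz : S.D.B v z = 0) (hwz : S.D.B w z = 0) (hzz : S.D.B z z ≠ 0) {v' : Fin b → F}
    (hv' : v' ≠ 0) (hvv' : S.D.B v' v' = 0) {x : (Module.End F (T F a b))ˣ} (hx : x ∈ X)
    (h : ∀ u, ∃ u₁ u₂, (x : Module.End F (T F a b)) (pure v u₁ + pure w u₂) = pure v' u) : IsTens x := by
  set q := rtU (a := a) (S.D.sie hvv hvz)
  have hfix : ∀ u₁ u₂, (q : Module.End F (T F a b)) (pure v u₁ + pure w u₂) = pure v u₁ + pure w u₂ :=
    fun u₁ u₂ => by
      rw [rtU_val, Bil.sie_val, map_add, rt_pure, rt_pure, S.D.sieM_self hvv hvz,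
        S.D.sieM_fix hvv hvz hvw (S.D.comm hwz)]
  obtain ⟨Q, -, hQ⟩ := hX.exists_rt_of_fix hnr hd hv' hvv'
    (X.mul_mem (X.mul_mem hx (hX.rt_sie hvv hvz)) (X.inv_mem hx)) fun u => by
      obtain ⟨u₁, u₂, hu⟩ := h u
      rw [Units.val_mul, Units.val_mul, Module.End.mul_apply, Module.End.mul_apply, ← hu, inv_apply_apply, hfix]
  exact hX.isTens_of_siegel hnr hd hv hvv hvz hzz hx hQ

end Sys

end Cfsg.Agent.H24.Tensor
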