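import Cfsg.Agent.H24.Tensor.Geom

/-!
Spaces of matrices invariant under conjugation by the Siegel transformations of a form.
-/

set_option autoImplicit false

namespace Cfsg.Agent.H24.Tensor

open Module Matrix

namespace Bil

variable {F : Type*} [Field F] {n : ℕ} (β : Bil F n)

/-- `W` is invariant under conjugation by Siegel transformations. -/
def Inv (W : Submodule F (Matrix (Fin n) (Fin n) F)) : Prop :=
  ∀ x z, β.B x x = 0 → β.B x z = 0 → ∀ M ∈ W, β.sieM x z * M * β.sieM x (-z) ∈ W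

/-- A matrix with every vector an eigenvector is scalar. -/
theorem scalar_of_eigen' (X : Matrix (Fin n) (Fin n) F) (h : ∀ c, X *ᵥ c ∈ Submodule.span F {c}) :
    ∃ t : F, X = t • 1 := by
  choose r hr using fun c => Submodule.mem_span_singleton.1 (h c)
  rcases isEmpty_or_nonempty (Fin n) with he | ⟨⟨i₀⟩⟩
  · exact ⟨0, Matrix.ext fun i => isEmptyElim i⟩
  have hcol : ∀ i j, X i j = if i = j then r (Pi.single j 1) else 0 := fun i j => by
    have := congrFun (hr (Pi.single j 1)) i
    simp only [mulVec_single_one, Pi.smul_apply, Pi.single_apply, smul_eq_mul, mul_ite, mul_one, mul_zero,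
      col_apply] at this
    exact this.symm
  refine ⟨r (Pi.single i₀ 1), Matrix.ext fun i j => ?_⟩
  rw [hcol i j, Matrix.smul_apply, Matrix.one_apply, smul_eq_mul, mul_ite, mul_one, mul_zero]
  split_ifs with hij
  · subst hij
    rcases eq_or_ne i i₀ with rfl | hi
    · rfl
    have h1 := congrFun (hr (Pi.single i 1 + Pi.single i₀ 1)) i
    have h2 := congrFun (hr (Pi.single i 1 + Pi.single i₀ 1)) i₀
    simp [mulVec_add, hcol, hi, hi.symm] at h1 h2
    rw [← h1, ← h2]
  · rfl

variable {W : Submodule F (Matrix (Fin n) (Fin n) F)} (hW : β.Inv W)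
include hW

/-- The even part of a conjugate. -/
theorem Inv.E_mem {x z : Fin n → F} (hx : β.B x x = 0) (hz : β.B x z = 0) {M : Matrix (Fin n) (Fin n) F}
    (hM : M ∈ W) :
    (-(β.s * β.B z z)) • (β.tau x (β.adj M *ᵥ x) + β.tau (M *ᵥ x) x) - (2 : F) • (β.N x z * M * β.N x z) +
      ((β.B z z * β.B z z) / 2 * β.B x (M *ᵥ x)) • β.tau x x ∈ W := by
  have h1 := hW x z hx hz M hM
  have h2 := hW x (-z) hx (by rw [map_neg, hz, neg_zero]) M hM
  rw [neg_neg] at h2
  have h3 := W.sub_mem (W.add_mem h1 h2) (W.smul_mem (2 : F) hM)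
  refine (congrArg (· ∈ W) ?_).mp h3
  have e1 : β.tau x x * M = β.tau x (β.adj M *ᵥ x) := β.tau_mul M x x
  have e2 : M * β.tau x x = β.tau (M *ᵥ x) x := β.mul_tau M x x
  have e3 : β.tau x x * M * β.tau x x = β.B x (M *ᵥ x) • β.tau x x := by
    rw [e1, β.tau_mul_tau, ← β.adj_spec']
  set N := β.N x z
  have hsq : N * N = (-(β.s * β.B z z)) • β.tau x x := β.N_sq hx hz
  simp only [sieM, N_neg, neg_mul_neg]
  rw [hsq, smul_smul, ← e1, ← e2]
  have expand : ∀ (N M Q : Matrix (Fin n) (Fin n) F), (1 + N + Q) * M * (1 + -N + Q) + (1 + -N + Q) * M * (1 + N + Q)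
      - (2 : F) • M = (2 : F) • (Q * M + M * Q) - (2 : F) • (N * M * N) + (2 : F) • (Q * M * Q) := fun N M Q => by
    simp only [add_mul, mul_add, neg_mul, mul_neg, one_mul, mul_one, two_smul]
    abel
  rw [expand, smul_mul_assoc, smul_mul_assoc, mul_smul_comm, mul_smul_comm, e3, ← smul_add, smul_smul, smul_smul,
    smul_smul, smul_smul]
  have := β.two
  congr 3
  · field_simp
  · field_simp
    linear_combination (β.B z z * β.B z z) * β.s_mul_s

omit hW in
/-- A self-adjoint non-scalar matrix is non-zero on the cone. -/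
theorem exists_cone [Finite F] (hs : β.s = 1) (h3 : 3 ≤ n) (hq : 4 ≤ n ∨ ∃ t : F, t ≠ 0 ∧ t * t ≠ 1)
    {M : Matrix (Fin n) (Fin n) F} (hM : β.adj M = M) (hns : ∀ t : F, M ≠ t • 1) :
    ∃ x, x ≠ 0 ∧ β.B x x = 0 ∧ β.B x (M *ᵥ x) ≠ 0 := by
  by_contra hc
  push Not at hc
  have hφ : ∀ x, β.B x x = 0 → β.B x (M *ᵥ x) = 0 := fun x hx => by
    rcases eq_or_ne x 0 with rfl | h0
    · simp
    · exact hc x h0 hx
  have hsym : ∀ u w, β.B u (M *ᵥ w) = β.B w (M *ᵥ u) := fun u w => by
    rw [β.adj_spec', hM, β.symm' hs]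
  have htwo := β.two
  have hpair : ∀ x y, β.B x x = 0 → β.B y y = 0 → β.B x y = 1 → ∀ z ∈ β.cut ⊤ x y,
      β.B z (M *ᵥ z) = β.B z z * β.B x (M *ᵥ y) ∧ β.B x (M *ᵥ z) = 0 := by
    intro x y hxx hyy hxy
    have hR : ∀ z ∈ β.cut ⊤ x y, ∀ l : F, l ≠ 0 →
        2 * (l * l) * β.B x (M *ᵥ z) = β.B z z * β.B y (M *ᵥ z) ∧
          β.B z (M *ᵥ z) = β.B z z * β.B x (M *ᵥ y) := by
      intro z hz l hl
      obtain ⟨-, hxz, hyz⟩ := β.mem_cut.1 hz
      have hcone : ∀ l : F, l ≠ 0 → β.B (l • x - (β.B z z / (2 * l)) • y + z)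
          (M *ᵥ (l • x - (β.B z z / (2 * l)) • y + z)) = 0 := fun l hl => by
        refine hφ _ ?_
        simp only [map_sub, map_add, map_smul, LinearMap.sub_apply, LinearMap.add_apply, LinearMap.smul_apply,
          smul_eq_mul, hxx, hyy, hxy, hxz, hyz, β.comm hxz, β.comm hyz, β.symm' hs x y]
        field_simp
        ring
      have e1 := hcone l hl
      have e2 := hcone (-l) (neg_ne_zero.2 hl)
      simp only [Matrix.mulVec_sub, Matrix.mulVec_add, Matrix.mulVec_smul, map_sub, map_add, map_smul,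
        LinearMap.sub_apply, LinearMap.add_apply, LinearMap.smul_apply, smul_eq_mul, hφ x hxx, hφ y hyy,
        hsym z x, hsym z y, hsym y x] at e1 e2
      field_simp at e1 e2
      have h8 : (2 : F) * 2 * 2 ≠ 0 := mul_ne_zero (mul_ne_zero htwo htwo) htwo
      refine ⟨mul_left_cancel₀ (mul_ne_zero h8 hl) ?_, mul_left_cancel₀ (mul_ne_zero h8 (mul_ne_zero hl hl)) ?_⟩
      · linear_combination e1 - e2
      · linear_combination e1 + e2
    intro z hz
    refine ⟨(hR z hz 1 one_ne_zero).2, ?_⟩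
    have R1 : ∀ z ∈ β.cut ⊤ x y, 2 * β.B x (M *ᵥ z) = β.B z z * β.B y (M *ᵥ z) := fun z hz => by
      simpa using (hR z hz 1 one_ne_zero).1
    rcases hq with h4 | ⟨t, ht, ht1⟩
    swap
    · have e1 := (hR z hz t ht).1
      have e2 := R1 z hz
      exact (mul_eq_zero.1 (show (2 * (t * t - 1)) * β.B x (M *ᵥ z) = 0 by linear_combination e1 - e2)).resolve_left
        (mul_ne_zero htwo (sub_ne_zero.2 ht1))
    rcases eq_or_ne (β.B z z) 0 with hzz | hzz
    · have := R1 z hz
      rw [hzz, zero_mul] at this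
      exact (mul_eq_zero.1 this).resolve_left htwo
    have hU := (β.ndOn_top).cut_pair β (x := x) (y := y) trivial trivial hxx hyy hxy
    have hd := β.finrank_cut ⊤ x y
    rw [finrank_top_eq] at hd
    have hd' := finrank_inf_ker_add_one (β.cut ⊤ x y) (β.B z)
    obtain ⟨w, hw, hww⟩ := (hU.cut_aniso β hs hz hzz).aniso β hs (ne_bot_of_pos (by omega))
    have hzw : β.B z w = 0 := LinearMap.mem_ker.1 hw.2
    have ep := R1 _ ((β.cut ⊤ x y).add_mem hz hw.1)
    have em := R1 _ ((β.cut ⊤ x y).sub_mem hz hw.1)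
    have ez := R1 z hz
    have ew := R1 w hw.1
    simp only [Matrix.mulVec_add, Matrix.mulVec_sub, map_add, map_sub, LinearMap.add_apply, LinearMap.sub_apply,
      hzw, β.comm hzw] at ep em
    have hg : β.B y (M *ᵥ z) = 0 := (mul_eq_zero.1
      (show (2 * β.B w w) * β.B y (M *ᵥ z) = 0 by linear_combination -ep - em + 2 * ez)).resolve_left
      (mul_ne_zero htwo hww)
    rw [hg, mul_zero] at ez
    exact (mul_eq_zero.1 ez).resolve_left htwo
  obtain ⟨x, -, hx0, hxx⟩ := (β.ndOn_top).isotropic β hs (U := ⊤) (by rw [finrank_top_eq]; omega)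
  obtain ⟨y, -, hyy, hxy⟩ := (β.ndOn_top).partner β (x := x) trivial hx0 hxx
  have hyx : β.B y x = 1 := by rw [β.symm' hs x y, hxy]
  set h := β.B x (M *ᵥ y)
  have hq' : ∀ u, β.B u (M *ᵥ u) = h * β.B u u := fun u => by
    set z := u - β.B x u • y - (β.s * β.B y u) • x with hz
    have hzm : z ∈ β.cut ⊤ x y := β.proj_mem trivial trivial trivial hxx hyy hxy
    obtain ⟨-, hxz, hyz⟩ := β.mem_cut.1 hzm
    obtain ⟨h1, h2⟩ := hpair x y hxx hyy hxy z hzm
    have h2' := (hpair y x hyy hxx hyx z (β.mem_cut.2 ⟨trivial, hyz, hxz⟩)).2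
    have hu : u = z + β.B x u • y + (β.s * β.B y u) • x := by rw [hz]; module
    clear_value z
    generalize β.B x u = r at hu
    generalize β.s * β.B y u = t at hu
    subst hu
    simp only [Matrix.mulVec_add, Matrix.mulVec_smul, map_add, map_smul, LinearMap.add_apply, LinearMap.smul_apply,
      smul_eq_mul, hxz, hyz, β.comm hxz, β.comm hyz, hxx, hyy, hxy, hyx, h1, h2, h2', hsym z x, hsym z y,
      hsym y x, hφ x hxx, hφ y hyy]
    ring
  refine hns h (Matrix.ext_iff_mulVec.2 fun w => β.eq_of _ _ fun u => ?_)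
  have e := hq' (u + w)
  simp only [Matrix.mulVec_add, map_add, LinearMap.add_apply, hsym w u, hq' u, hq' w, β.symm' hs u w] at e
  rw [Matrix.smul_mulVec, Matrix.one_mulVec, map_smul, smul_eq_mul]
  exact mul_left_cancel₀ htwo (by linear_combination e)

/-- An invariant space with a non-scalar self-adjoint member has a rank one member at an isotropic vector. -/
theorem Inv.tau_mem [Finite F] (hs : β.s = 1) (h3 : 3 ≤ n) (hq : 4 ≤ n ∨ ∃ t : F, t ≠ 0 ∧ t * t ≠ 1)
    {M : Matrix (Fin n) (Fin n) F} (hMW : M ∈ W) (hM : β.adj M = M) (hns : ∀ t : F, M ≠ t • 1) :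
    ∃ x, x ≠ 0 ∧ β.B x x = 0 ∧ β.tau x x ∈ W := by
  obtain ⟨x, hx0, hxx, hm⟩ := β.exists_cone hs h3 hq hM hns
  refine ⟨x, hx0, hxx, ?_⟩
  obtain ⟨y, -, hyy, hxy⟩ := (β.ndOn_top).partner β (x := x) trivial hx0 hxx
  have hU := (β.ndOn_top).cut_pair β (x := x) (y := y) trivial trivial hxx hyy hxy
  have hd := β.finrank_cut ⊤ x y
  rw [finrank_top_eq] at hd
  obtain ⟨z, hz, hzz⟩ := hU.aniso β hs (ne_bot_of_pos (by omega))
  have hxz : β.B x z = 0 := (β.mem_cut.1 hz).2.1
  have htwo := β.two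
  suffices h : ∃ c : F, c ≠ 0 ∧ c • β.tau x x ∈ W by
    obtain ⟨c, hc, h⟩ := h
    have := W.smul_mem c⁻¹ h
    rwa [inv_smul_smul₀ hc] at this
  have hE := hW.E_mem β hxx hxz hMW
  rcases hq with h4 | ⟨t, ht, ht1⟩
  · obtain ⟨w, hw, hww⟩ := (hU.cut_aniso β hs hz hzz).aniso β hs (ne_bot_of_pos (by
      have := finrank_inf_ker_add_one (β.cut ⊤ x y) (β.B z); omega))
    have hzw : β.B z w = 0 := LinearMap.mem_ker.1 hw.2
    have hxw : β.B x w = 0 := (β.mem_cut.1 hw.1).2.1
    refine ⟨2 * β.B z z * β.B w w * β.B x (M *ᵥ x),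
      mul_ne_zero (mul_ne_zero (mul_ne_zero htwo hzz) hww) hm, ?_⟩
    have hEE := hW.E_mem β hxx hxw hE
    rw [hs, one_mul] at hEE
    refine (congrArg (· ∈ W) ?_).mp hEE
    have n1 : β.N x w * β.N x z = 0 := Matrix.ext_iff_mulVec.2 fun v => by
      rw [← Matrix.mulVec_mulVec, β.N_mulVec x z v, Matrix.mulVec_sub, Matrix.mulVec_smul, Matrix.mulVec_smul,
        β.N_self hxx hxw, β.N_mulVec x w z, β.comm hzw, hxz, mul_zero, zero_smul, zero_smul, sub_zero, smul_zero,
        smul_zero, sub_zero, Matrix.zero_mulVec]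
    have n2 : β.N x z * β.N x w = 0 := Matrix.ext_iff_mulVec.2 fun v => by
      rw [← Matrix.mulVec_mulVec, β.N_mulVec x w v, Matrix.mulVec_sub, Matrix.mulVec_smul, Matrix.mulVec_smul,
        β.N_self hxx hxz, β.N_mulVec x z w, hzw, hxw, mul_zero, zero_smul, zero_smul, sub_zero, smul_zero,
        smul_zero, sub_zero, Matrix.zero_mulVec]
    have n3 : ∀ u, β.N x u * β.tau x x = β.tau (β.N x u *ᵥ x) x := fun u => β.mul_tau _ _ _
    have n4 : β.tau x x * β.N x z = 0 := by
      rw [β.tau_mul, β.adj_N, Matrix.neg_mulVec, β.N_self hxx hxz, neg_zero, β.tau_zero_right]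
    have n5 : β.tau x x * β.N x w = 0 := by
      rw [β.tau_mul, β.adj_N, Matrix.neg_mulVec, β.N_self hxx hxw, neg_zero, β.tau_zero_right]
    have n6 : β.N x w * β.tau x x = 0 := by rw [n3, β.N_self hxx hxw, β.tau_zero_left]
    have n7 : β.N x z * β.tau x x = 0 := by rw [n3, β.N_self hxx hxz, β.tau_zero_left]
    have n8 : β.tau x x * β.tau x x = 0 := by rw [β.tau_mul_tau, hxx, zero_smul]
    set E := (-(1 * β.B z z)) • (β.tau x (β.adj M *ᵥ x) + β.tau (M *ᵥ x) x) -
      (2 : F) • (β.N x z * M * β.N x z) + ((β.B z z * β.B z z) / 2 * β.B x (M *ᵥ x)) • β.tau x x with hEdef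
    rw [← β.tau_mul M, ← β.mul_tau M] at hEdef
    have eE : E * β.tau x x = (-(β.B z z) * β.B x (M *ᵥ x)) • β.tau x x := by
      rw [hEdef]
      simp only [add_mul, sub_mul, smul_mul_assoc, mul_assoc, n7, n8, mul_zero, smul_zero, sub_zero, add_zero]
      rw [β.mul_tau M, β.tau_mul_tau, smul_smul, one_mul]
    have eE' : β.tau x x * E = (-(β.B z z) * β.B x (M *ᵥ x)) • β.tau x x := by
      rw [hEdef]
      simp only [mul_add, mul_sub, mul_smul_comm, ← mul_assoc, n4, n8, zero_mul, smul_zero, sub_zero, add_zero,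
        zero_add]
      rw [mul_assoc, β.mul_tau M, β.tau_mul_tau, smul_smul, one_mul]
    have eN : β.N x w * E * β.N x w = 0 := by
      have a1 : β.N x w * E = -β.B z z • (β.N x w * M * β.tau x x) := by
        rw [hEdef]
        simp only [mul_add, mul_sub, mul_smul_comm, ← mul_assoc, n1, n6, zero_mul, smul_zero, sub_zero, add_zero,
          zero_add, one_mul]
      rw [a1, smul_mul_assoc, mul_assoc, n5, mul_zero, smul_zero]
    have eB : β.B x (E *ᵥ x) = 0 := by
      have : β.B x (E *ᵥ x) • β.tau x x = 0 := by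
        rw [← β.tau_mul_tau x x (E *ᵥ x) x, ← β.mul_tau E, ← mul_assoc, eE', smul_mul_assoc, n8, smul_zero]
      by_contra h
      rw [smul_eq_zero] at this
      have h2 := congrArg (· *ᵥ y) (this.resolve_left h)
      simp only [tau_mulVec, hxy, one_smul, Matrix.zero_mulVec] at h2
      exact hx0 h2
    rw [← β.tau_mul E, ← β.mul_tau E, eE, eE', eN, eB, smul_zero, sub_zero, mul_zero, zero_smul, add_zero,
      ← add_smul, smul_smul]
    congr 1
    ring
  · have hE' := hW.E_mem β (z := t • z) hxx (by rw [map_smul, hxz, smul_zero]) hMW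
    refine ⟨(t * t * (t * t - 1)) * (β.B z z * β.B z z / 2) * β.B x (M *ᵥ x), ?_, ?_⟩
    · exact mul_ne_zero (mul_ne_zero (mul_ne_zero (mul_ne_zero ht ht) (sub_ne_zero.2 ht1))
        (div_ne_zero (mul_ne_zero hzz hzz) htwo)) hm
    refine (congrArg (· ∈ W) ?_).mp (W.sub_mem hE' (W.smul_mem (t * t) hE))
    simp only [map_smul, LinearMap.smul_apply, smul_eq_mul, β.N_smul, smul_mul_assoc, mul_smul_comm, smul_smul]
    module

/-- An invariant space containing a rank one map at an isotropic vector is not commutative. -/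
theorem Inv.not_comm [Finite F] (hs : β.s = 1) (h3 : 3 ≤ n) {x : Fin n → F} (hx0 : x ≠ 0) (hxx : β.B x x = 0)
    (hx : β.tau x x ∈ W) (hc : ∀ M ∈ W, ∀ M' ∈ W, M * M' = M' * M) : False := by
  obtain ⟨y, -, hyy, hxy⟩ := (β.ndOn_top).partner β (x := x) trivial hx0 hxx
  have hU := (β.ndOn_top).cut_pair β (x := x) (y := y) trivial trivial hxx hyy hxy
  have hd := β.finrank_cut ⊤ x y
  rw [finrank_top_eq] at hd
  obtain ⟨z, hz, hzz⟩ := hU.aniso β hs (ne_bot_of_pos (by omega))
  obtain ⟨-, hxz, hyz⟩ := β.mem_cut.1 hz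
  have h1 := hW y z hyy hyz _ hx
  have hz' : β.B y (-z) = 0 := by rw [map_neg, hyz, neg_zero]
  rw [β.mul_tau, β.tau_mul, β.adj_sieM hyy hz', neg_neg] at h1
  set x' := β.sieM y z *ᵥ x with hx'
  have hne : β.B x' x ≠ 0 := by
    rw [hx', β.sieM_mulVec hyy hyz, β.comm hxz, hs, β.symm' hs x y, hxy]
    simp only [map_sub, map_smul, map_add, LinearMap.sub_apply, LinearMap.smul_apply, LinearMap.add_apply, hxx,
      β.symm' hs x y, hxy, β.comm hxz, smul_eq_mul]
    have htwo := β.two
    field_simp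
    simpa [htwo] using hzz
  have h2 := congrArg (· *ᵥ x) (hc _ hx _ h1)
  simp only [β.tau_mul_tau, Matrix.smul_mulVec, tau_mulVec, hxx, zero_smul, smul_zero, smul_smul] at h2
  rcases smul_eq_zero.1 h2 with h | h
  · exact hne ((mul_eq_zero.1 h).resolve_left (β.comm_ne hne))
  · exact hx0 h

/-- An invariant space of an alternating form with a non-scalar self-adjoint member is not commutative. -/
theorem Inv.not_comm_alt (hs : β.s = -1) {M : Matrix (Fin n) (Fin n) F} (hMW : M ∈ W) (hM : β.adj M = M)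
    (hns : ∀ t : F, M ≠ t • 1) (hc : ∀ M ∈ W, ∀ M' ∈ W, M * M' = M' * M) : False := by
  obtain ⟨c, hcd⟩ : ∃ c, M *ᵥ c ∉ Submodule.span F {c} := by
    by_contra h
    push Not at h
    obtain ⟨t, ht⟩ := scalar_of_eigen' M h
    exact hns t ht
  have htwo := β.two
  have hcc := β.self_eq_zero hs c
  have hhalf : β.B c ((2 : F)⁻¹ • c) = 0 := β.self_eq_zero hs c |> fun h => by rw [map_smul, h, smul_zero]
  have hN : β.N c ((2 : F)⁻¹ • c) = β.tau c c := by
    rw [N, tau_smul_right, tau_smul_left, hs, smul_smul, ← sub_smul]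
    conv_rhs => rw [← one_smul F (β.tau c c)]
    congr 1
    field_simp
    ring
  have hsq : β.tau c c * β.tau c c = 0 := by rw [β.tau_mul_tau, hcc, zero_smul]
  have h1 := hW c _ hcc hhalf M hMW
  have h2 := hW c (-((2 : F)⁻¹ • c)) hcc (by rw [map_neg, hhalf, neg_zero]) M hMW
  simp only [neg_neg, sieM, N_neg, hN, neg_mul_neg, hsq, smul_zero, add_zero] at h1 h2
  have hD : β.tau c c * M - M * β.tau c c ∈ W := by
    have := W.smul_mem (2 : F)⁻¹ (W.sub_mem h1 h2)
    refine (congrArg (· ∈ W) ?_).mp this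
    simp only [add_mul, mul_add, one_mul, mul_one, neg_mul, mul_neg]
    match_scalars <;> field_simp <;> ring
  rw [β.tau_mul, β.mul_tau, hM] at hD
  set d := M *ᵥ c with hd
  have hMd := hc _ hMW _ hD
  rw [mul_sub, sub_mul, β.mul_tau, β.mul_tau, β.tau_mul, β.tau_mul, hM, ← hd] at hMd
  obtain ⟨x, hx1, hx2⟩ := β.exists_two (x := c) (fun h => hcd (by simp [hd, h])) hcd 0 1
  have h3 := congrArg (· *ᵥ x) hMd
  simp only [Matrix.sub_mulVec, tau_mulVec, hx1, hx2, zero_smul, sub_zero, one_smul, zero_sub] at h3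
  refine hcd (Submodule.mem_span_singleton.2 ⟨β.B (M *ᵥ d) x / 2, ?_⟩)
  rw [eq_sub_iff_add_eq] at h3
  have : (2 : F) • d = β.B (M *ᵥ d) x • c := by rw [two_smul]; exact h3
  rw [div_eq_inv_mul, mul_smul, ← this, inv_smul_smul₀ htwo]

/-- An invariant space with a non-zero skew member contains a decomposable one at an isotropic vector. -/
theorem Inv.skew_mem [Finite F] (hs : β.s = 1) (h3 : 3 ≤ n) {S : Matrix (Fin n) (Fin n) F} (hSW : S ∈ W)
    (hS : β.adj S = -S) (h0 : S ≠ 0) :
    ∃ x y, x ≠ 0 ∧ β.B x x = 0 ∧ β.B x y = 0 ∧ y ∉ Submodule.span F {x} ∧ β.N x y ∈ W := by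
  have hanti : ∀ u w, β.B u (S *ᵥ w) = -β.B (S *ᵥ u) w := fun u w => by
    rw [β.adj_spec', hS, Matrix.neg_mulVec, map_neg, LinearMap.neg_apply]
  obtain ⟨x, hx0, hxx, hSx⟩ : ∃ x, x ≠ 0 ∧ β.B x x = 0 ∧ S *ᵥ x ∉ Submodule.span F {x} := by
    by_contra hc
    push Not at hc
    obtain ⟨x, -, hx0, hxx⟩ := (β.ndOn_top).isotropic β hs (U := ⊤) (by rw [finrank_top_eq]; omega)
    obtain ⟨y, -, hyy, hxy⟩ := (β.ndOn_top).partner β (x := x) trivial hx0 hxx
    have hyx : β.B y x = 1 := by rw [β.symm' hs x y, hxy]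
    have hy0 : y ≠ 0 := fun h => by rw [h, map_zero] at hxy; exact zero_ne_one hxy
    obtain ⟨α, hα⟩ := Submodule.mem_span_singleton.1 (hc x hx0 hxx)
    obtain ⟨δ, hδ⟩ := Submodule.mem_span_singleton.1 (hc y hy0 hyy)
    have hαδ : δ = -α := by
      have := hanti x y
      rw [← hα, ← hδ, map_smul, map_smul, LinearMap.smul_apply, hxy, smul_eq_mul, smul_eq_mul, mul_one,
        mul_one] at this
      exact this
    have key : ∀ z ∈ β.cut ⊤ x y, S *ᵥ z = 0 ∧ (β.B z z ≠ 0 → α = 0) := by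
      intro z hz
      obtain ⟨-, hxz, hyz⟩ := β.mem_cut.1 hz
      set w := x - (β.B z z / 2) • y + z with hw
      have hww : β.B w w = 0 := by
        simp only [hw, map_sub, map_add, map_smul, LinearMap.sub_apply, LinearMap.add_apply, LinearMap.smul_apply,
          smul_eq_mul, hxx, hyy, hxy, hyx, hxz, hyz, β.comm hxz, β.comm hyz]
        have := β.two
        field_simp
        ring
      have hyw : β.B y w = 1 := by
        simp only [hw, map_sub, map_add, map_smul, smul_eq_mul, hyy, hyx, hyz]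
        ring
      obtain ⟨ν, hν⟩ := Submodule.mem_span_singleton.1 (hc w (fun h => by simp [h] at hyw) hww)
      have e1 := hanti y w
      rw [← hν, ← hδ, map_smul, map_smul, LinearMap.smul_apply, hyw, smul_eq_mul, smul_eq_mul, mul_one, mul_one,
        hαδ, neg_neg] at e1
      have e2 := hanti x w
      rw [← hν, ← hα, map_smul, map_smul, LinearMap.smul_apply, smul_eq_mul, smul_eq_mul, e1] at e2
      have hxw : β.B x w = -(β.B z z / 2) := by
        simp only [hw, map_sub, map_add, map_smul, smul_eq_mul, hxx, hxy, hxz]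
        ring
      rw [hxw] at e2
      refine ⟨?_, fun hzz => (mul_eq_zero.1 (show α * β.B z z = 0 by
          linear_combination -e2 - (α * β.B z z) * mul_inv_cancel₀ β.two)).resolve_right hzz⟩
      rcases eq_or_ne α 0 with hα0 | hα0
      · rw [hw, Matrix.mulVec_add, Matrix.mulVec_sub, Matrix.mulVec_smul, ← hα, ← hδ, e1, hαδ, hα0] at hν
        simpa using hν.symm
      · have hzz : β.B z z = 0 := by
          by_contra hzz
          refine hα0 ((mul_eq_zero.1 (show α * β.B z z = 0 by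
          linear_combination -e2 - (α * β.B z z) * mul_inv_cancel₀ β.two)).resolve_right hzz)
        exfalso
        obtain ⟨z', hz', hzz'⟩ := ((β.ndOn_top).cut_pair β (x := x) (y := y) trivial trivial hxx hyy hxy).aniso β hs
          (ne_bot_of_pos (by have := β.finrank_cut ⊤ x y; rw [finrank_top_eq] at this; omega))
        obtain ⟨-, hxz', hyz'⟩ := β.mem_cut.1 hz'
        set w' := x - (β.B z' z' / 2) • y + z' with hw'
        have hww' : β.B w' w' = 0 := by
          simp only [hw', map_sub, map_add, map_smul, LinearMap.sub_apply, LinearMap.add_apply,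
            LinearMap.smul_apply, smul_eq_mul, hxx, hyy, hxy, hyx, hxz', hyz', β.comm hxz', β.comm hyz']
          have := β.two
          field_simp
          ring
        have hyw' : β.B y w' = 1 := by
          simp only [hw', map_sub, map_add, map_smul, smul_eq_mul, hyy, hyx, hyz']
          ring
        obtain ⟨ν', hν'⟩ := Submodule.mem_span_singleton.1 (hc w' (fun h => by simp [h] at hyw') hww')
        have f1 := hanti y w'
        rw [← hν', ← hδ, map_smul, map_smul, LinearMap.smul_apply, hyw', smul_eq_mul, smul_eq_mul, mul_one,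
          mul_one, hαδ, neg_neg] at f1
        have f2 := hanti x w'
        rw [← hν', ← hα, map_smul, map_smul, LinearMap.smul_apply, smul_eq_mul, smul_eq_mul, f1] at f2
        have hxw' : β.B x w' = -(β.B z' z' / 2) := by
          simp only [hw', map_sub, map_add, map_smul, smul_eq_mul, hxx, hxy, hxz']
          ring
        rw [hxw'] at f2
        exact hα0 ((mul_eq_zero.1 (show α * β.B z' z' = 0 by
          linear_combination -f2 - (α * β.B z' z') * mul_inv_cancel₀ β.two)).resolve_right hzz')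
    have hα0 : α = 0 := by
      obtain ⟨z', hz', hzz'⟩ := ((β.ndOn_top).cut_pair β (x := x) (y := y) trivial trivial hxx hyy hxy).aniso β hs
        (ne_bot_of_pos (by have := β.finrank_cut ⊤ x y; rw [finrank_top_eq] at this; omega))
      exact (key z' hz').2 hzz'
    refine h0 (Matrix.ext_iff_mulVec.2 fun u => ?_)
    have hu : u = (u - β.B x u • y - (β.s * β.B y u) • x) + β.B x u • y + (β.s * β.B y u) • x := by module
    rw [hu, Matrix.mulVec_add, Matrix.mulVec_add, Matrix.mulVec_smul, Matrix.mulVec_smul, ← hα, ← hδ, hαδ, hα0,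
      (key _ (β.proj_mem trivial trivial trivial hxx hyy hxy)).1]
    simp
  obtain ⟨y, -, hyy, hxy⟩ := (β.ndOn_top).partner β (x := x) trivial hx0 hxx
  have hU := (β.ndOn_top).cut_pair β (x := x) (y := y) trivial trivial hxx hyy hxy
  have hd := β.finrank_cut ⊤ x y
  rw [finrank_top_eq] at hd
  obtain ⟨z, hz, hzz⟩ := hU.aniso β hs (ne_bot_of_pos (by omega))
  obtain ⟨-, hxz, -⟩ := β.mem_cut.1 hz
  have hzero : ∀ u, β.B u (S *ᵥ u) = 0 := fun u => by
    have h1 := hanti u u
    rw [β.symm' hs (S *ᵥ u) u] at h1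
    rw [β.symm' hs (S *ᵥ u) u]
    exact (mul_eq_zero.1 (show (2 : F) * β.B (S *ᵥ u) u = 0 by linear_combination h1)).resolve_left β.two
  set l := β.B z (S *ᵥ x) with hl
  refine ⟨x, β.B z z • (S *ᵥ x) - (2 * l) • z, hx0, hxx, ?_, fun hm => ?_, ?_⟩
  · rw [map_sub, map_smul, map_smul, hzero, hxz, smul_zero, smul_zero, sub_zero]
  · obtain ⟨c, hc⟩ := Submodule.mem_span_singleton.1 hm
    have h1 := congrArg (β.B z) hc
    rw [map_smul, map_sub, map_smul, map_smul, β.comm hxz, smul_zero, ← hl, smul_eq_mul, smul_eq_mul] at h1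
    have hl0 : l = 0 := (mul_eq_zero.1 (show l * β.B z z = 0 by linear_combination h1)).resolve_right hzz
    rw [hl0, mul_zero, zero_smul, sub_zero] at hc
    exact hSx (Submodule.mem_span_singleton.2 ⟨(β.B z z)⁻¹ * c, by rw [mul_smul, hc, inv_smul_smul₀ hzz]⟩)
  have hE := hW.E_mem β hxx hxz hSW
  refine (congrArg (· ∈ W) ?_).mp hE
  have hNSN : β.N x z * S * β.N x z = l • β.N x z := by
    have hxSz : β.B x (S *ᵥ z) = -l := by rw [hanti, β.symm' hs z (S *ᵥ x), ← hl]
    refine Matrix.ext_iff_mulVec.2 fun v => ?_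
    rw [← Matrix.mulVec_mulVec, ← Matrix.mulVec_mulVec, β.N_mulVec x z v, Matrix.mulVec_sub, Matrix.mulVec_smul,
      Matrix.mulVec_smul, Matrix.mulVec_sub, Matrix.mulVec_smul, Matrix.mulVec_smul, β.N_mulVec, β.N_mulVec,
      Matrix.smul_mulVec, β.N_mulVec, hzero, hzero, ← hl, hxSz, hs]
    module
  rw [hzero x, mul_zero, zero_smul, add_zero, hNSN, hS, Matrix.neg_mulVec, hs, one_mul]
  simp only [N, hs, one_smul, β.tau_smul_right, β.tau_smul_left, sub_eq_add_neg, β.tau_add_left, β.tau_add_right,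
    ← neg_smul, smul_smul]
  rw [show β.tau x (-(S *ᵥ x)) = -β.tau x (S *ᵥ x) by simpa using β.tau_smul_right (-1) x (S *ᵥ x)]
  module

/-- An invariant space of an alternating form with a non-zero skew member contains a rank one member. -/
theorem Inv.tau_mem_alt (hs : β.s = -1) {S : Matrix (Fin n) (Fin n) F} (hSW : S ∈ W) (hS : β.adj S = -S)
    (h0 : S ≠ 0) : ∃ c, c ≠ 0 ∧ β.tau c c ∈ W := by
  obtain ⟨c, hc⟩ : ∃ c, β.B c (S *ᵥ c) ≠ 0 := by
    by_contra h
    push Not at h
    refine h0 (Matrix.ext_iff_mulVec.2 fun w => β.eq_of _ _ fun u => ?_)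
    rw [Matrix.zero_mulVec, map_zero]
    have hsw : β.B w (S *ᵥ u) = β.B u (S *ᵥ w) := by
      rw [β.adj_spec', hS, Matrix.neg_mulVec, map_neg, LinearMap.neg_apply, β.symm u, hs]; ring
    have h1 := h (u + w)
    simp only [Matrix.mulVec_add, map_add, LinearMap.add_apply, h u, h w, hsw, zero_add, add_zero] at h1
    exact (mul_eq_zero.1 (show (2 : F) * β.B u (S *ᵥ w) = 0 by linear_combination h1)).resolve_left β.two
  have hcc := β.self_eq_zero hs c
  have hE := hW.E_mem β (z := c) hcc hcc hSW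
  rw [hcc] at hE
  simp only [mul_zero, neg_zero, zero_smul, zero_mul, zero_div, add_zero, zero_sub] at hE
  refine ⟨c, fun h => hc (by simp [h]), ?_⟩
  have h2 : β.N c c = (2 : F) • β.tau c c := by rw [N, hs, two_smul, neg_one_smul, sub_neg_eq_add]
  have e : β.N c c * S * β.N c c = (4 * β.B c (S *ᵥ c)) • β.tau c c := by
    rw [h2, smul_mul_assoc, smul_mul_assoc, mul_smul_comm, mul_assoc, β.mul_tau, β.tau_mul_tau, smul_smul,
      smul_smul]
    congr 1
    ring
  rw [e, smul_smul] at hE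
  have := W.smul_mem (2 * (4 * β.B c (S *ᵥ c)))⁻¹ (W.neg_mem hE)
  rw [neg_neg, inv_smul_smul₀] at this
  · exact this
  · have := β.two
    exact mul_ne_zero this (mul_ne_zero (by rw [show (4 : F) = 2 * 2 by norm_num]; exact mul_ne_zero this this) hc)

end Bil

end Cfsg.Agent.H24.Tensor
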