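import Cfsg.Agent.H24.Tensor.Sys
import Cfsg.Agent.H24.Tensor.Span

/-!
The transformations fixing `A ⊗ v` and acting trivially on the quotient of `A ⊗ v⊥` by it.
-/

set_option autoImplicit false

namespace Cfsg.Agent.H24.Tensor

open Module Matrix Cfsg.Agent.H98.TensorGL Cfsg.Agent.H98.ExtField

variable {F : Type*} [Field F] {a b : ℕ}

theorem eq_sum_pure' (m : T F a b) : m = ∑ i, pure (m i) (Pi.single i 1) :=
  funext fun k => funext fun j => by simp [Finset.sum_apply, Pi.single_apply, ite_apply]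

namespace Sys

variable (S : Sys F a b) (v : Fin b → F)

/-- `r` fixes `A ⊗ v` and moves `A ⊗ v⊥` inside it. -/
structure Rad (r : (Module.End F (T F a b))ˣ) : Prop where
  iso : S.Iso (r : Module.End F (T F a b))
  fix : ∀ u, (r : Module.End F (T F a b)) (pure v u) = pure v u
  move : ∀ w u, S.D.B v w = 0 → ∃ z, (r : Module.End F (T F a b)) (pure w u) = pure w u + pure v z

/-- The matrices by which `r` moves `A ⊗ v⊥`. -/
def Move (r : (Module.End F (T F a b))ˣ) (M : (Fin b → F) → Matrix (Fin a) (Fin a) F) : Prop :=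
  ∀ w u, S.D.B v w = 0 → (r : Module.End F (T F a b)) (pure w u) = pure w u + pure v (M w *ᵥ u)

variable {S v}

theorem Rad.exists_move {r : (Module.End F (T F a b))ˣ} (hv : v ≠ 0) (h : S.Rad v r) :
    ∃ M : (Fin b → F) →ₗ[F] Matrix (Fin a) (Fin a) F, S.Move v r M := by
  obtain ⟨y, hy⟩ := S.D.exists_one hv
  set ψ : Dual F (Fin b → F) := S.D.B.flip y with hψ
  have hψv : ψ v = 1 := hy
  refine ⟨{ toFun := fun w => LinearMap.toMatrix' (ev ψ ∘ₗ ((r : Module.End F (T F a b)) - 1) ∘ₗ pure w)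
            map_add' := fun w w' => by
              rw [← map_add]
              congr 1
              exact LinearMap.ext fun u => by simp only [LinearMap.comp_apply, LinearMap.add_apply, pure_add, map_add]
            map_smul' := fun c w => by
              rw [RingHom.id_apply, ← map_smul]
              congr 1
              exact LinearMap.ext fun u => by
                simp only [LinearMap.comp_apply, LinearMap.smul_apply, pure_smul, map_smul] }, fun w u hw => ?_⟩
  obtain ⟨z, hz⟩ := h.move w u hw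
  show _ = pure w u + pure v (LinearMap.toMatrix' (ev ψ ∘ₗ ((r : Module.End F (T F a b)) - 1) ∘ₗ pure w) *ᵥ u)
  rw [LinearMap.toMatrix'_mulVec, LinearMap.comp_apply, LinearMap.comp_apply,
    LinearMap.sub_apply, Module.End.one_apply, hz, add_sub_cancel_left, ev_pure, hψv, one_smul]

theorem Move.rad {r : (Module.End F (T F a b))ˣ} {M : (Fin b → F) → Matrix (Fin a) (Fin a) F}
    (hi : S.Iso (r : Module.End F (T F a b))) (hf : ∀ u, (r : Module.End F (T F a b)) (pure v u) = pure v u)
    (h : S.Move v r M) : S.Rad v r :=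
  ⟨hi, hf, fun w u hw => ⟨_, h w u hw⟩⟩

theorem Rad.mul {r r' : (Module.End F (T F a b))ˣ} (h : S.Rad v r) (h' : S.Rad v r') : S.Rad v (r * r') :=
  ⟨by rw [Units.val_mul]; exact h.iso.mul h'.iso, fun u => by rw [Units.val_mul, Module.End.mul_apply, h'.fix, h.fix],
    fun w u hw => by
      obtain ⟨z, hz⟩ := h.move w u hw
      obtain ⟨z', hz'⟩ := h'.move w u hw
      exact ⟨z + z', by rw [Units.val_mul, Module.End.mul_apply, hz', map_add, hz, h.fix, map_add, add_assoc]⟩⟩

theorem Rad.inv {r : (Module.End F (T F a b))ˣ} (h : S.Rad v r) : S.Rad v r⁻¹ :=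
  ⟨h.iso.inv, fun u => by conv_lhs => rw [← h.fix u, inv_apply_apply],
    fun w u hw => by
      obtain ⟨z, hz⟩ := h.move w u hw
      refine ⟨-z, units_injective r ?_⟩
      rw [apply_inv_apply, map_add, hz, h.fix, map_neg, add_neg_cancel_right]⟩

theorem Move.mul {r r' : (Module.End F (T F a b))ˣ} {M M' : (Fin b → F) → Matrix (Fin a) (Fin a) F}
    (h : S.Rad v r) (hM : S.Move v r M) (hM' : S.Move v r' M') : S.Move v (r * r') (fun w => M w + M' w) :=
  fun w u hw => by
    rw [Units.val_mul, Module.End.mul_apply, hM' w u hw, map_add, hM w u hw, h.fix, Matrix.add_mulVec, map_add,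
      add_assoc]

theorem Move.inv {r : (Module.End F (T F a b))ˣ} {M : (Fin b → F) → Matrix (Fin a) (Fin a) F}
    (h : S.Rad v r) (hM : S.Move v r M) : S.Move v r⁻¹ (fun w => -M w) := fun w u hw =>
  units_injective r (by
    rw [apply_inv_apply, map_add, hM w u hw, h.fix, Matrix.neg_mulVec, map_neg, add_neg_cancel_right])

theorem Rad.conj_rt {r : (Module.End F (T F a b))ˣ} (h : S.Rad v r) {θ : GL (Fin b) F}
    (hθ : ∀ x y, S.D.B ((θ : Matrix _ _ F) *ᵥ x) ((θ : Matrix _ _ F) *ᵥ y) = S.D.B x y)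
    (hθv : (θ : Matrix _ _ F) *ᵥ v = v) {M : (Fin b → F) → Matrix (Fin a) (Fin a) F} (hM : S.Move v r M) :
    S.Rad v (rtU θ * r * (rtU θ)⁻¹) ∧
      S.Move v (rtU θ * r * (rtU θ)⁻¹) (fun w => M ((↑θ⁻¹ : Matrix _ _ F) *ᵥ w)) := by
  have hθv' : (↑θ⁻¹ : Matrix _ _ F) *ᵥ v = v := by
    conv_lhs => rw [← hθv]
    rw [Matrix.mulVec_mulVec, Units.inv_mul, Matrix.one_mulVec]
  have hval : ∀ m, ((rtU θ * r * (rtU θ)⁻¹ : (Module.End F (T F a b))ˣ) : Module.End F (T F a b)) m =
      rt (θ : Matrix _ _ F) ((r : Module.End F (T F a b)) (rt (↑θ⁻¹ : Matrix _ _ F) m)) := fun m => rfl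
  have hiso : S.Iso (rtU (a := a) θ : Module.End F (T F a b)) := S.iso_rt hθ
  have hfix : ∀ u, ((rtU θ * r * (rtU θ)⁻¹ : (Module.End F (T F a b))ˣ) : Module.End F (T F a b)) (pure v u) =
      pure v u := fun u => by rw [hval, rt_pure, hθv', h.fix, rt_pure, hθv]
  have hmove : S.Move v (rtU θ * r * (rtU θ)⁻¹) (fun w => M ((↑θ⁻¹ : Matrix _ _ F) *ᵥ w)) := fun w u hw => by
    have hw' : S.D.B v ((↑θ⁻¹ : Matrix _ _ F) *ᵥ w) = 0 := by
      rw [← hθ, hθv, Matrix.mulVec_mulVec, Units.mul_inv, Matrix.one_mulVec, hw]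
    rw [hval, rt_pure, hM _ u hw', map_add, rt_pure, rt_pure, hθv, Matrix.mulVec_mulVec, Units.mul_inv,
      Matrix.one_mulVec]
  exact ⟨Move.rad (by rw [Units.val_mul, Units.val_mul]; exact (hiso.mul h.iso).mul hiso.inv) hfix hmove, hmove⟩

theorem Rad.conj_lt {r : (Module.End F (T F a b))ˣ} (h : S.Rad v r) {P : GL (Fin a) F}
    (hP : ∀ x y, S.A.B ((P : Matrix _ _ F) *ᵥ x) ((P : Matrix _ _ F) *ᵥ y) = S.A.B x y)
    {M : (Fin b → F) → Matrix (Fin a) (Fin a) F} (hM : S.Move v r M) :
    S.Rad v (ltU P * r * (ltU P)⁻¹) ∧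
      S.Move v (ltU P * r * (ltU P)⁻¹) (fun w => (P : Matrix _ _ F) * M w * (↑P⁻¹ : Matrix _ _ F)) := by
  have hval : ∀ m, ((ltU P * r * (ltU P)⁻¹ : (Module.End F (T F a b))ˣ) : Module.End F (T F a b)) m =
      lt (P : Matrix _ _ F) ((r : Module.End F (T F a b)) (lt (↑P⁻¹ : Matrix _ _ F) m)) := fun m => rfl
  have hiso : S.Iso (ltU (b := b) P : Module.End F (T F a b)) := S.iso_lt hP
  have hfix : ∀ u, ((ltU P * r * (ltU P)⁻¹ : (Module.End F (T F a b))ˣ) : Module.End F (T F a b)) (pure v u) =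
      pure v u := fun u => by
    rw [hval, lt_pure, h.fix, lt_pure, Matrix.mulVec_mulVec, Units.mul_inv, Matrix.one_mulVec]
  have hmove : S.Move v (ltU P * r * (ltU P)⁻¹)
      (fun w => (P : Matrix _ _ F) * M w * (↑P⁻¹ : Matrix _ _ F)) := fun w u hw => by
    rw [hval, lt_pure, hM _ _ hw, map_add, lt_pure, lt_pure, Matrix.mulVec_mulVec, Units.mul_inv,
      Matrix.one_mulVec, ← Matrix.mulVec_mulVec, ← Matrix.mulVec_mulVec]
  exact ⟨Move.rad (by rw [Units.val_mul, Units.val_mul]; exact (hiso.mul h.iso).mul hiso.inv) hfix hmove, hmove⟩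

/-- A Siegel transformation centred at `v`. -/
theorem sie_move {z : Fin b → F} (hvv : S.D.B v v = 0) (hz : S.D.B v z = 0) :
    S.Rad v (rtU (S.D.sie hvv hz)) ∧
      S.Move v (rtU (S.D.sie hvv hz)) (fun w => S.D.B z w • (1 : Matrix (Fin a) (Fin a) F)) := by
  have hfix : ∀ u, ((rtU (S.D.sie hvv hz) : (Module.End F (T F a b))ˣ) : Module.End F (T F a b)) (pure v u) =
      pure v u := fun u => by rw [rtU_val, Bil.sie_val, rt_pure, S.D.sieM_self hvv hz]
  have hmove : S.Move v (rtU (S.D.sie hvv hz)) (fun w => S.D.B z w • (1 : Matrix (Fin a) (Fin a) F)) :=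
    fun w u hw => by
      rw [rtU_val, Bil.sie_val, rt_pure, S.D.sieM_mulVec hvv hz, hw]
      simp only [mul_zero, zero_smul, sub_zero, pure_add, pure_smul', Matrix.smul_mulVec, Matrix.one_mulVec]
  exact ⟨Move.rad (S.iso_rt (S.D.sieM_iso hvv hz)) hfix hmove, hmove⟩

/-- A map acting on `A ⊗ v⊥` through `M`, applied to any element of it. -/
theorem move_apply {r : (Module.End F (T F a b))ˣ} {M : Matrix (Fin a) (Fin a) F} {y : Fin b → F}
    (h : S.Move v r (fun w => S.D.B y w • M)) {n : T F a b} (hn : ev (S.D.B v) n = 0) :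
    (r : Module.End F (T F a b)) n = n + pure v (M *ᵥ ev (S.D.B y) n) := by
  have hi : ∀ i, S.D.B v (n i) = 0 := fun i => congrFun hn i
  conv_lhs => rw [eq_sum_pure' n, map_sum]
  simp only [fun i => h (n i) (Pi.single i 1) (hi i), Finset.sum_add_distrib]
  rw [← eq_sum_pure', ← map_sum]
  congr 2
  simp only [Matrix.smul_mulVec, ← Matrix.mulVec_smul, ← Matrix.mulVec_sum]
  congr 1
  exact (pi_eq_sum_univ' (ev (S.D.B y) n)).symm

/-- An element orthogonal to `A ⊗ v⊥` lies in `A ⊗ v`. -/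
theorem mem_range_of_orth {x : T F a b} (h : ∀ w u, S.D.B v w = 0 → S.Bt (pure w u) x = 0) :
    x ∈ LinearMap.range (pure v) := by
  refine mem_range_pure fun φ hφ => ?_
  obtain ⟨w, rfl⟩ := S.D.rep φ
  exact S.ev_eq_zero fun u => h w u (S.D.comm hφ)

/-- An isometry fixing `A ⊗ v⊥` pointwise. -/
theorem Rad.exists_zero {r : (Module.End F (T F a b))ˣ} (hv : v ≠ 0) (hvv : S.D.B v v = 0) (h : S.Rad v r)
    (h0 : S.Move v r (fun _ => 0)) :
    ∃ N : Matrix (Fin a) (Fin a) F, S.A.adj N = -(S.D.s • N) ∧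
      (r : Module.End F (T F a b)) = 1 + te N v (S.D.B v) := by
  set f := (r : Module.End F (T F a b)) - 1 with hf
  have hn : ∀ n, ev (S.D.B v) n = 0 → f n = 0 := fun n hn => by
    have hi : ∀ i, S.D.B v (n i) = 0 := fun i => congrFun hn i
    rw [eq_sum_pure' n, map_sum]
    refine Finset.sum_eq_zero fun i _ => ?_
    rw [hf, LinearMap.sub_apply, Module.End.one_apply, h0 _ _ (hi i), Matrix.zero_mulVec, map_zero, add_zero,
      sub_self]
  obtain ⟨y, hy⟩ := S.D.exists_one hv
  have hrange : ∀ m, f m ∈ LinearMap.range (pure v) := fun m => by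
    refine mem_range_of_orth (S := S) fun w u hw => ?_
    have hpw : (r : Module.End F (T F a b)) (pure w u) = pure w u :=
      sub_eq_zero.1 (hn _ (by rw [ev_pure, hw, zero_smul]))
    have h1 := h.iso (pure w u) m
    rw [hpw] at h1
    rw [hf, LinearMap.sub_apply, Module.End.one_apply, map_sub, h1, sub_self]
  set ψ : Dual F (Fin b → F) := S.D.B.flip y with hψ
  have hψv : ψ v = 1 := hy
  set N := LinearMap.toMatrix' (ev ψ ∘ₗ f ∘ₗ pure y) with hN
  have hNy : ∀ u, f (pure y u) = pure v (N *ᵥ u) := fun u => by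
    obtain ⟨z, hz⟩ := hrange (pure y u)
    rw [hN, LinearMap.toMatrix'_mulVec, LinearMap.comp_apply, LinearMap.comp_apply, ← hz, ev_pure, hψv, one_smul]
  have hval : (r : Module.End F (T F a b)) = 1 + te N v (S.D.B v) := by
    refine LinearMap.ext fun m => ?_
    have h1 := hn (m - pure y (ev (S.D.B v) m)) (by rw [map_sub, ev_pure, hy, one_smul, sub_self])
    rw [map_sub, hNy, sub_eq_zero, hf, LinearMap.sub_apply, Module.End.one_apply, sub_eq_iff_eq_add] at h1
    rw [LinearMap.add_apply, Module.End.one_apply, te_apply, h1, add_comm]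
  refine ⟨N, Matrix.ext_iff_mulVec.2 fun u' => S.A.eq_of _ _ fun u => ?_, hval⟩
  have h1 := h.iso (pure y u) (pure y u')
  rw [hval] at h1
  simp only [LinearMap.add_apply, Module.End.one_apply, te_apply, ev_pure, hy, one_smul, map_add,
    Bt_pure_pure, hvv, zero_mul, add_zero, S.D.symm v y, mul_one] at h1
  rw [← S.A.adj_spec, Matrix.neg_mulVec, Matrix.smul_mulVec, map_neg, map_smul, smul_eq_mul]
  linear_combination h1

/-- The commutator with a transformation moving along one vector. -/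
theorem commutator {r r' : (Module.End F (T F a b))ˣ} (hv : v ≠ 0) (hvv : S.D.B v v = 0)
    (h : S.Rad v r) (h' : S.Rad v r') {M : (Fin b → F) → Matrix (Fin a) (Fin a) F} (hM : S.Move v r M)
    {y' : Fin b → F} (hy' : S.D.B v y' = 0) {M' : Matrix (Fin a) (Fin a) F}
    (hM' : S.Move v r' (fun w => S.D.B y' w • M')) :
    ∃ N : Matrix (Fin a) (Fin a) F, N = M' * S.A.adj (M y') - S.D.s • (M y' * S.A.adj M') ∧
      S.A.adj N = -(S.D.s • N) ∧
      ((r * r' * r⁻¹ * r'⁻¹ : (Module.End F (T F a b))ˣ) : Module.End F (T F a b)) = 1 + te N v (S.D.B v) := by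
  set c := r * r' * r⁻¹ * r'⁻¹ with hc
  have hcr : S.Rad v c := ((h.mul h').mul h.inv).mul h'.inv
  have hc0 : S.Move v c (fun _ => 0) := by
    have := Move.mul ((h.mul h').mul h.inv) (Move.mul (h.mul h') (Move.mul h hM hM') (Move.inv h hM))
      (Move.inv h' hM')
    intro w u hw
    rw [this w u hw]
    simp
  obtain ⟨N, hN, hval⟩ := hcr.exists_zero hv hvv hc0
  refine ⟨N, ?_, hN, hval⟩
  obtain ⟨y, hy⟩ := S.D.exists_one hv
  refine Matrix.ext_iff_mulVec.2 fun u => pure_injective hv ?_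
  have key : ∀ (r : (Module.End F (T F a b))ˣ) (M : (Fin b → F) → Matrix (Fin a) (Fin a) F), S.Rad v r →
      S.Move v r M → ev (S.D.B v) ((r : Module.End F (T F a b)) (pure y u) - pure y u) = 0 ∧
      ∀ w, S.D.B v w = 0 → ev (S.D.B w) ((r : Module.End F (T F a b)) (pure y u) - pure y u) =
        -(S.A.adj (M w) *ᵥ u) := by
    intro r M h hM
    set X := (r : Module.End F (T F a b)) (pure y u) - pure y u
    have hX : (r : Module.End F (T F a b)) (pure y u) = pure y u + X := (add_sub_cancel ..).symm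
    have h0 : ev (S.D.B v) X = 0 := S.ev_eq_zero fun u' => by
      have h1 := h.iso (pure v u') (pure y u)
      rw [h.fix, hX, map_add] at h1
      simpa using h1
    refine ⟨h0, fun w hw => S.A.eq_of _ _ fun u' => ?_⟩
    have h1 := h.iso (pure w u') (pure y u)
    rw [hM w u' hw, hX] at h1
    simp only [map_add, LinearMap.add_apply, S.Bt_pure v (M w *ᵥ u') X, h0, map_zero, S.Bt_pure_pure v y,
      hy, one_mul, S.A.adj_spec, S.Bt_pure w u' X, Matrix.mulVec_zero] at h1
    rw [map_neg]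
    linear_combination h1
  obtain ⟨hX0, hXw⟩ := key r M h hM
  obtain ⟨hX0', hXw'⟩ := key r' _ h' hM'
  set X := (r : Module.End F (T F a b)) (pure y u) - pure y u
  set X' := (r' : Module.End F (T F a b)) (pure y u) - pure y u
  obtain ⟨z, hz⟩ : X' + pure y' (S.D.s • (S.A.adj M' *ᵥ u)) ∈ LinearMap.range (pure v) := by
    refine mem_range_of_orth (S := S) fun w u' hw => ?_
    rw [Bt_pure, map_add, hXw' w hw, ev_pure, S.A.adj_smul, Matrix.smul_mulVec, smul_smul, S.D.symm y' w,
      show S.D.s * S.D.B y' w * S.D.s = S.D.B y' w by linear_combination (S.D.B y' w) * S.D.s_mul_s,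
      neg_add_cancel, map_zero]
  have hX'eq : X' = pure v z - pure y' (S.D.s • (S.A.adj M' *ᵥ u)) := by rw [hz]; abel
  have h1 : (r' : Module.End F (T F a b)) X = X + pure v (M' *ᵥ -(S.A.adj (M y') *ᵥ u)) := by
    rw [move_apply hM' hX0, hXw y' hy']
  have h2 : (r : Module.End F (T F a b)) X' = X' + pure v (-(S.D.s • (M y' *ᵥ (S.A.adj M' *ᵥ u)))) := by
    rw [hX'eq, map_sub, h.fix, hM y' _ hy', Matrix.mulVec_smul, map_neg]
    abel
  have h3 : (c : Module.End F (T F a b)) ((r' : Module.End F (T F a b)) ((r : Module.End F (T F a b)) (pure y u))) =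
      (r : Module.End F (T F a b)) ((r' : Module.End F (T F a b)) (pure y u)) := by
    rw [← Module.End.mul_apply, ← Module.End.mul_apply, ← Module.End.mul_apply, ← Units.val_mul, ← Units.val_mul,
      ← Units.val_mul]
    congr 2
    rw [hc]
    group
  have e1 : (r : Module.End F (T F a b)) (pure y u) = pure y u + X := (add_sub_cancel ..).symm
  have e2 : (r' : Module.End F (T F a b)) (pure y u) = pure y u + X' := (add_sub_cancel ..).symm
  rw [e2, map_add, h2, e1, map_add, h1, e2] at h3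
  have e3 : ev (S.D.B v) (pure y u + X' + (X + pure v (M' *ᵥ -(S.A.adj (M y') *ᵥ u)))) = u := by
    rw [map_add, map_add, map_add, hX0, hX0', ev_pure, ev_pure, hy, hvv, zero_smul, one_smul, add_zero, add_zero,
      add_zero]
  rw [hval, LinearMap.add_apply, Module.End.one_apply, te_apply, e3] at h3
  simp only [Matrix.sub_mulVec, Matrix.smul_mulVec, ← Matrix.mulVec_mulVec, Matrix.mulVec_neg, map_neg,
    map_sub] at h3 ⊢
  linear_combination (norm := abel) h3

end Sys

end Cfsg.Agent.H24.Tensor
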