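import Cfsg.Agent.H24.Tensor.Rad

/-!
Without a root element outside the tensor stabiliser, the radical transformations in the group are tensors.
-/

set_option autoImplicit false
set_option linter.style.haveILetI false

namespace Cfsg.Agent.H24.Tensor

open Module Matrix Cfsg.Agent.H98.TensorGL Cfsg.Agent.H98.ExtField

variable {F : Type*} [Field F] {a b : ℕ}

namespace Sys

variable (S : Sys F a b)

/-- The dimensions the argument needs. -/
structure Good : Prop where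
  two_le : 2 ≤ a
  pos : S.D.s = 1 → 5 ≤ b ∧ a < b
  neg : S.D.s = -1 → S.A.s = 1 ∧ a < 2 * b ∧ 4 ≤ b
  orth : S.A.s = 1 → 3 ≤ a ∧ (4 ≤ a ∨ ∃ t : F, t ≠ 0 ∧ t * t ≠ 1)

variable {S}

theorem Good.a_pos (hd : S.Good) : 0 < a := by have := hd.two_le; omega

theorem Good.four (hd : S.Good) : 4 ≤ b := by
  rcases S.D.hs with h | h
  · have := hd.pos h; omega
  · exact (hd.neg h).2.2

variable (S)

/-- `N` is the matrix of an element of `X` transvecting along `A ⊗ v`. -/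
def InS (X : Subgroup (Module.End F (T F a b))ˣ) (v : Fin b → F) (N : Matrix (Fin a) (Fin a) F) : Prop :=
  S.A.adj N = -(S.D.s • N) ∧ ∃ g ∈ X, (g : Module.End F (T F a b)) = 1 + te N v (S.D.B v)

/-- Every element of `X` transvecting along some `A ⊗ v` has a scalar matrix. -/
def NoRoot (X : Subgroup (Module.End F (T F a b))ˣ) : Prop :=
  ∀ (v : Fin b → F) (N : Matrix (Fin a) (Fin a) F), v ≠ 0 → S.D.B v v = 0 → S.InS X v N → ∃ c : F, N = c • 1

variable {S}
variable {X : Subgroup (Module.End F (T F a b))ˣ} {v : Fin b → F}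

theorem NoRoot.eq_zero (hnr : S.NoRoot X) (hv : v ≠ 0) (hvv : S.D.B v v = 0) (hs : S.D.s = 1)
    {N : Matrix (Fin a) (Fin a) F} (h : S.InS X v N) : N = 0 := by
  obtain ⟨c, rfl⟩ := hnr v N hv hvv h
  have h1 := h.1
  rw [Bil.adj_smul, Bil.adj_one, hs, one_smul] at h1
  have h2 : (2 : F) • (c • (1 : Matrix (Fin a) (Fin a) F)) = 0 := by rw [two_smul]; nth_rw 2 [h1]; rw [add_neg_cancel]
  exact (smul_eq_zero.1 h2).resolve_left S.two

theorem te_one_eq_rt (v : Fin b → F) :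
    (te (1 : Matrix (Fin a) (Fin a) F) v (S.D.B v) : Module.End F (T F a b)) = rt (S.D.tau v v) :=
  LinearMap.ext fun m => funext fun i => by
    rw [te_apply, Matrix.one_mulVec, pure_apply, rt_apply, Bil.tau_mulVec, ev_apply]

/-- Radical elements moving along one vector give a space of matrices. -/
def Along (S : Sys F a b) (X : Subgroup (Module.End F (T F a b))ˣ) (v y : Fin b → F) :
    Set (Matrix (Fin a) (Fin a) F) :=
  {M | ∃ r ∈ X, S.Rad v r ∧ S.Move v r (fun w => S.D.B y w • M)}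

variable (hX : S.Over X)
include hX

/-- The commutator gives a matrix of a transvecting element. -/
theorem Over.inS_commutator (hv : v ≠ 0) (hvv : S.D.B v v = 0) {r r' : (Module.End F (T F a b))ˣ} (hrX : r ∈ X)
    (hrX' : r' ∈ X) (h : S.Rad v r) (h' : S.Rad v r') {M : (Fin b → F) → Matrix (Fin a) (Fin a) F}
    (hM : S.Move v r M) {y' : Fin b → F} (hy' : S.D.B v y' = 0) {M' : Matrix (Fin a) (Fin a) F}
    (hM' : S.Move v r' (fun w => S.D.B y' w • M')) :
    S.InS X v (M' * S.A.adj (M y') - S.D.s • (M y' * S.A.adj M')) := by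
  obtain ⟨N, hN, hadj, hval⟩ := commutator hv hvv h h' hM hy' hM'
  rw [← hN]
  exact ⟨hadj, _, X.mul_mem (X.mul_mem (X.mul_mem hrX hrX') (X.inv_mem hrX)) (X.inv_mem hrX'), hval⟩

variable (hnr : S.NoRoot X)
include hnr

theorem Over.move_symm (hv : v ≠ 0) (hvv : S.D.B v v = 0) {r : (Module.End F (T F a b))ˣ} (hrX : r ∈ X)
    (h : S.Rad v r) {M : (Fin b → F) → Matrix (Fin a) (Fin a) F} (hM : S.Move v r M) {z : Fin b → F}
    (hz : S.D.B v z = 0) : ∃ c : F, S.A.adj (M z) - S.D.s • M z = c • 1 := by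
  have h1 := hX.inS_commutator hv hvv hrX (hX.rt_sie hvv hz) h (sie_move hvv hz).1 hM hz (sie_move hvv hz).2
  rw [one_mul, Bil.adj_one, mul_one] at h1
  exact hnr v _ hv hvv h1

theorem Over.move_selfAdj (hv : v ≠ 0) (hvv : S.D.B v v = 0) (hs : S.D.s = 1) {r : (Module.End F (T F a b))ˣ}
    (hrX : r ∈ X) (h : S.Rad v r) {M : (Fin b → F) → Matrix (Fin a) (Fin a) F} (hM : S.Move v r M)
    {z : Fin b → F} (hz : S.D.B v z = 0) : S.A.adj (M z) = M z := by
  have h1 := hX.inS_commutator hv hvv hrX (hX.rt_sie hvv hz) h (sie_move hvv hz).1 hM hz (sie_move hvv hz).2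
  rw [one_mul, Bil.adj_one, mul_one, hs, one_smul] at h1
  exact sub_eq_zero.1 (hnr.eq_zero hv hvv hs h1)

/-- Scalar movement gives a tensor. -/
theorem Over.isTens_of_scalar (hd : S.Good) (hv : v ≠ 0) (hvv : S.D.B v v = 0) {r : (Module.End F (T F a b))ˣ}
    (hrX : r ∈ X) (h : S.Rad v r) {M : (Fin b → F) →ₗ[F] Matrix (Fin a) (Fin a) F} (hM : S.Move v r M)
    (hsc : ∀ w, S.D.B v w = 0 → ∃ c : F, M w = c • 1) : IsTens r := by
  have ha := hd.a_pos
  let i₀ : Fin a := ⟨0, ha⟩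
  let μ : Dual F (Fin b → F) :=
    (LinearMap.proj i₀ ∘ₗ (LinearMap.proj i₀ : Matrix (Fin a) (Fin a) F →ₗ[F] (Fin a → F))) ∘ₗ M
  have hμ : ∀ w, S.D.B v w = 0 → M w = μ w • 1 := fun w hw => by
    obtain ⟨c, hc⟩ := hsc w hw
    rw [hc]
    congr 1
    show c = M w i₀ i₀
    rw [hc, Matrix.smul_apply, Matrix.one_apply_eq, smul_eq_mul, mul_one]
  obtain ⟨z, hz⟩ := S.D.rep μ
  have hvz : S.D.B v z = 0 := by
    refine S.D.comm ?_
    rw [hz]
    have hMv : M v = 0 := Matrix.ext_iff_mulVec.2 fun u => pure_injective hv (by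
      have := hM v u hvv
      rw [h.fix, left_eq_add] at this
      rw [this, Matrix.zero_mulVec, map_zero])
    show M v i₀ i₀ = 0
    rw [hMv, Matrix.zero_apply]
  obtain ⟨hq, hqM⟩ := sie_move (S := S) (a := a) hvv hvz
  set q := rtU (a := a) (S.D.sie hvv hvz)
  have h0 : S.Move v (r * q⁻¹) (fun _ => 0) := fun w u hw => by
    rw [Move.mul h hM (Move.inv hq hqM) w u hw]
    dsimp only
    rw [hμ w hw, hz]
    simp
  obtain ⟨N, hN, hval⟩ := (h.mul hq.inv).exists_zero hv hvv h0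
  obtain ⟨c, rfl⟩ := hnr v N hv hvv ⟨hN, _, X.mul_mem hrX (X.inv_mem (hX.rt_sie hvv hvz)), hval⟩
  rw [← inv_mul_cancel_right r q]
  refine IsTens.mul (isTens_of ha (by have := hd.four; omega) (P := 1) (Q := 1 + c • S.D.tau v v) ?_) (isTens_rtU _)
  rw [hval, lt_one, one_mul, rt_add, rt_one, rt_smul, te_smul, te_one_eq_rt]

/-- The alternating case of the radical step. -/
theorem Over.scalar_neg [Finite F] (hd : S.Good) (hv : v ≠ 0) (hvv : S.D.B v v = 0) (hs : S.D.s = -1)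
    {r : (Module.End F (T F a b))ˣ} (hrX : r ∈ X) (h : S.Rad v r)
    {M : (Fin b → F) →ₗ[F] Matrix (Fin a) (Fin a) F} (hM : S.Move v r M) {z : Fin b → F}
    (hz : S.D.B v z = 0) : ∃ c : F, M z = c • 1 := by
  obtain ⟨hA, -, -⟩ := hd.neg hs
  obtain ⟨ha3, -⟩ := hd.orth hA
  have htwo := S.two
  obtain ⟨c, hc⟩ := hX.move_symm hnr hv hvv hrX h hM hz
  rw [hs, neg_one_smul, sub_neg_eq_add] at hc
  by_contra hns
  push Not at hns
  set K := M z - (c / 2) • (1 : Matrix (Fin a) (Fin a) F) with hK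
  have hKadj : S.A.adj K = -K := by
    rw [hK, Bil.adj_sub, Bil.adj_smul, Bil.adj_one, eq_sub_of_add_eq hc]
    match_scalars <;> field_simp <;> ring
  have hK0 : K ≠ 0 := fun h => hns _ (sub_eq_zero.1 h)
  have hsymA := S.A.symm' hA
  obtain ⟨n, hn, hKn⟩ : ∃ n, S.A.B n n ≠ 0 ∧ K *ᵥ n ≠ 0 := by
    by_contra hc
    push Not at hc
    obtain ⟨n, -, hn⟩ := (S.A.ndOn_top).aniso S.A hA (U := ⊤) (Bil.ne_bot_of_pos (by
      rw [Bil.finrank_top_eq]; omega))
    refine hK0 (Matrix.ext_iff_mulVec.2 fun x => ?_)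
    rw [Matrix.zero_mulVec]
    rcases ne_or_eq (S.A.B x x) 0 with hx | hx
    · exact hc x hx
    have h1 : S.A.B (x + n) (x + n) ≠ 0 ∨ S.A.B (x - n) (x - n) ≠ 0 := by
      by_contra h2
      push Not at h2
      obtain ⟨e1, e2⟩ := h2
      simp only [map_add, map_sub, LinearMap.add_apply, LinearMap.sub_apply, hx, hsymA x n] at e1 e2
      exact hn ((mul_eq_zero.1 (show (2 : F) * S.A.B n n = 0 by linear_combination e1 + e2)).resolve_left htwo)
    rcases h1 with h1 | h1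
    · have := hc _ h1
      rwa [Matrix.mulVec_add, hc n hn, add_zero] at this
    · have := hc _ h1
      rwa [Matrix.mulVec_sub, hc n hn, sub_zero] at this
  set d := K *ᵥ n with hd0
  have hnd : S.A.B n d = 0 := by
    have h1 := S.A.adj_spec K n n
    rw [hKadj, Matrix.neg_mulVec, map_neg, hsymA n (K *ᵥ n), ← hd0] at h1
    exact (mul_eq_zero.1 (show (2 : F) * S.A.B n d = 0 by linear_combination h1)).resolve_left htwo
  -- the reflection
  set P₀ : Matrix (Fin a) (Fin a) F := 1 - (2 / S.A.B n n) • S.A.tau n n with hP₀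
  have hPadj : S.A.adj P₀ = P₀ := by
    rw [hP₀, Bil.adj_sub, Bil.adj_one, Bil.adj_smul, Bil.adj_tau, hA, one_smul]
  have hPsq : P₀ * P₀ = 1 := by
    rw [hP₀]
    simp only [sub_mul, mul_sub, one_mul, mul_one, smul_mul_assoc, mul_smul_comm, Bil.tau_mul_tau, smul_smul]
    match_scalars <;> field_simp <;> ring
  let P : GL (Fin a) F := ⟨P₀, P₀, hPsq, hPsq⟩
  have hPiso : ∀ x y, S.A.B (P₀ *ᵥ x) (P₀ *ᵥ y) = S.A.B x y := fun x y => by
    rw [S.A.adj_spec, hPadj, Matrix.mulVec_mulVec, hPsq, Matrix.one_mulVec]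
  have hPX : ltU P ∈ X := hX.full hs _ (S.iso_lt hPiso) (isTens_ltU P)
  obtain ⟨h1, hM1⟩ := h.conj_lt (P := P) hPiso hM
  set r2 := ltU P * r * (ltU P)⁻¹ * r⁻¹
  have hr2X : r2 ∈ X := X.mul_mem (X.mul_mem (X.mul_mem hPX hrX) (X.inv_mem hPX)) (X.inv_mem hrX)
  have hr2 : S.Rad v r2 := h1.mul h.inv
  let M2 : (Fin b → F) → Matrix (Fin a) (Fin a) F := fun w => P₀ * M w * P₀ + -M w
  have hM2 : S.Move v r2 M2 := Move.mul h1 hM1 (Move.inv h hM)
  have hM2z : M2 z = (-(2 / S.A.B n n)) • S.A.N d n := by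
    have hMz : M z = K + (c / 2) • 1 := by rw [hK, sub_add_cancel]
    have hscal : M2 z = P₀ * K * P₀ - K := by
      show P₀ * M z * P₀ + -M z = _
      rw [hMz, mul_add, add_mul, mul_smul_comm, mul_one, smul_mul_assoc, hPsq]
      abel
    rw [hscal, hP₀]
    simp only [sub_mul, mul_sub, one_mul, mul_one, smul_mul_assoc, mul_smul_comm, Bil.tau_mul, Bil.mul_tau,
      Bil.tau_mulVec, hKadj, Matrix.neg_mulVec, ← hd0, Bil.N, hA, one_smul]
    rw [show S.A.tau n (-d) = -S.A.tau n d by simpa using S.A.tau_smul_right (-1) n d, map_neg,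
      LinearMap.neg_apply, S.A.comm hnd, neg_zero, zero_smul, Bil.tau_zero_left, smul_zero, sub_zero]
    module
  set D₀ := M2 z with hD₀
  have hhalf : S.D.B z ((2 : F)⁻¹ • z) = 0 := by rw [map_smul, S.D.self_eq_zero hs, smul_zero]
  set θ := S.D.sie (S.D.self_eq_zero hs z) hhalf
  have hθv : (θ : Matrix _ _ F) *ᵥ v = v := S.D.sieM_fix (S.D.self_eq_zero hs z) hhalf (S.D.comm hz)
    (by rw [map_smul, LinearMap.smul_apply, S.D.comm hz, smul_zero])
  obtain ⟨h3, hM3⟩ := hr2.conj_rt (θ := θ) (S.D.sieM_iso (S.D.self_eq_zero hs z) hhalf) hθv hM2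
  set r3 := rtU θ * r2 * (rtU θ)⁻¹ * r2⁻¹
  have hθX : rtU θ ∈ X := hX.rt_sie _ _
  have hr3X : r3 ∈ X := X.mul_mem (X.mul_mem (X.mul_mem hθX hr2X) (X.inv_mem hθX)) (X.inv_mem hr2X)
  have hr3 : S.Rad v r3 := h3.mul hr2.inv
  have hM3' : S.Move v r3 (fun w => S.D.B z w • -D₀) := fun w u hw => by
    rw [Move.mul h3 hM3 (Move.inv hr2 hM2) w u hw]
    congr 3
    have : (↑θ⁻¹ : Matrix (Fin b) (Fin b) F) *ᵥ w = w - S.D.B z w • z := by
      rw [Bil.sie_inv, Bil.sie_val, S.D.sieM_mulVec (S.D.self_eq_zero hs z) (by rw [map_neg, hhalf, neg_zero]),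
        hs, S.D.self_eq_zero hs]
      simp only [map_neg, map_smul, LinearMap.neg_apply, LinearMap.smul_apply, smul_eq_mul]
      match_scalars <;> field_simp <;> ring
    simp only [this, M2, hD₀, map_sub, map_smul, mul_sub, sub_mul, mul_smul_comm, smul_mul_assoc]
    module
  have h4 := hX.inS_commutator hv hvv hr2X hr3X hr2 hr3 hM2 hz hM3'
  set k := -(2 / S.A.B n n)
  have hk : k ≠ 0 := neg_ne_zero.2 (div_ne_zero htwo hn)
  set W := S.A.N d n
  rw [← hD₀, hM2z, hs, Bil.adj_neg, Bil.adj_smul, Bil.adj_N] at h4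
  obtain ⟨e, he⟩ := hnr v _ hv hvv h4
  have he' : W * W = (e / (2 * (k * k))) • (1 : Matrix (Fin a) (Fin a) F) := by
    rw [div_eq_inv_mul, ← smul_smul, ← he, eq_comm, inv_smul_eq_iff₀ (mul_ne_zero htwo (mul_ne_zero hk hk))]
    simp only [neg_mul, mul_neg, smul_mul_assoc, mul_smul_comm, neg_neg, smul_neg, smul_smul]
    module
  have hd0' : d ∉ Submodule.span F {n} := fun hm => hKn (by
    obtain ⟨t, ht⟩ := Submodule.mem_span_singleton.1 hm
    rw [← ht, map_smul, smul_eq_mul] at hnd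
    rw [← ht, (mul_eq_zero.1 hnd).resolve_right hn, zero_smul])
  have hn0 : n ≠ 0 := fun h => hn (by simp [h])
  have hW : ∀ y, W *ᵥ (W *ᵥ y) = -(S.A.B n y * S.A.B d d) • n - (S.A.B d y * S.A.B n n) • d := fun y => by
    simp only [W, Bil.N_mulVec, hA, one_mul, Matrix.mulVec_sub, Matrix.mulVec_smul, hnd, S.A.comm hnd]
    module
  obtain ⟨x₀, hx0, hx1, hx2⟩ := exists_vec_two ha3 (S.A.B n) (S.A.B d)
  have e0 := congrArg (· *ᵥ x₀) he'
  simp only [← Matrix.mulVec_mulVec, hW, hx1, hx2, zero_mul, neg_zero, zero_smul, sub_zero, Matrix.smul_mulVec,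
    Matrix.one_mulVec] at e0
  have he0 := (smul_eq_zero.1 e0.symm).resolve_right hx0
  obtain ⟨x₁, hx₁, hx₁'⟩ := S.A.exists_two hn0 hd0' 0 1
  have e1 := congrArg (· *ᵥ x₁) he'
  simp only [← Matrix.mulVec_mulVec, hW, hx₁, hx₁', he0, zero_mul, neg_zero, zero_smul, zero_sub, one_mul,
    Matrix.smul_mulVec, neg_eq_zero, smul_eq_zero] at e1
  simp only [Matrix.zero_mulVec, neg_eq_zero, smul_eq_zero] at e1
  exact e1.elim hn hKn

/-- The symmetric case of the radical step. -/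
theorem Over.scalar_pos [Finite F] (hd : S.Good) (hv : v ≠ 0) (hvv : S.D.B v v = 0) (hs : S.D.s = 1)
    {r : (Module.End F (T F a b))ˣ} (hrX : r ∈ X) (h : S.Rad v r)
    {M : (Fin b → F) →ₗ[F] Matrix (Fin a) (Fin a) F} (hM : S.Move v r M) {z : Fin b → F}
    (hz : S.D.B v z = 0) : ∃ c : F, M z = c • 1 := by
  obtain ⟨hb, -⟩ := hd.pos hs
  have htwo := S.two
  have hsym := S.D.symm' hs
  obtain ⟨v', -, hv'v', hvv'⟩ := (S.D.ndOn_top).partner S.D (x := v) trivial hv hvv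
  set U := S.D.cut ⊤ v v'
  have hU : S.D.NdOn U := (S.D.ndOn_top).cut_pair S.D trivial trivial hvv hv'v' hvv'
  have hdU : b ≤ finrank F U + 2 := by
    have := S.D.finrank_cut ⊤ v v'
    rwa [Bil.finrank_top_eq] at this
  by_contra hns
  let Sc : Submodule F (Fin b → F) := (Submodule.span F {(1 : Matrix (Fin a) (Fin a) F)}).comap M
  obtain ⟨x, hxU, hxx, hMx⟩ : ∃ x ∈ U, S.D.B x x = 0 ∧ x ∉ Sc := by
    by_contra hc
    push Not at hc
    have hle := hU.le_of_isotropic S.D hs (by omega) Sc hc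
    have hvS : v ∈ Sc := by
      have hMv : M v = 0 := Matrix.ext_iff_mulVec.2 fun u => pure_injective hv (by
        have := hM v u hvv
        rw [h.fix, left_eq_add] at this
        rw [this, Matrix.zero_mulVec, map_zero])
      show v ∈ Submodule.comap M _
      rw [Submodule.mem_comap, hMv]
      exact zero_mem _
    have h1 := hle (S.D.proj_mem (U := ⊤) (z := z) (x := v) (y := v') trivial trivial trivial hvv hv'v' hvv')
    rw [hz, zero_smul, sub_zero] at h1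
    have h2 := Sc.add_mem h1 (Sc.smul_mem (S.D.s * S.D.B v' z) hvS)
    rw [sub_add_cancel] at h2
    obtain ⟨c, hc⟩ := Submodule.mem_span_singleton.1 h2
    exact hns ⟨c, hc.symm⟩
  have hx0 : x ≠ 0 := fun h => hMx (by rw [h]; exact zero_mem _)
  obtain ⟨x2, hx2U, hx2x2, hxx2⟩ := hU.partner S.D hxU hx0 hxx
  have hU2 := hU.cut_pair S.D hxU hx2U hxx hx2x2 hxx2
  have hdU2 : finrank F U ≤ finrank F (S.D.cut U x x2) + 2 := S.D.finrank_cut U x x2
  obtain ⟨n, hn, hnn⟩ := hU2.aniso S.D hs (Bil.ne_bot_of_pos (by omega))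
  obtain ⟨hnU, hxn, hx2n⟩ := S.D.mem_cut.1 hn
  have hvx : S.D.B v x = 0 := (S.D.mem_cut.1 hxU).2.1
  have hvn : S.D.B v n = 0 := (S.D.mem_cut.1 hnU).2.1
  have hvx2 : S.D.B v x2 = 0 := (S.D.mem_cut.1 hx2U).2.1
  -- move twice
  set θ := S.D.sie hxx hxn
  have hθv : (θ : Matrix _ _ F) *ᵥ v = v := S.D.sieM_fix hxx hxn (S.D.comm hvx) (S.D.comm hvn)
  have hθX : rtU θ ∈ X := hX.rt_sie _ _
  have hθinv : ∀ w, (↑θ⁻¹ : Matrix (Fin b) (Fin b) F) *ᵥ w =
      w - S.D.B n w • x + S.D.B x w • n - ((2 : F)⁻¹ * S.D.B n n * S.D.B x w) • x := fun w => by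
    rw [Bil.sie_inv, Bil.sie_val, S.D.sieM_mulVec hxx (by rw [map_neg, hxn, neg_zero]), hs]
    simp only [map_neg, LinearMap.neg_apply, one_mul, mul_neg, neg_neg]
    module
  let r1 := rtU θ * r * (rtU θ)⁻¹ * r⁻¹
  let M1 : (Fin b → F) → Matrix (Fin a) (Fin a) F := fun w =>
    (-S.D.B n w - (2 : F)⁻¹ * S.D.B n n * S.D.B x w) • M x + S.D.B x w • M n
  obtain ⟨h1, hM1⟩ := h.conj_rt (θ := θ) (S.D.sieM_iso hxx hxn) hθv hM
  have hr1 : S.Rad v r1 := h1.mul h.inv
  have hr1X : r1 ∈ X := X.mul_mem (X.mul_mem (X.mul_mem hθX hrX) (X.inv_mem hθX)) (X.inv_mem hrX)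
  have hM1' : S.Move v r1 M1 := fun w u hw => by
    rw [Move.mul h1 hM1 (Move.inv h hM) w u hw]
    dsimp only
    rw [hθinv]
    congr 3
    simp only [map_add, map_sub, map_smul, M1]
    module
  obtain ⟨h2, hM2⟩ := hr1.conj_rt (θ := θ) (S.D.sieM_iso hxx hxn) hθv hM1'
  let r2 := rtU θ * r1 * (rtU θ)⁻¹ * r1⁻¹
  have hr2 : S.Rad v r2 := h2.mul hr1.inv
  have hr2X : r2 ∈ X := X.mul_mem (X.mul_mem (X.mul_mem hθX hr1X) (X.inv_mem hθX)) (X.inv_mem hr1X)
  set M₀ := (-S.D.B n n) • M x with hM₀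
  have hM2' : S.Move v r2 (fun w => S.D.B x w • M₀) := fun w u hw => by
    rw [Move.mul h2 hM2 (Move.inv hr1 hM1') w u hw]
    dsimp only
    rw [hθinv]
    congr 3
    simp only [M1, map_add, map_sub, map_smul, smul_eq_mul, hxx, hxn, S.D.comm hxn, hM₀]
    module
  have hmem : M₀ ∈ Along S X v x := ⟨r2, hr2X, hr2, hM2'⟩
  have hM₀ns : ∀ t : F, M₀ ≠ t • 1 := fun t ht => hMx (Submodule.mem_span_singleton.2 ⟨(-S.D.B n n)⁻¹ * t, by
    rw [mul_smul, ← ht, hM₀, inv_smul_smul₀ (neg_ne_zero.2 hnn)]⟩)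
  have hsa : ∀ N ∈ Along S X v x, S.A.adj N = N := fun N ⟨s, hsX, hsr, hsM⟩ => by
    have := hX.move_selfAdj hnr hv hvv hs hsX hsr hsM hvx2
    simpa only [hxx2, one_smul] using this
  set Wsp := Submodule.span F (Along S X v x)
  have hinv : S.A.Inv Wsp := by
    intro p q hp hq N hN
    induction hN using Submodule.span_induction with
    | mem N hN =>
      obtain ⟨s, hsX, hsr, hsM⟩ := hN
      obtain ⟨h5, hM5⟩ := hsr.conj_lt (P := S.A.sie hp hq) (S.A.sieM_iso hp hq) hsM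
      refine Submodule.subset_span
        ⟨_, X.mul_mem (X.mul_mem (hX.lt_sie hp hq) hsX) (X.inv_mem (hX.lt_sie hp hq)), h5, fun w u hw => ?_⟩
      rw [hM5 w u hw]
      dsimp only
      rw [Bil.sie_inv, Bil.sie_val, Bil.sie_val, mul_smul_comm, smul_mul_assoc]
    | zero => simp
    | add N N' _ _ ih ih' => rw [mul_add, add_mul]; exact Wsp.add_mem ih ih'
    | smul c N _ ih => rw [mul_smul_comm, smul_mul_assoc]; exact Wsp.smul_mem c ih
  -- the matrices commute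
  set θ' := S.D.sie hx2x2 hx2n
  have hθ'v : (θ' : Matrix _ _ F) *ᵥ v = v := S.D.sieM_fix hx2x2 hx2n (S.D.comm hvx2) (S.D.comm hvn)
  set x' := (θ' : Matrix (Fin b) (Fin b) F) *ᵥ x with hx'
  have hvx' : S.D.B v x' = 0 := by
    rw [hx']
    conv_lhs => rw [← hθ'v]
    rw [S.D.sieGrp_iso (S.D.sie_mem hx2x2 hx2n), hvx]
  have hxx' : S.D.B x x' ≠ 0 := by
    rw [hx', Bil.sie_val, S.D.sieM_mulVec hx2x2 hx2n, hs, S.D.comm hxn]
    simp only [map_add, map_sub, map_smul, hxx, hxx2, hxn, smul_eq_mul, hsym x x2]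
    simp [htwo, hnn]
  have hcomm : ∀ N ∈ Along S X v x, ∀ N' ∈ Along S X v x, N * N' = N' * N := by
    intro N hN N' hN'
    obtain ⟨s, hsX, hsr, hsM⟩ := hN
    obtain ⟨s', hsX', hsr', hsM'⟩ := hN'
    obtain ⟨h6, hM6⟩ := hsr'.conj_rt (θ := θ') (S.D.sieM_iso hx2x2 hx2n) hθ'v hsM'
    have hM6' : S.Move v (rtU θ' * s' * (rtU θ')⁻¹) (fun w => S.D.B x' w • N') := fun w u hw => by
      rw [hM6 w u hw]
      dsimp only
      congr 4
      rw [hx']
      conv_rhs => rw [← Matrix.one_mulVec w, ← Units.mul_inv θ', ← Matrix.mulVec_mulVec,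
        S.D.sieGrp_iso (S.D.sie_mem hx2x2 hx2n)]
    have h7 := hX.inS_commutator hv hvv hsX
      (X.mul_mem (X.mul_mem (hX.rt_sie hx2x2 hx2n) hsX') (X.inv_mem (hX.rt_sie hx2x2 hx2n))) hsr h6 hsM hvx' hM6'
    have h8 := hnr.eq_zero hv hvv hs h7
    rw [hs, one_smul, Bil.adj_smul, hsa N ⟨s, hsX, hsr, hsM⟩, hsa N' ⟨s', hsX', hsr', hsM'⟩, mul_smul_comm,
      smul_mul_assoc, ← smul_sub, smul_eq_zero] at h8
    exact (sub_eq_zero.1 (h8.resolve_left hxx')).symm
  have hcomm' : ∀ N ∈ Wsp, ∀ N' ∈ Wsp, N * N' = N' * N := by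
    intro N hN
    induction hN using Submodule.span_induction with
    | mem N hN =>
      intro N' hN'
      induction hN' using Submodule.span_induction with
      | mem N' hN' => exact hcomm N hN N' hN'
      | zero => simp
      | add P Q _ _ ih ih' => rw [mul_add, add_mul, ih, ih']
      | smul c P _ ih => rw [mul_smul_comm, smul_mul_assoc, ih]
    | zero => simp
    | add P Q _ _ ih ih' => intro N' hN'; rw [mul_add, add_mul, ih N' hN', ih' N' hN']
    | smul c P _ ih => intro N' hN'; rw [mul_smul_comm, smul_mul_assoc, ih N' hN']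
  rcases S.A.hs with hA | hA
  · obtain ⟨ha3, hq⟩ := hd.orth hA
    obtain ⟨p, hp0, hpp, hp⟩ := hinv.tau_mem S.A hA ha3 hq (Submodule.subset_span hmem) (hsa _ hmem) hM₀ns
    exact hinv.not_comm S.A hA ha3 hp0 hpp hp hcomm'
  · exact hinv.not_comm_alt S.A hA (Submodule.subset_span hmem) (hsa _ hmem) hM₀ns hcomm'

/-- The radical step. -/
theorem Over.isTens_of_rad [Finite F] (hd : S.Good) (hv : v ≠ 0) (hvv : S.D.B v v = 0)
    {r : (Module.End F (T F a b))ˣ} (hrX : r ∈ X) (h : S.Rad v r) : IsTens r := by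
  obtain ⟨M, hM⟩ := h.exists_move hv
  refine hX.isTens_of_scalar hnr hd hv hvv hrX h hM fun w hw => ?_
  rcases S.D.hs with hs | hs
  · exact hX.scalar_pos hnr hd hv hvv hs hrX h hM hw
  · exact hX.scalar_neg hnr hd hv hvv hs hrX h hM hw

end Sys

end Cfsg.Agent.H24.Tensor
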