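import Cfsg.Agent.H24.Tensor.Root

/-!
The matrices of the transvecting elements form one invariant space for all isotropic vectors of the second factor.
-/

set_option autoImplicit false

namespace Cfsg.Agent.H24.Tensor

open Module Matrix Cfsg.Agent.H98.TensorGL Cfsg.Agent.H98.ExtField

variable {F : Type*} [Field F] {a b : ℕ}

namespace Sys

variable {S : Sys F a b} {X : Subgroup (Module.End F (T F a b))ˣ} (hX : S.Over X) {v : Fin b → F}
include hX

theorem Over.inS_zero : S.InS X v 0 :=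
  ⟨by rw [Bil.adj_zero, smul_zero, neg_zero], 1, X.one_mem, by rw [Units.val_one, te_zero_left, add_zero]⟩

theorem Over.inS_add (hvv : S.D.B v v = 0) {N N' : Matrix (Fin a) (Fin a) F} (h : S.InS X v N)
    (h' : S.InS X v N') : S.InS X v (N + N') := by
  obtain ⟨g, hg, e⟩ := h.2
  obtain ⟨g', hg', e'⟩ := h'.2
  refine ⟨by rw [Bil.adj_add, h.1, h'.1, smul_add, neg_add], g * g', X.mul_mem hg hg', ?_⟩
  rw [Units.val_mul, e, e', add_mul, one_mul, mul_add, mul_one, te_mul_te, hvv, zero_smul, add_zero, te_add]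
  abel

theorem Over.inS_neg (hvv : S.D.B v v = 0) {N : Matrix (Fin a) (Fin a) F} (h : S.InS X v N) :
    S.InS X v (-N) := by
  obtain ⟨g, hg, e⟩ := h.2
  refine ⟨by rw [Bil.adj_neg, h.1, smul_neg], g⁻¹, X.inv_mem hg, ?_⟩
  refine Units.inv_eq_of_mul_eq_one_right ?_
  rw [e, add_mul, one_mul, mul_add, mul_one, te_mul_te, hvv, zero_smul, add_zero, add_assoc, ← te_add,
    neg_add_cancel, te_zero_left, add_zero]

theorem Over.inS_rt {θ : GL (Fin b) F} (hθ : θ ∈ S.D.sieGrp) {N : Matrix (Fin a) (Fin a) F}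
    (h : S.InS X v N) : S.InS X ((θ : Matrix (Fin b) (Fin b) F) *ᵥ v) N := by
  obtain ⟨g, hg, e⟩ := h.2
  refine ⟨h.1, rtU θ * g * (rtU θ)⁻¹, X.mul_mem (X.mul_mem (hX.rt_grp hθ) hg) (X.inv_mem (hX.rt_grp hθ)), ?_⟩
  refine LinearMap.ext fun m => ?_
  rw [← map_inv, Units.val_mul, Units.val_mul, rtU_val, rtU_val, Module.End.mul_apply, Module.End.mul_apply, e,
    LinearMap.add_apply, LinearMap.add_apply, map_add, Module.End.one_apply, Module.End.one_apply,
    ← Module.End.mul_apply, ← rt_mul, Units.mul_inv, rt_one, Module.End.one_apply, te_apply, te_apply, rt_pure]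
  congr 3
  refine funext fun i => ?_
  rw [ev_apply, ev_apply, rt_apply]
  conv_lhs => rw [← S.D.sieGrp_iso hθ, Matrix.mulVec_mulVec, Units.mul_inv, Matrix.one_mulVec]

theorem Over.inS_lt {g : GL (Fin a) F} (hg : g ∈ S.A.sieGrp) {N : Matrix (Fin a) (Fin a) F} (h : S.InS X v N) :
    S.InS X v ((g : Matrix (Fin a) (Fin a) F) * N * (↑g⁻¹ : Matrix (Fin a) (Fin a) F)) := by
  obtain ⟨r, hr, e⟩ := h.2
  have hadj : ∀ g ∈ S.A.sieGrp, S.A.adj (g : Matrix (Fin a) (Fin a) F) = (↑g⁻¹ : Matrix (Fin a) (Fin a) F) :=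
    fun g hg => S.A.adj_eq fun x y => by
      conv_rhs => rw [← S.A.sieGrp_iso hg, Matrix.mulVec_mulVec, Units.mul_inv, Matrix.one_mulVec]
  refine ⟨?_, ltU g * r * (ltU g)⁻¹, X.mul_mem (X.mul_mem (hX.lt_grp hg) hr) (X.inv_mem (hX.lt_grp hg)), ?_⟩
  · rw [Bil.adj_mul, Bil.adj_mul, h.1, hadj g hg, hadj g⁻¹ (Subgroup.inv_mem _ hg), inv_inv, Matrix.neg_mul, Matrix.mul_neg,
      smul_mul_assoc, mul_smul_comm, ← mul_assoc]
  · rw [← map_inv, Units.val_mul, Units.val_mul, ltU_val, ltU_val, e, mul_add, mul_one, add_mul, ← lt_mul,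
      Units.mul_inv, lt_one, lt_mul_te, te_mul_lt]

theorem Over.inS_smul [Finite F] (hd : S.Good) (hv : v ≠ 0) (hvv : S.D.B v v = 0) (c : F)
    {N : Matrix (Fin a) (Fin a) F} (h : S.InS X v N) : S.InS X v (c • N) := by
  have hsq : ∀ l : F, S.InS X v ((l * l) • N) := fun l => by
    rcases eq_or_ne l 0 with rfl | hl
    · rw [mul_zero, zero_smul]; exact hX.inS_zero
    obtain ⟨θ, hθ, hθv⟩ := S.D.moves (fun _ => hd.four) hv (smul_ne_zero hl hv) hvv (by simp [hvv])
    obtain ⟨g, hg, e⟩ := (hX.inS_rt hθ h).2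
    refine ⟨by rw [Bil.adj_smul, h.1, smul_neg, smul_comm], g, hg, ?_⟩
    rw [e, hθv, add_right_inj]
    refine LinearMap.ext fun m => ?_
    rw [te_apply, te_apply, map_smul, pure_smul', Matrix.smul_mulVec]
    congr 1
    rw [show ev (l • S.D.B v) m = l • ev (S.D.B v) m from funext fun i => rfl, Matrix.mulVec_smul, smul_smul]
  have htwo := S.two
  have e : c • N = (((c + 1) / 2) * ((c + 1) / 2)) • N + -((((c - 1) / 2) * ((c - 1) / 2)) • N) := by
    rw [← sub_eq_add_neg, ← sub_smul]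
    congr 1
    field_simp
    ring
  rw [e]
  exact hX.inS_add hvv (hsq _) (hX.inS_neg hvv (hsq _))

theorem Over.inS_move [Finite F] (hd : S.Good) (hv : v ≠ 0) (hvv : S.D.B v v = 0) {u : Fin b → F} (hu : u ≠ 0)
    (huu : S.D.B u u = 0) {N : Matrix (Fin a) (Fin a) F} (h : S.InS X v N) : S.InS X u N := by
  obtain ⟨θ, hθ, hθv⟩ := S.D.moves (fun _ => hd.four) hv hu hvv huu
  rw [← hθv]
  exact hX.inS_rt hθ h

omit hX in
/-- The space of these matrices. -/
noncomputable def rootSpace [Finite F] (hX : S.Over X) (hd : S.Good) (hv : v ≠ 0) (hvv : S.D.B v v = 0) :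
    Submodule F (Matrix (Fin a) (Fin a) F) where
  carrier := {N | S.InS X v N}
  zero_mem' := hX.inS_zero
  add_mem' := hX.inS_add hvv
  smul_mem' c _ h := hX.inS_smul hd hv hvv c h

theorem Over.rootSpace_inv [Finite F] (hd : S.Good) (hv : v ≠ 0) (hvv : S.D.B v v = 0) :
    S.A.Inv (rootSpace hX hd hv hvv) := fun x z hx hz N hN => by
  have h := hX.inS_lt (S.A.sie_mem hx hz) hN
  rwa [Bil.sie_inv, Bil.sie_val, Bil.sie_val] at h

end Sys

end Cfsg.Agent.H24.Tensor
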