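import Mathlib

/-!
Two lemmas on two by two matrices of determinant one in odd characteristic: involutions are scalar, and a solvable
group containing an upper and a lower unitriangular matrix other than the identity contains an involution.
-/

set_option autoImplicit false

namespace Cfsg.Agent.H24.Tensor

open Matrix

/-- An involution of determinant one is scalar. -/
theorem sl_two_sq {R : Type*} [CommRing R] (h2 : IsUnit (2 : R)) (M : SpecialLinearGroup (Fin 2) R)
    (hM : M * M = 1) :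
    ∃ a : R, a * a = 1 ∧ M 0 0 = a ∧ M 1 1 = a ∧ M 0 1 = 0 ∧ M 1 0 = 0 := by
  have hd : M 0 0 * M 1 1 - M 0 1 * M 1 0 = 1 := by rw [← det_fin_two]; exact M.2
  have h : (M : Matrix (Fin 2) (Fin 2) R) * (M : Matrix (Fin 2) (Fin 2) R) = 1 := by
    exact congrArg Subtype.val hM
  have h00 := congrFun (congrFun h 0) 0
  have h01 := congrFun (congrFun h 0) 1
  have h10 := congrFun (congrFun h 1) 0
  simp [Matrix.mul_apply, Fin.sum_univ_two] at h00 h01 h10
  obtain ⟨t, ht⟩ := h2
  set w := ((t⁻¹ : Rˣ) : R)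
  have hw : w * 2 = 1 := by rw [← ht]; exact t.inv_mul
  have hu : M 0 0 * (M 0 0 + M 1 1) = 2 := by linear_combination h00 + hd
  have h01' : M 0 1 = 0 := by
    linear_combination (w * M 0 0) * h01 - (w * M 0 1) * hu - (M 0 1) * hw
  have h10' : M 1 0 = 0 := by
    linear_combination (w * M 0 0) * h10 - (w * M 1 0) * hu - (M 1 0) * hw
  refine ⟨M 0 0, ?_, rfl, ?_, h01', h10'⟩
  · rw [h01', zero_mul, add_zero] at h00
    exact h00
  · rw [h01', zero_mul, add_zero] at h00
    rw [h01', zero_mul, sub_zero] at hd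
    linear_combination (M 0 0) * hd - (M 1 1) * h00

/-- A solvable subgroup with non-trivial upper and lower unitriangular elements contains `-1`. -/
theorem exists_neg_one {K : Type*} [Field K] (h2 : (2 : K) ≠ 0) (H : Subgroup (SpecialLinearGroup (Fin 2) K))
    [Group.IsSolvable H] {lam mu : K} (hl : lam ≠ 0) (hm : mu ≠ 0) {u l : SpecialLinearGroup (Fin 2) K}
    (hu : u ∈ H) (hlow : l ∈ H) (hu' : (u : Matrix (Fin 2) (Fin 2) K) = !![1, lam; 0, 1])
    (hl' : (l : Matrix (Fin 2) (Fin 2) K) = !![1, 0; mu, 1]) :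
    ∃ n ∈ H, n ≠ 1 ∧ n * n = 1 := by
  classical
  have hHne : (⊤ : Subgroup H) ≠ ⊥ := by
    intro h
    have h1 : (⟨u, hu⟩ : H) = 1 := Subgroup.mem_bot.1 (h ▸ Subgroup.mem_top _)
    have h2 := congrArg (fun x : SpecialLinearGroup (Fin 2) K => (x : Matrix (Fin 2) (Fin 2) K) 0 1)
      (congrArg Subtype.val h1)
    simp [hu'] at h2
    exact hl h2
  obtain ⟨k, hk, hk'⟩ : ∃ k, derivedSeries H k ≠ ⊥ ∧ derivedSeries H (k + 1) = ⊥ := by
    obtain ⟨n, hn⟩ := (Group.isSolvable_def H).1 inferInstance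
    by_contra hc
    push Not at hc
    have : ∀ k, derivedSeries H k ≠ ⊥ := fun k => by
      induction k with
      | zero => rw [derivedSeries_zero]; exact hHne
      | succ k ih => exact hc k ih
    exact this n hn
  obtain ⟨n, hn, hn1⟩ := (Subgroup.ne_bot_iff_exists_ne_one).1 hk |> fun ⟨⟨x, hx⟩, hx1⟩ =>
    (⟨x, hx, fun e => hx1 (Subtype.ext e)⟩ : ∃ x, x ∈ derivedSeries H k ∧ x ≠ 1)
  have hcomm : ∀ g : H, (g * n * g⁻¹) * n = n * (g * n * g⁻¹) := fun g =>
    (commutatorElement_eq_one_iff_mul_comm.1 (Subgroup.mem_bot.1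
      (hk' ▸ Subgroup.commutator_mem_commutator ((derivedSeries_normal H k).conj_mem n hn g) hn)))
  have key : ∀ g : H, ((g : SpecialLinearGroup (Fin 2) K) : Matrix (Fin 2) (Fin 2) K) *
      ((n : SpecialLinearGroup (Fin 2) K) : Matrix (Fin 2) (Fin 2) K) *
        ((g : SpecialLinearGroup (Fin 2) K) : Matrix (Fin 2) (Fin 2) K).adjugate *
          ((n : SpecialLinearGroup (Fin 2) K) : Matrix (Fin 2) (Fin 2) K) =
      ((n : SpecialLinearGroup (Fin 2) K) : Matrix (Fin 2) (Fin 2) K) *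
        (((g : SpecialLinearGroup (Fin 2) K) : Matrix (Fin 2) (Fin 2) K) *
      ((n : SpecialLinearGroup (Fin 2) K) : Matrix (Fin 2) (Fin 2) K) *
        ((g : SpecialLinearGroup (Fin 2) K) : Matrix (Fin 2) (Fin 2) K).adjugate) := fun g => by
    have := congrArg (fun x : H => ((x : SpecialLinearGroup (Fin 2) K) : Matrix (Fin 2) (Fin 2) K)) (hcomm g)
    simpa [SpecialLinearGroup.coe_inv] using this
  have k1 := key ⟨u, hu⟩
  have k2 := key ⟨l, hlow⟩
  simp only [hu', hl', adjugate_fin_two_of] at k1 k2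
  generalize hN : ((n : SpecialLinearGroup (Fin 2) K) : Matrix (Fin 2) (Fin 2) K) = N at k1 k2
  have hdet : N 0 0 * N 1 1 - N 0 1 * N 1 0 = 1 := by
    rw [← det_fin_two, ← hN]; exact (n : SpecialLinearGroup (Fin 2) K).2
  rw [Matrix.eta_fin_two N, Matrix.mul_fin_two, Matrix.mul_fin_two, Matrix.mul_fin_two, Matrix.mul_fin_two] at k1 k2
  have e10 := congrFun (congrFun k1 1) 0
  have e01 := congrFun (congrFun k2 0) 1
  have e11 := congrFun (congrFun k1 0) 1
  simp at e10 e01 e11
  have c0 : N 1 0 = 0 := by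
    have : 2 * lam * (N 1 0 * N 1 0) = 0 := by linear_combination -e10
    simpa [h2, hl] using this
  have b0 : N 0 1 = 0 := by
    have : 2 * mu * (N 0 1 * N 0 1) = 0 := by linear_combination -e01
    simpa [h2, hm] using this
  simp [c0, b0] at e11
  have hps : N 0 0 = N 1 1 := by
    have : lam * ((N 0 0 - N 1 1) * (N 0 0 - N 1 1)) = 0 := by linear_combination e11
    simpa [hl, sub_eq_zero] using this
  have hsq : N 0 0 * N 0 0 = 1 := by rw [b0, zero_mul, sub_zero, ← hps] at hdet; exact hdet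
  refine ⟨n, n.2, fun e => hn1 (Subtype.ext e), ?_⟩
  refine Subtype.ext ?_
  show ((n : SpecialLinearGroup (Fin 2) K) : Matrix (Fin 2) (Fin 2) K) * (n : SpecialLinearGroup (Fin 2) K) = 1
  rw [hN]
  refine Matrix.ext fun i j => ?_
  fin_cases i <;> fin_cases j <;> simp [Matrix.mul_apply, Fin.sum_univ_two, c0, b0, ← hps, hsq]

end Cfsg.Agent.H24.Tensor
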