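import Cfsg.Agent.H24.Tensor.Engine
import Cfsg.Agent.H24.Tensor.RootSpace
import Cfsg.Agent.H24.Tensor.Closure

/-!
For an alternating product form, a group strictly above the tensor stabiliser contains every transvection.
-/

set_option autoImplicit false

namespace Cfsg.Agent.H24.Tensor

open Module Matrix Cfsg.Agent.H98.TensorGL Cfsg.Agent.H98.ExtField

variable {F : Type*} [Field F] {a b : ℕ}

/-- An isometry conjugates the rank one map at a vector to the one at its image. -/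
theorem Bil.conj_tau {n : ℕ} (β : Bil F n) {g : GL (Fin n) F} (hg : g ∈ β.sieGrp) (x : Fin n → F) :
    (g : Matrix (Fin n) (Fin n) F) * β.tau x x * (↑g⁻¹ : Matrix (Fin n) (Fin n) F) =
      β.tau ((g : Matrix (Fin n) (Fin n) F) *ᵥ x) ((g : Matrix (Fin n) (Fin n) F) *ᵥ x) := by
  have h : β.adj (↑g⁻¹ : Matrix (Fin n) (Fin n) F) = (g : Matrix (Fin n) (Fin n) F) := β.adj_eq fun p q => by
    conv_lhs => rw [← β.sieGrp_iso hg, Matrix.mulVec_mulVec, Units.mul_inv, Matrix.one_mulVec]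
  rw [β.mul_tau, β.tau_mul, h]

/-- The isotropic vectors span. -/
theorem Bil.mem_of_isotropic [Finite F] {n : ℕ} (β : Bil F n) (hn : β.s = 1 → 3 ≤ n)
    (W : Submodule F (Fin n → F)) (h : ∀ x, β.B x x = 0 → x ∈ W) (x : Fin n → F) : x ∈ W := by
  rcases β.hs with hs | hs
  · exact β.ndOn_top.le_of_isotropic β hs (by rw [Bil.finrank_top_eq]; exact hn hs) W
      (fun y _ => h y) Submodule.mem_top
  · exact h x (β.self_eq_zero hs x)

namespace Sys

variable {S : Sys F a b} {X : Subgroup (Module.End F (T F a b))ˣ}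

theorem Bt_self (hε : S.A.s * S.D.s = -1) (x : T F a b) : S.Bt x x = 0 := by
  have h := S.Bt_symm x x
  rw [hε] at h
  exact (mul_eq_zero.1 (show (2 : F) * S.Bt x x = 0 by linear_combination h)).resolve_left S.two

theorem Bt_nd (x : T F a b) (h : ∀ y, S.Bt x y = 0) : x = 0 := funext fun i => S.D.nd' fun v => by
  have h1 := S.ev_eq_zero (v := v) (y := x) fun u => by rw [S.Bt_symm, h, mul_zero]
  exact congrFun h1 i

/-- The transvections at `p` lie in `X`. -/
def TR (S : Sys F a b) (X : Subgroup (Module.End F (T F a b))ˣ) (p : T F a b) : Prop :=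
  ∀ l : F, ∃ g ∈ X, (g : Module.End F (T F a b)) = 1 + l • (S.Bt p).smulRight p

theorem TR.smul (c : F) {p : T F a b} (h : S.TR X p) : S.TR X (c • p) := fun l => by
  obtain ⟨g, hg, e⟩ := h (l * c * c)
  refine ⟨g, hg, e.trans (LinearMap.ext fun m => ?_)⟩
  simp only [LinearMap.add_apply, LinearMap.smul_apply, LinearMap.smulRight_apply, map_smul, smul_eq_mul, smul_smul]
  congr 2
  ring

theorem Over.tr_line (hX : S.Over X) {p q : T F a b} (hp : S.TR X p) (hq : S.TR X q) (hpq : S.Bt p q ≠ 0)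
    (μ : F) : S.TR X (p + μ • q) := fun l => by
  have hqp : S.Bt q p ≠ 0 := by
    rw [S.Bt_symm]
    exact mul_ne_zero (mul_ne_zero S.A.s_ne S.D.s_ne) hpq
  obtain ⟨g, hg, eg⟩ := hq (μ / S.Bt q p)
  obtain ⟨h, hh, eh⟩ := hp l
  have hgp : (g : Module.End F (T F a b)) p = p + μ • q := by
    rw [eg, LinearMap.add_apply, Module.End.one_apply, LinearMap.smul_apply, LinearMap.smulRight_apply, smul_smul,
      div_mul_cancel₀ _ hqp]
  refine ⟨g * h * g⁻¹, X.mul_mem (X.mul_mem hg hh) (X.inv_mem hg), LinearMap.ext fun m => ?_⟩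
  have h1 := hX.iso g hg p (((g⁻¹ : (Module.End F (T F a b))ˣ) : Module.End F (T F a b)) m)
  have h2 : (g : Module.End F (T F a b)) (((g⁻¹ : (Module.End F (T F a b))ˣ) : Module.End F (T F a b)) m) = m := by
    rw [← Module.End.mul_apply, Units.mul_inv, Module.End.one_apply]
  rw [h2, hgp] at h1
  simp only [Units.val_mul, Module.End.mul_apply, eh, LinearMap.add_apply, Module.End.one_apply,
    LinearMap.smul_apply, LinearMap.smulRight_apply, map_add, map_smul, h2, ← h1, hgp]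

variable [Finite F]

/-- The group has the rank one matrices at isotropic vectors. -/
theorem Over.tau_root (hX : S.Over X) (hd : S.Good) (hε : S.A.s * S.D.s = -1)
    {g : (Module.End F (T F a b))ˣ} (hg : g ∈ X) (hgK : ¬ IsTens g) {v : Fin b → F} (hv : v ≠ 0)
    (hvv : S.D.B v v = 0) {x : Fin a → F} (hx : x ≠ 0) (hxx : S.A.B x x = 0) :
    S.InS X v (S.A.tau x x) := by
  obtain ⟨w, N, hw, hww, hN, hns⟩ := hX.exists_root hd hg hgK
  replace hN := hX.inS_move hd hw hww hv hvv hN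
  have hinv := hX.rootSpace_inv hd hv hvv
  have hN' : N ∈ rootSpace hX hd hv hvv := hN
  obtain ⟨c, hc, hcc, hcW⟩ : ∃ c, c ≠ 0 ∧ S.A.B c c = 0 ∧ S.InS X v (S.A.tau c c) := by
    rcases S.A.hs with hA | hA
    · have hD : S.D.s = -1 := by rw [hA, one_mul] at hε; exact hε
      obtain ⟨h3, hq⟩ := hd.orth hA
      exact hinv.tau_mem S.A hA h3 hq hN' (by rw [hN.1, hD, neg_one_smul, neg_neg]) hns
    · have hD : S.D.s = 1 := by rw [hA, neg_one_mul, neg_inj] at hε; exact hε
      obtain ⟨c, hc, hcW⟩ := hinv.tau_mem_alt S.A hA hN' (by rw [hN.1, hD, one_smul])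
        (fun h => hns 0 (by rw [h, zero_smul]))
      exact ⟨c, hc, S.A.self_eq_zero hA c, hcW⟩
  obtain ⟨k, hk, t, ht, hkt⟩ := S.A.moves_line (fun h => (hd.orth h).1) hc hx hcc hxx
  have h1 := hX.inS_smul hd hv hvv ((t * t)⁻¹) (hX.inS_lt hk hcW)
  rw [S.A.conj_tau hk, hkt, Bil.tau_smul_left, Bil.tau_smul_right, smul_smul, smul_smul,
    show (t * t)⁻¹ * t * t = 1 by field_simp] at h1
  rwa [one_smul] at h1

/-- A group strictly above the stabiliser contains all transvections. -/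
theorem Over.transvection_mem (hX : S.Over X) (hd : S.Good) (hε : S.A.s * S.D.s = -1)
    {g : (Module.End F (T F a b))ˣ} (hg : g ∈ X) (hgK : ¬ IsTens g) (p : T F a b) : S.TR X p := by
  have hA3 : S.A.s = 1 → 3 ≤ a := fun h => (hd.orth h).1
  have hD3 : S.D.s = 1 → 3 ≤ b := fun h => by have := (hd.pos h).1; omega
  set Sg : Set (T F a b) := {p | ∃ v x, S.D.B v v = 0 ∧ S.A.B x x = 0 ∧ p = pure v x}
  have hzero : S.TR X 0 := fun l => ⟨1, X.one_mem, LinearMap.ext fun m => by simp⟩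
  have hbase : Sg ⊆ {p | S.TR X p} := by
    rintro _ ⟨v, x, hvv, hxx, rfl⟩
    rcases eq_or_ne v 0 with rfl | hv
    · rw [pure_zero]; exact hzero
    rcases eq_or_ne x 0 with rfl | hx
    · rw [map_zero]; exact hzero
    intro l
    obtain ⟨h, hh, e⟩ := (hX.inS_smul hd hv hvv l (hX.tau_root hd hε hg hgK hv hvv hx hxx)).2
    refine ⟨h, hh, e.trans (LinearMap.ext fun m => ?_)⟩
    simp only [te_smul, LinearMap.add_apply, LinearMap.smul_apply, LinearMap.smulRight_apply, te_apply,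
      Bil.tau_mulVec, map_smul, S.Bt_pure]
  have hspan : Submodule.span F Sg = ⊤ := by
    rw [eq_top_iff]
    intro m _
    rw [eq_sum_pure m]
    refine Submodule.sum_mem _ fun j _ => ?_
    generalize (Pi.single j 1 : Fin b → F) = v
    generalize (fun i => m i j) = u
    have h1 : ∀ x, S.A.B x x = 0 → ∀ v, pure v x ∈ Submodule.span F Sg := fun x hx v =>
      S.D.mem_of_isotropic hD3
        { carrier := {v | pure v x ∈ Submodule.span F Sg}
          zero_mem' := by simp only [Set.mem_ofPred_eq, pure_zero]; exact zero_mem _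
          add_mem' := fun {v w} hv hw => by
            simp only [Set.mem_ofPred_eq, pure_add] at hv hw ⊢
            exact add_mem hv hw
          smul_mem' := fun c v hv => by
            simp only [Set.mem_ofPred_eq, pure_smul] at hv ⊢
            exact Submodule.smul_mem _ c hv }
        (fun w hw => Submodule.subset_span ⟨w, x, hw, hx, rfl⟩) v
    exact S.A.mem_of_isotropic hA3 ((Submodule.span F Sg).comap (pure v)) (fun x hx => h1 x hx v) u
  obtain ⟨v₀, hv₀, hvv₀⟩ : ∃ v : Fin b → F, v ≠ 0 ∧ S.D.B v v = 0 := by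
    obtain ⟨v, N, hv, hvv, -⟩ := hX.exists_root hd hg hgK
    exact ⟨v, hv, hvv⟩
  obtain ⟨x₀, hx₀, hxx₀⟩ : ∃ x : Fin a → F, x ≠ 0 ∧ S.A.B x x = 0 := by
    rcases S.A.hs with hA | hA
    · obtain ⟨x, -, hx, hxx⟩ := S.A.ndOn_top.isotropic S.A hA (U := ⊤) (by rw [Bil.finrank_top_eq]; exact hA3 hA)
      exact ⟨x, hx, hxx⟩
    · exact ⟨Pi.single ⟨0, hd.a_pos⟩ 1, by simp, S.A.self_eq_zero hA _⟩
  refine closure_eq_univ S.two S.Bt (S.Bt_self hε) S.Bt_nd {p | S.TR X p} (fun c p hp => hp.smul c)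
    (fun p hp q hq h μ => hX.tr_line hp hq h μ) Sg hbase hspan
    ⟨_, ⟨v₀, x₀, hvv₀, hxx₀, rfl⟩, fun h => (pure_eq_zero h).elim hv₀ hx₀⟩ ?_ p
  rintro _ ⟨v, x, hvv, hxx, rfl⟩ hp _ ⟨v', x', hvv', hxx', rfl⟩ hq
  have hv : v ≠ 0 := fun h => hp (by rw [h, pure_zero])
  have hx : x ≠ 0 := fun h => hp (by rw [h, map_zero])
  have hv' : v' ≠ 0 := fun h => hq (by rw [h, pure_zero])
  have hx' : x' ≠ 0 := fun h => hq (by rw [h, map_zero])
  obtain ⟨y, hy, hy1, hy2⟩ := S.D.exists_common hD3 hv hv' hvv hvv'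
  obtain ⟨z, hz, hz1, hz2⟩ := S.A.exists_common hA3 hx hx' hxx hxx'
  refine ⟨pure y z, ⟨y, z, hy, hz, rfl⟩, ?_, ?_⟩ <;> rw [S.Bt_pure_pure]
  · exact mul_ne_zero (S.D.comm_ne hy1) (S.A.comm_ne hz1)
  · exact mul_ne_zero (S.D.comm_ne hy2) (S.A.comm_ne hz2)

end Sys

end Cfsg.Agent.H24.Tensor
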