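import Cfsg.Agent.H24.Tensor.SpFinish
import Cfsg.Agent.H24.Tensor.Bridge
import Cfsg.Agent.H95.Symp

/-!
The stabiliser of a decomposition `Sp ⊗ O` is maximal in the symplectic group, odd characteristic.
-/

set_option autoImplicit false
set_option linter.style.haveILetI false

namespace Cfsg.Agent.H24.Tensor

open Module Matrix Cfsg.Agent.H98.TensorGL Cfsg.Agent.H98.ExtField Cfsg.Agent.H96 Cfsg.Agent.H95

variable {F : Type*} [Field F] [Fintype F] {ι : Type} [Fintype ι] [DecidableEq ι] {a b : ℕ}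

omit [Fintype F] in
/-- A transvection at a pure isotropic vector is no tensor. -/
theorem Sys.not_isTens_transvection (S : Sys F a b) (ha : 0 < a) {v : Fin b → F} (hv : v ≠ 0)
    (hvv : S.D.B v v = 0) {x : Fin a → F} (hx : x ≠ 0) (hxx : S.A.B x x = 0) {l : F} (hl : l ≠ 0)
    {g : (Module.End F (T F a b))ˣ}
    (hg : (g : Module.End F (T F a b)) = 1 + l • (S.Bt (pure v x)).smulRight (pure v x)) : ¬ IsTens g := by
  intro h
  obtain ⟨Q, -, hQ⟩ := h.exists_rt ha hv fun u => by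
    rw [hg, LinearMap.add_apply, LinearMap.smul_apply, LinearMap.smulRight_apply, S.Bt_pure_pure, hvv, zero_mul,
      zero_smul, smul_zero, add_zero, Module.End.one_apply]
  obtain ⟨w, hvw⟩ := S.D.exists_one hv
  obtain ⟨u, hxu⟩ := S.A.exists_one hx
  have h1 := LinearMap.congr_fun (hQ.symm.trans hg) (pure w u)
  rw [LinearMap.add_apply, LinearMap.smul_apply, LinearMap.smulRight_apply, S.Bt_pure_pure, hvw, hxu, one_mul,
    one_smul, Module.End.one_apply, rt_pure] at h1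
  have h2 : pure (Q *ᵥ w - w) u = pure v (l • x) := by rw [pure_sub, h1, map_smul, add_sub_cancel_left]
  obtain ⟨w', hvw'⟩ := S.D.exists_one hv
  have h3 := congrArg (ev (S.D.B w')) h2
  rw [ev_pure, ev_pure, S.D.symm v w', hvw', mul_one, smul_smul] at h3
  have h4 := congrArg (S.A.B x) h3
  rw [map_smul, map_smul, hxu, hxx, smul_zero, smul_eq_mul, mul_one] at h4
  rw [h4, zero_smul, eq_comm, smul_eq_zero, mul_eq_zero] at h3
  rcases h3 with (h3 | h3) | h3
  exacts [S.D.s_ne h3, hl h3, hx h3]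

/-- Maximality in the coordinates of a pair of forms. -/
theorem sp_of_sys {f : (ι → F) → (ι → F) → F} (hf : Cfsg.Geo.IsSymplecticForm f) (e : ι ≃ Fin a × Fin b)
    (P : GL ι F) (S : Sys F a b) (hS : ∀ x y, f (tensorIso e P x) (tensorIso e P y) = S.Bt x y) (hd : S.Good)
    (hε : S.A.s * S.D.s = -1) :
    Cfsg.Geo.IsMaximalIn (isoGrp f) (Cfsg.Geo.tensorProductSubgroup a b e P ⊓ isoGrp f) := by
  have hrt : ∀ (p : T F a b) (l : F), (toU e P (H95.rt hf (tensorIso e P p) l) : Module.End F (T F a b)) =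
      1 + (-l) • (S.Bt p).smulRight p := fun p l => LinearMap.ext fun m => by
    rw [toU_apply, H95.rt_mulVec hf, map_add, map_smul, LinearEquiv.symm_apply_apply, LinearEquiv.symm_apply_apply,
      hS, S.Bt_symm p m, hε, LinearMap.add_apply, LinearMap.smul_apply, LinearMap.smulRight_apply, smul_smul,
      Module.End.one_apply]
    congr 2
    ring
  refine ⟨lt_of_le_of_ne inf_le_right fun h => ?_, fun M h1 h2 => ?_⟩
  · obtain ⟨v, hv, hvv⟩ : ∃ v : Fin b → F, v ≠ 0 ∧ S.D.B v v = 0 := by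
      rcases S.D.hs with hs | hs
      · obtain ⟨v, -, hv, hvv⟩ := S.D.ndOn_top.isotropic S.D hs (U := ⊤)
          (by rw [Bil.finrank_top_eq]; have := hd.pos hs; omega)
        exact ⟨v, hv, hvv⟩
      · exact ⟨Pi.single ⟨0, by have := hd.four; omega⟩ 1, by simp, S.D.self_eq_zero hs _⟩
    obtain ⟨x, hx, hxx⟩ : ∃ x : Fin a → F, x ≠ 0 ∧ S.A.B x x = 0 := by
      rcases S.A.hs with hs | hs
      · obtain ⟨x, -, hx, hxx⟩ := S.A.ndOn_top.isotropic S.A hs (U := ⊤)
          (by rw [Bil.finrank_top_eq]; exact (hd.orth hs).1)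
        exact ⟨x, hx, hxx⟩
      · exact ⟨Pi.single ⟨0, hd.a_pos⟩ 1, by simp, S.A.self_eq_zero hs _⟩
    have h' := rt_mem_iso hf (tensorIso e P (pure v x)) 1
    rw [← h] at h'
    exact S.not_isTens_transvection hd.a_pos hv hvv hx hxx (neg_ne_zero.2 (one_ne_zero (α := F))) (hrt _ 1)
      ((mem_tps_iff e P _).1 h'.1)
  by_cases hMN : M ≤ Cfsg.Geo.tensorProductSubgroup a b e P
  · exact Or.inl (le_antisymm (le_inf hMN h2) h1)
  refine Or.inr (le_antisymm h2 ?_)
  set X := M.map (toU e P).toMonoidHom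
  have hmem : ∀ g : (Module.End F (T F a b))ˣ, S.Iso (g : Module.End F (T F a b)) → IsTens g → g ∈ X := fun g hg hgt => by
    obtain ⟨g, rfl⟩ := (toU e P).surjective g
    exact Subgroup.mem_map_of_mem _ (h1 ⟨(mem_tps_iff e P g).2 hgt, (Sys.iso_toU hS g).1 hg⟩)
  have hiso : ∀ g ∈ X, S.Iso (g : Module.End F (T F a b)) := by
    rintro _ ⟨g, hg, rfl⟩
    exact (Sys.iso_toU hS g).2 (h2 hg)
  have hX : S.Over X := ⟨hiso, fun x hx r hr _ ht => hmem _ (Sys.Iso.mul (hiso x hx) hr) ht, fun _ => hmem⟩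
  obtain ⟨g, hg, hgN⟩ := SetLike.not_le_iff_exists.1 hMN
  have htr := fun p => hX.transvection_mem hd hε (Subgroup.mem_map_of_mem _ hg)
    (fun h => hgN ((mem_tps_iff e P g).2 h)) p
  refine iso_le_of_roots hf fun u l => ?_
  obtain ⟨p, rfl⟩ := (tensorIso e P).surjective u
  obtain ⟨_, ⟨k, hk, rfl⟩, hkv⟩ := htr p (-l)
  suffices H95.rt hf (tensorIso e P p) l = k by rw [this]; exact hk
  exact (toU e P).injective (Units.ext ((hrt p l).trans hkv.symm))

/-- The stabiliser of a decomposition `Sp_{n₁} ⊗ O_{n₂}`, `n₁ ≥ 4`, is maximal. -/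
theorem sp_maximal {f : (ι → F) → (ι → F) → F} (hf : Cfsg.Geo.IsSymplecticForm f)
    (hodd : Odd (Fintype.card F)) {n₁ n₂ : ℕ} (h1 : 4 ≤ n₁) (h2 : 3 ≤ n₂)
    (hex : ¬ (Fintype.card F = 3 ∧ n₂ = 3)) (e : ι ≃ Fin n₁ × Fin n₂) (P : GL ι F)
    (f₁ : (Fin n₁ → F) → (Fin n₁ → F) → F) (f₂ : (Fin n₂ → F) → (Fin n₂ → F) → F)
    (hf₁ : Cfsg.Geo.IsSymplecticForm f₁) (hf₂ : Cfsg.Geo.IsSymmetricForm f₂)
    (hT : Cfsg.Geo.IsTensorFormStructure id f f₁ f₂ e P) :
    Cfsg.Geo.IsMaximalIn (isoGrp f) (Cfsg.Geo.tensorProductSubgroup n₁ n₂ e P ⊓ isoGrp f) := by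
  classical
  have htwo : (2 : F) ≠ 0 := fun h => by
    haveI : CharP F 2 := CharTwo.of_one_ne_zero_of_two_eq_zero one_ne_zero h
    have h2 := FiniteField.even_card_of_char_two (F := F) ((CharP.eq F (ringChar.charP F) inferInstance))
    rw [Nat.odd_iff] at hodd
    omega
  have hne : (-1 : F) ≠ 1 := fun h => htwo (by linear_combination -h)
  have hy₁ : ∀ x y, f₁ y x = (-1) * f₁ x y := fun x y => by rw [neg_one_mul]; exact hf₁.skew y x
  have hy₂ : ∀ x y, f₂ y x = (1 : F) * f₂ x y := fun x y => by rw [one_mul]; exact hf₂.symm y x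
  have hq : 4 ≤ n₂ ∨ ∃ t : F, t ≠ 0 ∧ t * t ≠ 1 := by
    rcases Nat.lt_or_ge n₂ 4 with h | h
    swap
    · exact Or.inl h
    refine Or.inr ?_
    by_contra hc
    push Not at hc
    have hsub : (Finset.univ : Finset F) ⊆ {0, 1, -1} := fun t _ => by
      rcases eq_or_ne t 0 with rfl | ht
      · simp
      rcases mul_self_eq_one_iff.1 (hc t ht) with rfl | rfl <;> simp
    have h3 := (Finset.card_le_card hsub).trans Finset.card_le_three
    rw [Finset.card_univ] at h3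
    have h1 := Fintype.one_lt_card (α := F)
    rw [Nat.odd_iff] at hodd
    exact hex ⟨by omega, by omega⟩
  rcases Nat.lt_or_ge n₂ (2 * n₁) with hlt | hge
  · obtain ⟨S, hA, hD, -, -, hS⟩ := exists_sys htwo hf₂.bilinear hf₂.nondegenerate (Or.inl rfl) hy₂ hf₁.bilinear
      hf₁.nondegenerate (Or.inr rfl) hy₁ (structure_swap hT)
    rw [tps_swap e P]
    exact sp_of_sys hf _ P S hS ⟨by omega, fun h => absurd (hD ▸ h) hne, fun _ => ⟨hA, hlt, h1⟩, fun _ => ⟨h2, hq⟩⟩
      (by rw [hA, hD, one_mul])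
  · obtain ⟨S, hA, hD, -, -, hS⟩ := exists_sys htwo hf₁.bilinear hf₁.nondegenerate (Or.inr rfl) hy₁ hf₂.bilinear
      hf₂.nondegenerate (Or.inl rfl) hy₂ hT
    exact sp_of_sys hf e P S hS ⟨by omega, fun _ => ⟨by omega, by omega⟩, fun h => absurd (hD ▸ h).symm hne,
      fun h => absurd (hA ▸ h) hne⟩ (by rw [hA, hD, mul_one])

end Cfsg.Agent.H24.Tensor
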