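import Cfsg.Agent.H98.TensorGL.Basic

/-!
A symmetric or alternating form on a coordinate space: adjoints, rank one maps, Siegel transformations.
-/

set_option autoImplicit false

namespace Cfsg.Agent.H24.Tensor

open Module Matrix

/-- A non-degenerate form which is symmetric (`s = 1`) or alternating (`s = -1`), away from characteristic two. -/
structure Bil (F : Type*) [Field F] (n : ℕ) where
  B : (Fin n → F) →ₗ[F] (Fin n → F) →ₗ[F] F
  s : F
  hs : s = 1 ∨ s = -1
  symm : ∀ x y, B y x = s * B x y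
  nd : ∀ x, (∀ y, B x y = 0) → x = 0
  two : (2 : F) ≠ 0

namespace Bil

variable {F : Type*} [Field F] {n : ℕ} (β : Bil F n)

theorem s_mul_s : β.s * β.s = 1 := by rcases β.hs with h | h <;> rw [h] <;> ring

theorem s_ne : β.s ≠ 0 := left_ne_zero_of_mul_eq_one β.s_mul_s

theorem comm {x y : Fin n → F} (h : β.B x y = 0) : β.B y x = 0 := by rw [β.symm, h, mul_zero]

theorem comm_ne {x y : Fin n → F} (h : β.B x y ≠ 0) : β.B y x ≠ 0 := fun h' => h (β.comm h')

theorem self_eq_zero (h : β.s = -1) (x : Fin n → F) : β.B x x = 0 := by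
  have h1 := β.symm x x
  rw [h] at h1
  exact (mul_eq_zero.1 (show (2 : F) * β.B x x = 0 by linear_combination h1)).resolve_left β.two

theorem nd' {x : Fin n → F} (h : ∀ y, β.B y x = 0) : x = 0 := β.nd x fun y => β.comm (h y)

theorem eq_of (x y : Fin n → F) (h : ∀ z, β.B z x = β.B z y) : x = y :=
  sub_eq_zero.1 (β.nd' fun z => by rw [map_sub, h, sub_self])

theorem B_ne {x : Fin n → F} (hx : x ≠ 0) : β.B x ≠ 0 := fun h => hx (β.nd x fun y => by rw [h]; rfl)

theorem rep (φ : Dual F (Fin n → F)) : ∃ w, β.B w = φ :=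
  (LinearMap.injective_iff_surjective_of_finrank_eq_finrank
    (by rw [Subspace.dual_finrank_eq])).1
    ((injective_iff_map_eq_zero _).2 fun x hx => β.nd x fun y => LinearMap.congr_fun hx y) φ

theorem exists_one {x : Fin n → F} (hx : x ≠ 0) : ∃ y, β.B x y = 1 := by
  obtain ⟨y, hy⟩ := not_forall.1 fun h => hx (β.nd x h)
  exact ⟨(β.B x y)⁻¹ • y, by rw [map_smul, smul_eq_mul, inv_mul_cancel₀ hy]⟩

/-- Two independent vectors take prescribed values against some vector. -/
theorem exists_two {x y : Fin n → F} (hx : x ≠ 0) (hy : y ∉ Submodule.span F {x}) (r t : F) :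
    ∃ z, β.B x z = r ∧ β.B y z = t := by
  obtain ⟨φ, hφy, hφ⟩ := Submodule.exists_le_ker_of_notMem hy
  obtain ⟨c, hc⟩ := β.rep φ
  have hcx : β.B x c = 0 := β.comm (by rw [hc]; exact hφ (Submodule.mem_span_singleton_self x))
  have hcy : β.B y c ≠ 0 := β.comm_ne (by rw [hc]; exact hφy)
  obtain ⟨d, hd⟩ := β.exists_one hx
  refine ⟨r • d + ((t - r * β.B y d) / β.B y c) • c, ?_, ?_⟩
  · rw [map_add, map_smul, map_smul, hd, hcx, smul_zero, add_zero, smul_eq_mul, mul_one]
  · rw [map_add, map_smul, map_smul, smul_eq_mul, smul_eq_mul, div_mul_cancel₀ _ hcy]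
    ring

/-! ### Adjoints -/

/-- `K'` is adjoint to `K`. -/
def IsAdj (K K' : Matrix (Fin n) (Fin n) F) : Prop := ∀ x y, β.B (K *ᵥ x) y = β.B x (K' *ᵥ y)

theorem exists_adj (K : Matrix (Fin n) (Fin n) F) : ∃ K', β.IsAdj K K' := by
  have h : ∀ y, ∃ z, ∀ x, β.B (K *ᵥ x) y = β.B x z := fun y => by
    obtain ⟨w, hw⟩ := β.rep ((LinearMap.flip β.B y).comp K.mulVecLin)
    exact ⟨β.s • w, fun x => by rw [map_smul, smul_eq_mul, ← β.symm, hw]; rfl⟩
  choose z hz using h
  let f : (Fin n → F) →ₗ[F] (Fin n → F) :=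
    { toFun := z
      map_add' := fun y y' => β.eq_of _ _ fun x => by rw [map_add, ← hz, ← hz, ← hz, map_add]
      map_smul' := fun r y => β.eq_of _ _ fun x => by
        rw [RingHom.id_apply, map_smul, ← hz, ← hz, map_smul] }
  exact ⟨LinearMap.toMatrix' f, fun x y => by rw [LinearMap.toMatrix'_mulVec]; exact hz y x⟩

/-- The adjoint. -/
noncomputable def adj (K : Matrix (Fin n) (Fin n) F) : Matrix (Fin n) (Fin n) F := (β.exists_adj K).choose

theorem adj_spec (K : Matrix (Fin n) (Fin n) F) (x y : Fin n → F) :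
    β.B (K *ᵥ x) y = β.B x (β.adj K *ᵥ y) :=
  (β.exists_adj K).choose_spec x y

theorem adj_spec' (K : Matrix (Fin n) (Fin n) F) (x y : Fin n → F) :
    β.B x (K *ᵥ y) = β.B (β.adj K *ᵥ x) y := by
  rw [β.symm, β.adj_spec, ← β.symm]

theorem adj_eq {K K' : Matrix (Fin n) (Fin n) F} (h : ∀ x y, β.B (K *ᵥ x) y = β.B x (K' *ᵥ y)) :
    β.adj K = K' :=
  Matrix.ext_iff_mulVec.2 fun y => β.eq_of _ _ fun x => by rw [← adj_spec, h]

theorem adj_adj (K : Matrix (Fin n) (Fin n) F) : β.adj (β.adj K) = K :=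
  β.adj_eq fun x y => (β.adj_spec' K x y).symm

theorem adj_one : β.adj 1 = 1 := β.adj_eq fun x y => by rw [Matrix.one_mulVec, Matrix.one_mulVec]

theorem adj_add (K L : Matrix (Fin n) (Fin n) F) : β.adj (K + L) = β.adj K + β.adj L :=
  β.adj_eq fun x y => by
    simp only [Matrix.add_mulVec, map_add, LinearMap.add_apply, β.adj_spec]

theorem adj_smul (c : F) (K : Matrix (Fin n) (Fin n) F) : β.adj (c • K) = c • β.adj K :=
  β.adj_eq fun x y => by simp only [Matrix.smul_mulVec, map_smul, LinearMap.smul_apply, β.adj_spec]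

theorem adj_zero : β.adj 0 = 0 := by simpa using β.adj_smul 0 0

theorem adj_neg (K : Matrix (Fin n) (Fin n) F) : β.adj (-K) = -β.adj K := by simpa using β.adj_smul (-1) K

theorem adj_sub (K L : Matrix (Fin n) (Fin n) F) : β.adj (K - L) = β.adj K - β.adj L := by
  rw [sub_eq_add_neg, adj_add, adj_neg, sub_eq_add_neg]

theorem adj_mul (K L : Matrix (Fin n) (Fin n) F) : β.adj (K * L) = β.adj L * β.adj K :=
  β.adj_eq fun x y => by rw [← Matrix.mulVec_mulVec, β.adj_spec, β.adj_spec, Matrix.mulVec_mulVec]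

/-! ### Rank one maps -/

/-- The map `x ↦ B(d, x) c`. -/
noncomputable def tau (c d : Fin n → F) : Matrix (Fin n) (Fin n) F := LinearMap.toMatrix' ((β.B d).smulRight c)

theorem tau_mulVec (c d x : Fin n → F) : β.tau c d *ᵥ x = β.B d x • c := LinearMap.toMatrix'_mulVec _ _

theorem adj_tau (c d : Fin n → F) : β.adj (β.tau c d) = β.s • β.tau d c :=
  β.adj_eq fun x y => by
    simp only [tau_mulVec, Matrix.smul_mulVec, map_smul, LinearMap.smul_apply, smul_eq_mul]
    rw [β.symm d x]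
    linear_combination (-(β.B d x * β.B c y)) * β.s_mul_s

theorem mul_tau (K : Matrix (Fin n) (Fin n) F) (c d : Fin n → F) : K * β.tau c d = β.tau (K *ᵥ c) d :=
  Matrix.ext_iff_mulVec.2 fun x => by rw [← Matrix.mulVec_mulVec, tau_mulVec, tau_mulVec, Matrix.mulVec_smul]

theorem tau_mul (K : Matrix (Fin n) (Fin n) F) (c d : Fin n → F) : β.tau c d * K = β.tau c (β.adj K *ᵥ d) :=
  Matrix.ext_iff_mulVec.2 fun x => by
    rw [← Matrix.mulVec_mulVec, tau_mulVec, tau_mulVec, β.adj_spec']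

theorem tau_mul_tau (c d e f : Fin n → F) : β.tau c d * β.tau e f = β.B d e • β.tau c f :=
  Matrix.ext_iff_mulVec.2 fun x => by
    simp only [← Matrix.mulVec_mulVec, tau_mulVec, Matrix.smul_mulVec, map_smul, smul_smul, smul_eq_mul,
      mul_comm]

theorem tau_add_left (c c' d : Fin n → F) : β.tau (c + c') d = β.tau c d + β.tau c' d :=
  Matrix.ext_iff_mulVec.2 fun x => by simp only [Matrix.add_mulVec, tau_mulVec, smul_add]

theorem tau_add_right (c d d' : Fin n → F) : β.tau c (d + d') = β.tau c d + β.tau c d' :=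
  Matrix.ext_iff_mulVec.2 fun x => by
    simp only [Matrix.add_mulVec, tau_mulVec, map_add, LinearMap.add_apply, add_smul]

theorem tau_smul_left (r : F) (c d : Fin n → F) : β.tau (r • c) d = r • β.tau c d :=
  Matrix.ext_iff_mulVec.2 fun x => by rw [Matrix.smul_mulVec, tau_mulVec, tau_mulVec, smul_comm]

theorem tau_smul_right (r : F) (c d : Fin n → F) : β.tau c (r • d) = r • β.tau c d :=
  Matrix.ext_iff_mulVec.2 fun x => by
    rw [Matrix.smul_mulVec, tau_mulVec, tau_mulVec, map_smul, LinearMap.smul_apply, smul_eq_mul, mul_smul]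

theorem tau_zero_left (d : Fin n → F) : β.tau 0 d = 0 := by simpa using β.tau_smul_left 0 0 d

theorem tau_zero_right (c : Fin n → F) : β.tau c 0 = 0 := by simpa using β.tau_smul_right 0 c 0

/-! ### Siegel transformations -/

/-- The skew map of two vectors. -/
noncomputable def N (x z : Fin n → F) : Matrix (Fin n) (Fin n) F := β.tau x z - β.s • β.tau z x

theorem N_mulVec (x z y : Fin n → F) : β.N x z *ᵥ y = β.B z y • x - (β.s * β.B x y) • z := by
  rw [N, Matrix.sub_mulVec, Matrix.smul_mulVec, tau_mulVec, tau_mulVec, smul_smul]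

theorem adj_N (x z : Fin n → F) : β.adj (β.N x z) = -β.N x z := by
  rw [N, adj_sub, adj_smul, adj_tau, adj_tau, smul_smul, β.s_mul_s, one_smul, neg_sub]

theorem N_neg (x z : Fin n → F) : β.N x (-z) = -β.N x z := by
  simpa [N, smul_sub, smul_comm β.s (-1 : F), neg_add_eq_sub] using
    congrArg₂ (fun A A' => A - β.s • A') (β.tau_smul_right (-1) x z) (β.tau_smul_left (-1) z x)

theorem N_smul (r : F) (x z : Fin n → F) : β.N x (r • z) = r • β.N x z := by
  rw [N, N, tau_smul_right, tau_smul_left, smul_sub, smul_comm]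

/-- The transformation `1 + N + N²/2`. -/
noncomputable def sieM (x z : Fin n → F) : Matrix (Fin n) (Fin n) F :=
  1 + β.N x z + (2 : F)⁻¹ • (β.N x z * β.N x z)

section
variable {x z : Fin n → F} (hx : β.B x x = 0) (hz : β.B x z = 0)
include hx hz

theorem N_self : β.N x z *ᵥ x = 0 := by
  rw [N_mulVec, β.comm hz, hx, mul_zero, zero_smul, zero_smul, sub_zero]

theorem N_other : β.N x z *ᵥ z = β.B z z • x := by
  rw [N_mulVec, hz, mul_zero, zero_smul, sub_zero]

theorem N_sq : β.N x z * β.N x z = (-(β.s * β.B z z)) • β.tau x x :=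
  Matrix.ext_iff_mulVec.2 fun y => by
    rw [← Matrix.mulVec_mulVec, N_mulVec β x z y, Matrix.mulVec_sub, Matrix.mulVec_smul, Matrix.mulVec_smul,
      β.N_self hx hz, β.N_other hx hz, smul_zero, zero_sub, Matrix.smul_mulVec, tau_mulVec, smul_smul, smul_smul,
      ← neg_smul]
    congr 1
    ring

theorem N_cube : β.N x z * (β.N x z * β.N x z) = 0 := by
  rw [β.N_sq hx hz, mul_smul_comm, mul_tau, β.N_self hx hz, tau_zero_left, smul_zero]

theorem sieM_mulVec (y : Fin n → F) :
    β.sieM x z *ᵥ y = y + β.B z y • x - (β.s * β.B x y) • z - ((2 : F)⁻¹ * β.s * β.B z z * β.B x y) • x := by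
  rw [sieM, β.N_sq hx hz, Matrix.add_mulVec, Matrix.add_mulVec, Matrix.one_mulVec, N_mulVec, Matrix.smul_mulVec,
    Matrix.smul_mulVec, tau_mulVec]
  module

theorem adj_sieM : β.adj (β.sieM x z) = β.sieM x (-z) := by
  rw [sieM, sieM, adj_add, adj_add, adj_one, adj_smul, adj_mul, adj_N, N_neg, neg_mul_neg]

theorem sieM_mul_neg : β.sieM x z * β.sieM x (-z) = 1 := by
  have h3 := β.N_cube hx hz
  have h3' : β.N x z * β.N x z * β.N x z = 0 := by rw [mul_assoc]; exact h3
  rw [sieM, sieM, N_neg, neg_mul_neg]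
  simp only [add_mul, mul_add, mul_neg, neg_mul, one_mul, mul_one, mul_smul_comm, smul_mul_assoc, h3, h3',
    mul_assoc, neg_zero, smul_zero, mul_zero, zero_mul, add_zero, zero_add]
  have h4 : (2 : F)⁻¹ • (β.N x z * β.N x z) + (2 : F)⁻¹ • (β.N x z * β.N x z) = β.N x z * β.N x z := by
    rw [← add_smul, show (2 : F)⁻¹ + (2 : F)⁻¹ = 1 by have := β.two; field_simp; ring, one_smul]
  linear_combination (norm := abel) h4

theorem sieM_iso (y y' : Fin n → F) : β.B (β.sieM x z *ᵥ y) (β.sieM x z *ᵥ y') = β.B y y' := by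
  have h := β.sieM_mul_neg (z := -z) hx (by rw [map_neg, hz, neg_zero])
  rw [neg_neg] at h
  rw [β.adj_spec, β.adj_sieM hx hz, Matrix.mulVec_mulVec, h, Matrix.one_mulVec]

theorem sieM_self : β.sieM x z *ᵥ x = x := by
  rw [β.sieM_mulVec hx hz, β.comm hz, hx]
  module

theorem sieM_fix {y : Fin n → F} (h1 : β.B x y = 0) (h2 : β.B z y = 0) : β.sieM x z *ᵥ y = y := by
  rw [β.sieM_mulVec hx hz, h1, h2]
  module

theorem sieM_sub_sq : (β.sieM x z - 1) * (β.sieM x z - 1) = β.N x z * β.N x z := by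
  have h3 := β.N_cube hx hz
  rw [sieM, add_assoc, add_sub_cancel_left]
  simp only [add_mul, mul_add, mul_smul_comm, smul_mul_assoc, mul_assoc, h3, mul_zero, smul_zero, add_zero]

theorem sieM_sub_cube : (β.sieM x z - 1) ^ 3 = 0 := by
  rw [pow_succ, pow_two, β.sieM_sub_sq hx hz, sieM, add_assoc, add_sub_cancel_left]
  simp only [mul_add, mul_smul_comm, mul_assoc, β.N_cube hx hz, mul_zero, smul_zero, add_zero]

/-- The transformation as an invertible matrix. -/
noncomputable def sie : GL (Fin n) F where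
  val := β.sieM x z
  inv := β.sieM x (-z)
  val_inv := β.sieM_mul_neg hx hz
  inv_val := by
    have h := β.sieM_mul_neg (z := -z) hx (by rw [map_neg, hz, neg_zero])
    rwa [neg_neg] at h

end

theorem sie_val {x z : Fin n → F} (hx : β.B x x = 0) (hz : β.B x z = 0) :
    (β.sie hx hz : Matrix (Fin n) (Fin n) F) = β.sieM x z := rfl

theorem sie_inv {x z : Fin n → F} (hx : β.B x x = 0) (hz : β.B x z = 0) :
    ((β.sie hx hz)⁻¹ : GL (Fin n) F) = β.sie (z := -z) hx (by rw [map_neg, hz, neg_zero]) :=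
  Units.ext rfl

/-- The group generated by all Siegel transformations. -/
noncomputable def sieGrp : Subgroup (GL (Fin n) F) :=
  Subgroup.closure {g | ∃ (x z : Fin n → F) (hx : β.B x x = 0) (hz : β.B x z = 0), g = β.sie hx hz}

theorem sie_mem {x z : Fin n → F} (hx : β.B x x = 0) (hz : β.B x z = 0) : β.sie hx hz ∈ β.sieGrp :=
  Subgroup.subset_closure ⟨x, z, hx, hz, rfl⟩

theorem sieGrp_iso {g : GL (Fin n) F} (hg : g ∈ β.sieGrp) (y y' : Fin n → F) :
    β.B ((g : Matrix _ _ F) *ᵥ y) ((g : Matrix _ _ F) *ᵥ y') = β.B y y' := by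
  induction hg using Subgroup.closure_induction generalizing y y' with
  | mem g hg => obtain ⟨x, z, hx, hz, rfl⟩ := hg; exact β.sieM_iso hx hz y y'
  | one => simp
  | mul g h _ _ ih1 ih2 => rw [Units.val_mul, ← Matrix.mulVec_mulVec, ← Matrix.mulVec_mulVec, ih1, ih2]
  | inv g _ ih =>
    conv_rhs => rw [← Matrix.one_mulVec y, ← Matrix.one_mulVec y', ← Units.mul_inv g, ← Matrix.mulVec_mulVec,
      ← Matrix.mulVec_mulVec, ih]

end Bil

end Cfsg.Agent.H24.Tensor
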