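import Cfsg.Agent.H24.Tensor.Space
import Cfsg.Agent.H98.TensorGL.Key

/-!
The tensor product of two forms, its tensor isometries and the groups lying over them.
-/

set_option autoImplicit false

namespace Cfsg.Agent.H24.Tensor

open Module Matrix Cfsg.Agent.H98.TensorGL Cfsg.Agent.H98.ExtField

variable {F : Type*} [Field F] {a b : ℕ}

/-- `1 ⊗ Q`. -/
def rt (Q : Matrix (Fin b) (Fin b) F) : Module.End F (T F a b) where
  toFun m i := Q *ᵥ m i
  map_add' m n := funext fun i => by simp [Matrix.mulVec_add]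
  map_smul' c m := funext fun i => by simp [Matrix.mulVec_smul]

@[simp] theorem rt_apply (Q : Matrix (Fin b) (Fin b) F) (m : T F a b) (i : Fin a) : rt Q m i = Q *ᵥ m i := rfl

theorem rt_pure (Q : Matrix (Fin b) (Fin b) F) (v : Fin b → F) (u : Fin a → F) :
    rt Q (pure v u) = pure (Q *ᵥ v) u :=
  funext fun i => by simp [Matrix.mulVec_smul]

theorem rt_mul (Q Q' : Matrix (Fin b) (Fin b) F) : (rt (Q * Q') : Module.End F (T F a b)) = rt Q * rt Q' :=
  LinearMap.ext fun m => funext fun i => by simp [Matrix.mulVec_mulVec]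

theorem rt_one : (rt 1 : Module.End F (T F a b)) = 1 := LinearMap.ext fun m => funext fun i => by simp

theorem rt_add (Q Q' : Matrix (Fin b) (Fin b) F) : (rt (Q + Q') : Module.End F (T F a b)) = rt Q + rt Q' :=
  LinearMap.ext fun m => funext fun i => by simp [Matrix.add_mulVec]

theorem rt_sub (Q Q' : Matrix (Fin b) (Fin b) F) : (rt (Q - Q') : Module.End F (T F a b)) = rt Q - rt Q' :=
  LinearMap.ext fun m => funext fun i => by simp [Matrix.sub_mulVec]

theorem rt_smul (c : F) (Q : Matrix (Fin b) (Fin b) F) : (rt (c • Q) : Module.End F (T F a b)) = c • rt Q :=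
  LinearMap.ext fun m => funext fun i => by simp [Matrix.smul_mulVec]

theorem rt_zero : (rt 0 : Module.End F (T F a b)) = 0 := LinearMap.ext fun m => funext fun i => by simp

theorem lt_zero : (lt 0 : Module.End F (T F a b)) = 0 := LinearMap.ext fun m => funext fun i => by simp [lt]

theorem lt_sub' (P P' : Matrix (Fin a) (Fin a) F) :
    (lt (P - P') : Module.End F (T F a b)) = lt P - lt P' := by
  rw [eq_sub_iff_add_eq, ← lt_add, sub_add_cancel]

theorem lt_rt_comm (P : Matrix (Fin a) (Fin a) F) (Q : Matrix (Fin b) (Fin b) F) :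
    (lt P * rt Q : Module.End F (T F a b)) = rt Q * lt P :=
  LinearMap.ext fun m => funext fun i => by simp [lt, Matrix.mulVec_sum, Matrix.mulVec_smul]

theorem lt_rt_pure (P : Matrix (Fin a) (Fin a) F) (Q : Matrix (Fin b) (Fin b) F) (v : Fin b → F)
    (u : Fin a → F) : ((lt P * rt Q : Module.End F (T F a b))) (pure v u) = pure (Q *ᵥ v) (P *ᵥ u) := by
  rw [Module.End.mul_apply, rt_pure, lt_pure]

theorem pure_add (v w : Fin b → F) (u : Fin a → F) : pure (v + w) u = pure v u + pure w u :=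
  funext fun i => by simp

theorem pure_smul (c : F) (v : Fin b → F) (u : Fin a → F) : pure (c • v) u = c • pure v u :=
  funext fun i => smul_comm _ _ _

theorem pure_smul' (c : F) (v : Fin b → F) (u : Fin a → F) : pure (c • v) u = pure v (c • u) := by
  rw [pure_smul, map_smul]

theorem pure_sub (v w : Fin b → F) (u : Fin a → F) : pure (v - w) u = pure v u - pure w u :=
  funext fun i => by simp [smul_sub]

theorem pure_zero (u : Fin a → F) : pure (0 : Fin b → F) u = 0 := funext fun i => by simp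

theorem pure_eq_zero {v : Fin b → F} {u : Fin a → F} (h : pure v u = 0) : v = 0 ∨ u = 0 :=
  or_iff_not_imp_left.2 fun hv => pure_injective hv (h.trans (map_zero _).symm)

/-- Two linear maps agreeing on all pure tensors agree. -/
theorem ext_pure {V : Type*} [AddCommGroup V] [Module F V] {f g : T F a b →ₗ[F] V}
    (h : ∀ v u, f (pure v u) = g (pure v u)) : f = g :=
  LinearMap.ext fun m => by
    rw [eq_sum_pure m, map_sum, map_sum]
    exact Finset.sum_congr rfl fun j _ => h _ _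

/-- A unit of the algebra of endomorphisms which is a tensor product. -/
def IsTens (g : (Module.End F (T F a b))ˣ) : Prop :=
  ∃ (P : GL (Fin a) F) (Q : GL (Fin b) F),
    (g : Module.End F (T F a b)) = lt (P : Matrix (Fin a) (Fin a) F) * rt (Q : Matrix (Fin b) (Fin b) F)

/-- The map `g ↦ 1 ⊗ g`. -/
def rtU : GL (Fin b) F →* (Module.End F (T F a b))ˣ where
  toFun Q := ⟨rt (Q : Matrix _ _ F), rt (↑Q⁻¹ : Matrix _ _ F), by rw [← rt_mul, Units.mul_inv, rt_one],
    by rw [← rt_mul, Units.inv_mul, rt_one]⟩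
  map_one' := Units.ext rt_one
  map_mul' Q Q' := Units.ext (rt_mul _ _)

/-- The map `g ↦ g ⊗ 1`. -/
def ltU : GL (Fin a) F →* (Module.End F (T F a b))ˣ where
  toFun P := ⟨lt (P : Matrix _ _ F), lt (↑P⁻¹ : Matrix _ _ F), by rw [← lt_mul, Units.mul_inv, lt_one],
    by rw [← lt_mul, Units.inv_mul, lt_one]⟩
  map_one' := Units.ext lt_one
  map_mul' P P' := Units.ext (lt_mul _ _)

theorem rtU_val (Q : GL (Fin b) F) :
    ((rtU Q : (Module.End F (T F a b))ˣ) : Module.End F (T F a b)) = rt (Q : Matrix _ _ F) := rfl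

theorem ltU_val (P : GL (Fin a) F) :
    ((ltU P : (Module.End F (T F a b))ˣ) : Module.End F (T F a b)) = lt (P : Matrix _ _ F) := rfl

theorem isTens_rtU (Q : GL (Fin b) F) : IsTens (rtU (a := a) Q) :=
  ⟨1, Q, by rw [rtU_val, Units.val_one, lt_one, one_mul]⟩

theorem isTens_ltU (P : GL (Fin a) F) : IsTens (ltU (b := b) P) :=
  ⟨P, 1, by rw [ltU_val, Units.val_one, rt_one, mul_one]⟩

theorem IsTens.mul {g g' : (Module.End F (T F a b))ˣ} (h : IsTens g) (h' : IsTens g') : IsTens (g * g') := by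
  obtain ⟨P, Q, e⟩ := h
  obtain ⟨P', Q', e'⟩ := h'
  refine ⟨P * P', Q * Q', ?_⟩
  rw [Units.val_mul, e, e', Units.val_mul, Units.val_mul, lt_mul, rt_mul, mul_assoc, mul_assoc]
  congr 1
  rw [← mul_assoc (rt _), ← lt_rt_comm, mul_assoc]

theorem IsTens.inv {g : (Module.End F (T F a b))ˣ} (h : IsTens g) : IsTens g⁻¹ := by
  obtain ⟨P, Q, e⟩ := h
  have hg : g = ltU P * rtU Q := Units.ext e
  rw [hg, _root_.mul_inv_rev, ← map_inv, ← map_inv]
  exact (isTens_rtU _).mul (isTens_ltU _)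

/-- A unit that is a product of two matrices is a tensor. -/
theorem isTens_of (ha : 0 < a) (hb : 0 < b) {g : (Module.End F (T F a b))ˣ} {P : Matrix (Fin a) (Fin a) F}
    {Q : Matrix (Fin b) (Fin b) F} (h : (g : Module.End F (T F a b)) = lt P * rt Q) : IsTens g := by
  have hg : Function.Injective (g : Module.End F (T F a b)) := units_injective g
  have hunit : ∀ {k : ℕ} (Y : Matrix (Fin k) (Fin k) F), (∀ u, Y *ᵥ u = 0 → u = 0) → IsUnit Y := fun Y hY =>
    Matrix.mulVec_injective_iff_isUnit.1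
      ((injective_iff_map_eq_zero (Matrix.mulVecLin Y)).2 fun u hu => hY u hu)
  have key : ∀ v u, P *ᵥ u = 0 ∨ Q *ᵥ v = 0 → pure v u = (0 : T F a b) := fun v u huv => hg (by
    rw [map_zero, h, lt_rt_pure]
    rcases huv with e | e <;> rw [e]
    · exact map_zero _
    · exact pure_zero _)
  have hP : IsUnit P := hunit P fun u hu => by
    refine (pure_eq_zero (key (Pi.single ⟨0, hb⟩ 1) u (.inl hu))).resolve_left ?_
    simp
  have hQ : IsUnit Q := hunit Q fun v hv => by
    refine (pure_eq_zero (key v (Pi.single ⟨0, ha⟩ 1) (.inr hv))).resolve_right ?_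
    simp
  exact ⟨hP.unit, hQ.unit, h⟩

/-- A pair of forms. -/
structure Sys (F : Type*) [Field F] (a b : ℕ) where
  A : Bil F a
  D : Bil F b

namespace Sys

variable (S : Sys F a b)

theorem two (S : Sys F a b) : (2 : F) ≠ 0 := S.A.two

/-- The product form. -/
noncomputable def Bt : T F a b →ₗ[F] T F a b →ₗ[F] F :=
  ∑ i, ∑ k, S.A.B (Pi.single i 1) (Pi.single k 1) •
    S.D.B.compl₁₂ (LinearMap.proj i : T F a b →ₗ[F] Fin b → F) (LinearMap.proj k)

theorem Bt_apply (x y : T F a b) :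
    S.Bt x y = ∑ i, ∑ k, S.A.B (Pi.single i 1) (Pi.single k 1) * S.D.B (x i) (y k) := by
  simp [Bt, LinearMap.sum_apply]

theorem A_sum (u w : Fin a → F) :
    S.A.B u w = ∑ i, ∑ k, u i * S.A.B (Pi.single i 1) (Pi.single k 1) * w k := by
  conv_lhs => rw [pi_eq_sum_univ' u, pi_eq_sum_univ' w]
  simp only [map_sum, map_smul, LinearMap.sum_apply, LinearMap.smul_apply, smul_eq_mul, Finset.mul_sum]
  rw [Finset.sum_comm]
  exact Finset.sum_congr rfl fun i _ => Finset.sum_congr rfl fun k _ => by ring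

theorem Bt_pure (v : Fin b → F) (u : Fin a → F) (y : T F a b) :
    S.Bt (pure v u) y = S.A.B u (ev (S.D.B v) y) := by
  rw [Bt_apply, S.A_sum]
  refine Finset.sum_congr rfl fun i _ => Finset.sum_congr rfl fun k _ => ?_
  simp only [pure_apply, map_smul, LinearMap.smul_apply, ev_apply, smul_eq_mul]
  ring

theorem Bt_pure_pure (v w : Fin b → F) (u z : Fin a → F) :
    S.Bt (pure v u) (pure w z) = S.D.B v w * S.A.B u z := by
  rw [S.Bt_pure, ev_pure, map_smul, smul_eq_mul]

theorem Bt_symm (x y : T F a b) : S.Bt y x = S.A.s * S.D.s * S.Bt x y := by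
  rw [Bt_apply, Bt_apply, Finset.sum_comm, Finset.mul_sum]
  refine Finset.sum_congr rfl fun i _ => ?_
  rw [Finset.mul_sum]
  exact Finset.sum_congr rfl fun k _ => by rw [S.A.symm (Pi.single i 1), S.D.symm (x i)]; ring

theorem Bt_pure' (v : Fin b → F) (u : Fin a → F) (y : T F a b) :
    S.Bt y (pure v u) = S.D.s * S.A.B (ev (S.D.B v) y) u := by
  rw [Bt_symm, Bt_pure, S.A.symm (ev (S.D.B v) y)]
  linear_combination (S.D.s * S.A.B (ev (S.D.B v) y) u) * S.A.s_mul_s

theorem ev_eq_zero {v : Fin b → F} {y : T F a b} (h : ∀ u, S.Bt (pure v u) y = 0) : ev (S.D.B v) y = 0 :=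
  S.A.nd' fun u => by rw [← Bt_pure]; exact h u

/-- `g` preserves the product form. -/
def Iso (g : Module.End F (T F a b)) : Prop := ∀ x y, S.Bt (g x) (g y) = S.Bt x y

variable {S}

theorem Iso.mul {g g' : Module.End F (T F a b)} (h : S.Iso g) (h' : S.Iso g') : S.Iso (g * g') := fun x y => by
  rw [Module.End.mul_apply, Module.End.mul_apply, h, h']

theorem Iso.inv {g : (Module.End F (T F a b))ˣ} (h : S.Iso g) :
    S.Iso ((g⁻¹ : (Module.End F (T F a b))ˣ) : Module.End F (T F a b)) := fun x y => by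
  rw [← h, apply_inv_apply, apply_inv_apply]

variable (S)

theorem iso_lt {P : Matrix (Fin a) (Fin a) F} (hP : ∀ u w, S.A.B (P *ᵥ u) (P *ᵥ w) = S.A.B u w) :
    S.Iso (lt P) := by
  have : S.Bt.compl₁₂ (lt P) (lt P) = S.Bt := ext_pure fun v u => ext_pure fun w z => by
    rw [LinearMap.compl₁₂_apply, lt_pure, lt_pure, Bt_pure_pure, Bt_pure_pure, hP]
  exact fun x y => by rw [← LinearMap.compl₁₂_apply (g := lt P), this]

theorem iso_rt {Q : Matrix (Fin b) (Fin b) F} (hQ : ∀ u w, S.D.B (Q *ᵥ u) (Q *ᵥ w) = S.D.B u w) :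
    S.Iso (rt Q) := by
  have : S.Bt.compl₁₂ (rt Q) (rt Q) = S.Bt := ext_pure fun v u => ext_pure fun w z => by
    rw [LinearMap.compl₁₂_apply, rt_pure, rt_pure, Bt_pure_pure, Bt_pure_pure, hQ]
  exact fun x y => by rw [← LinearMap.compl₁₂_apply (g := rt Q), this]

/-- A group of isometries containing the tensors it should. -/
structure Over (X : Subgroup (Module.End F (T F a b))ˣ) : Prop where
  iso : ∀ g ∈ X, S.Iso (g : Module.End F (T F a b))
  tens : ∀ x ∈ X, ∀ r : (Module.End F (T F a b))ˣ, S.Iso (r : Module.End F (T F a b)) →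
    ((r : Module.End F (T F a b)) - 1) ^ 3 = 0 → IsTens (x * r) → x * r ∈ X
  full : S.D.s = -1 → ∀ g : (Module.End F (T F a b))ˣ, S.Iso (g : Module.End F (T F a b)) → IsTens g → g ∈ X

variable {S}
variable {X : Subgroup (Module.End F (T F a b))ˣ}

theorem Over.rt_sie (hX : S.Over X) {x z : Fin b → F} (hx : S.D.B x x = 0) (hz : S.D.B x z = 0) :
    rtU (S.D.sie hx hz) ∈ X := by
  have h := hX.tens 1 X.one_mem (rtU (S.D.sie hx hz)) (S.iso_rt (S.D.sieM_iso hx hz)) ?_
    (by rw [one_mul]; exact isTens_rtU _)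
  · rwa [one_mul] at h
  rw [rtU_val, ← rt_one, ← rt_sub, pow_succ, pow_two, ← rt_mul, ← rt_mul, ← pow_two, ← pow_succ, Bil.sie_val,
    S.D.sieM_sub_cube hx hz, rt_zero]

theorem Over.lt_sie (hX : S.Over X) {x z : Fin a → F} (hx : S.A.B x x = 0) (hz : S.A.B x z = 0) :
    ltU (S.A.sie hx hz) ∈ X := by
  have h := hX.tens 1 X.one_mem (ltU (S.A.sie hx hz)) (S.iso_lt (S.A.sieM_iso hx hz)) ?_
    (by rw [one_mul]; exact isTens_ltU _)
  · rwa [one_mul] at h
  rw [ltU_val, ← lt_one, ← lt_sub', pow_succ, pow_two, ← lt_mul, ← lt_mul, ← pow_two, ← pow_succ, Bil.sie_val,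
    S.A.sieM_sub_cube hx hz, lt_zero]

theorem Over.rt_grp (hX : S.Over X) {g : GL (Fin b) F} (hg : g ∈ S.D.sieGrp) : rtU g ∈ X := by
  have h : S.D.sieGrp ≤ X.comap rtU := by
    rw [Bil.sieGrp, Subgroup.closure_le]
    rintro _ ⟨x, z, hx, hz, rfl⟩
    exact hX.rt_sie hx hz
  exact h hg

theorem Over.lt_grp (hX : S.Over X) {g : GL (Fin a) F} (hg : g ∈ S.A.sieGrp) : ltU g ∈ X := by
  have h : S.A.sieGrp ≤ X.comap ltU := by
    rw [Bil.sieGrp, Subgroup.closure_le]
    rintro _ ⟨x, z, hx, hz, rfl⟩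
    exact hX.lt_sie hx hz
  exact h hg

end Sys

end Cfsg.Agent.H24.Tensor
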